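/-
Orthogonal groups over an extension field inside orthogonal groups over the small field: the lifted form,
reflections, unipotent elements, and elements of the commutator subgroup built from them.
-/
import Cfsg.Agent.Lib.Transvec.OrthNondeg

set_option autoImplicit false
set_option linter.all false
set_option maxHeartbeats 1000000

namespace Cfsg.Agent.OrthFieldExt

open scoped Matrix
open Matrix Cfsg.Agent.Transvec Cfsg.Agent.Transvec.Orth

variable {ι : Type} [Fintype ι] [DecidableEq ι] {F : Type*} [Field F] {Q : (ι → F) → F}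
variable {K : Type*} [Field K] [Algebra F K] [Module K (ι → F)] [IsScalarTower F K (ι → F)] [FiniteDimensional F K]

/-- A field acting by self-adjoint maps on a quadratic space of odd characteristic, with a functional. -/
structure Ext (Q : (ι → F) → F) (ℓ : Module.Dual F K) : Prop where
  quad : Geo.IsNondegenerateQuadraticForm Q
  two : (2 : F) ≠ 0
  sa : ∀ (a : K) (x y : ι → F), pol Q (a • x) y = pol Q x (a • y)
  ell_ne : ℓ ≠ 0

variable {ℓ : Module.Dual F K} (hE : Ext Q ℓ)
include hE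

theorem two' : (2 : K) ≠ 0 := by
  have := (map_ne_zero (algebraMap F K)).2 hE.two
  rwa [map_ofNat] at this

theorem eq_of_ell {x y : K} (h : ∀ a : K, ℓ (a * x) = ℓ (a * y)) : x = y := by
  by_contra hne
  refine hE.ell_ne (LinearMap.ext fun b => ?_)
  rw [LinearMap.zero_apply, show b = b * (x - y)⁻¹ * x - b * (x - y)⁻¹ * y by
    rw [← mul_sub, mul_assoc, inv_mul_cancel₀ (sub_ne_zero.2 hne), mul_one], map_sub, h, sub_self]

theorem exists_ell_mul {x : K} (hx : x ≠ 0) : ∃ a : K, ℓ (a * x) ≠ 0 := by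
  by_contra h
  push Not at h
  exact hx (eq_of_ell hE fun a => by rw [h a, mul_zero, map_zero])

theorem exists_ell (c : F) : ∃ a : K, ℓ a = c := by
  obtain ⟨a, ha⟩ := exists_ell_mul hE (one_ne_zero (α := K))
  exact ⟨(c / ℓ (a * 1)) • (a * 1), by rw [map_smul, smul_eq_mul, div_mul_cancel₀ _ ha]⟩

theorem exists_rep (φ : Module.Dual F K) : ∃ c : K, ∀ a, ℓ (a * c) = φ a := by
  let Φ : K →ₗ[F] Module.Dual F K :=
    { toFun := fun c => ℓ.comp (LinearMap.mulRight F c)
      map_add' := fun a b => LinearMap.ext fun x => by simp [mul_add]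
      map_smul' := fun t a => LinearMap.ext fun x => by simp }
  have hinj : Function.Injective Φ := fun a b h => eq_of_ell hE fun x => LinearMap.congr_fun h x
  obtain ⟨c, hc⟩ := (LinearMap.injective_iff_surjective_of_finrank_eq_finrank
    (Subspace.dual_finrank_eq).symm).1 hinj φ
  exact ⟨c, fun a => LinearMap.congr_fun hc a⟩

/-- The value of the lifted form. -/
noncomputable def bVal (x y : ι → F) : K :=
  (exists_rep hE
    { toFun := fun a => pol Q (a • x) y
      map_add' := fun a b => by rw [add_smul, pol_add_left hE.quad]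
      map_smul' := fun c a => by rw [smul_assoc, pol_smul_left hE.quad]; rfl }).choose

theorem ell_bVal (a : K) (x y : ι → F) : ℓ (a * bVal hE x y) = pol Q (a • x) y :=
  (exists_rep hE
    { toFun := fun a => pol Q (a • x) y
      map_add' := fun a b => by rw [add_smul, pol_add_left hE.quad]
      map_smul' := fun c a => by rw [smul_assoc, pol_smul_left hE.quad]; rfl }).choose_spec a

/-- The lifted form. -/
noncomputable def B : (ι → F) →ₗ[K] (ι → F) →ₗ[K] K :=
  LinearMap.mk₂ K (bVal hE)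
    (fun x x' y => eq_of_ell hE fun a => by
      rw [ell_bVal, mul_add, map_add, ell_bVal, ell_bVal, smul_add, pol_add_left hE.quad])
    (fun c x y => eq_of_ell hE fun a => by rw [ell_bVal, smul_eq_mul, ← mul_assoc, ell_bVal, mul_smul])
    (fun x y y' => eq_of_ell hE fun a => by
      rw [ell_bVal, mul_add, map_add, ell_bVal, ell_bVal, pol_add_right hE.quad])
    (fun c x y => eq_of_ell hE fun a => by
      rw [ell_bVal, smul_eq_mul, ← mul_assoc, ell_bVal, ← hE.sa, ← mul_smul, mul_comm c])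

theorem ell_B (a : K) (x y : ι → F) : ℓ (a * B hE x y) = pol Q (a • x) y := ell_bVal hE a x y

theorem ell_B_one (x y : ι → F) : ℓ (B hE x y) = pol Q x y := by
  have := ell_B hE 1 x y
  rwa [one_mul, one_smul] at this

theorem B_comm (x y : ι → F) : B hE x y = B hE y x :=
  eq_of_ell hE fun a => by rw [ell_B, ell_B, pol_comm, hE.sa]

theorem q_eq (x : ι → F) : 2 * Q x = ℓ (B hE x x) := by rw [ell_B_one, pol_self hE.quad]

theorem q_zero_of {x : ι → F} (h : B hE x x = 0) : Q x = 0 := by
  have := q_eq hE x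
  rw [h, map_zero] at this
  exact (mul_eq_zero.1 this).resolve_left hE.two

theorem q_zero_iff {x : ι → F} : Q x = 0 ↔ ℓ (B hE x x) = 0 := by
  rw [← q_eq hE, mul_eq_zero, or_iff_right hE.two]

theorem exists_B_ne {x : ι → F} (hx : x ≠ 0) : ∃ y, B hE x y ≠ 0 := by
  obtain ⟨y, hy⟩ := (hE.quad.nondegenerate x hx).2
  exact ⟨y, fun h => hy (by show pol Q x y = 0; rw [← ell_B_one hE, h, map_zero])⟩

theorem eq_zero_of_B {x : ι → F} (h : ∀ y, B hE x y = 0) : x = 0 := by
  by_contra hx
  obtain ⟨y, hy⟩ := exists_B_ne hE hx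
  exact hy (h y)

/-! ### Elements of the isometry group which are linear over the field -/

omit hE in
/-- Linear over the field. -/
def KLin (K : Type*) [Field K] [Module K (ι → F)] (g : GL ι F) : Prop :=
  ∀ (a : K) (x : ι → F), mv g (a • x) = a • mv g x

omit hE in
theorem KLin.mul {g h : GL ι F} (hg : KLin K g) (hh : KLin K h) : KLin K (g * h) := fun a x => by
  rw [mv_mul, mv_mul, hh, hg]

omit hE in
theorem KLin.inv {g : GL ι F} (hg : KLin K g) : KLin K g⁻¹ := fun a x => mv_inj g (by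
  rw [mv_mv_inv, hg, mv_mv_inv])

theorem mem_iso {g : GL ι F} (hk : KLin K g) (hB : ∀ x, B hE (mv g x) (mv g x) = B hE x x) :
    g ∈ isometryGroup F Q :=
  mem_isometry.2 fun z => mul_left_cancel₀ hE.two (by rw [q_eq hE, q_eq hE, hB])

theorem B_mv {g : GL ι F} (hk : KLin K g) (hg : g ∈ isometryGroup F Q) (x y : ι → F) :
    B hE (mv g x) (mv g y) = B hE x y :=
  eq_of_ell hE fun a => by rw [ell_B, ell_B, ← hk, pol_mv hE.quad hg]

omit hE in
/-- An element from a pair of inverse linear maps. -/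
theorem exists_gl (f g : (ι → F) →ₗ[K] ι → F) (h₁ : ∀ z, f (g z) = z) (h₂ : ∀ z, g (f z) = z) :
    ∃ e : GL ι F, KLin K e ∧ ∀ z, mv e z = f z := by
  refine ⟨⟨LinearMap.toMatrix' (f.restrictScalars F), LinearMap.toMatrix' (g.restrictScalars F), ?_, ?_⟩,
    fun a z => ?_, fun z => ?_⟩
  · rw [← LinearMap.toMatrix'_comp, show (f.restrictScalars F).comp (g.restrictScalars F) = LinearMap.id from
      LinearMap.ext h₁, LinearMap.toMatrix'_id]
  · rw [← LinearMap.toMatrix'_comp, show (g.restrictScalars F).comp (f.restrictScalars F) = LinearMap.id from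
      LinearMap.ext h₂, LinearMap.toMatrix'_id]
  · simp [mv, LinearMap.toMatrix'_mulVec]
  · simp [mv, LinearMap.toMatrix'_mulVec]

/-- The reflection over the field. -/
def IsRefK (g : GL ι F) (c : ι → F) : Prop :=
  ∀ z, mv g z = z - (2 * B hE z c / B hE c c) • c

theorem exists_refK {c : ι → F} (hc : B hE c c ≠ 0) :
    ∃ g ∈ isometryGroup F Q, KLin K g ∧ g⁻¹ = g ∧ IsRefK hE g c := by
  let f : (ι → F) →ₗ[K] ι → F := LinearMap.id - (2 / B hE c c) • ((B hE).flip c).smulRight c
  have hf : ∀ z, f z = z - (2 * B hE z c / B hE c c) • c := fun z => by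
    simp [f, smul_smul, div_mul_eq_mul_div]
  have hff : ∀ z, f (f z) = z := fun z => by
    rw [hf, hf, map_sub, map_smul, LinearMap.sub_apply, LinearMap.smul_apply, smul_eq_mul,
      show B hE z c - 2 * B hE z c / B hE c c * B hE c c = -B hE z c by field_simp; ring]
    module
  obtain ⟨g, hg, hgz⟩ := exists_gl f f hff hff
  refine ⟨g, mem_iso hE hg fun x => ?_, hg, inv_eq_of_mul_eq_one_right (ext_mv fun z => ?_),
    fun z => by rw [hgz, hf]⟩
  · rw [hgz, hf]
    simp only [map_sub, map_smul, LinearMap.sub_apply, LinearMap.smul_apply, smul_eq_mul, B_comm hE c x]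
    field_simp
    ring
  · rw [mv_mul, hgz, hgz, hff, mv_one]

/-- The unipotent element attached to a singular vector. -/
def IsRho (g : GL ι F) (u y : ι → F) : Prop :=
  ∀ z, mv g z = z + B hE z u • y - (B hE z y + B hE y y / 2 * B hE z u) • u

theorem exists_rho {u y : ι → F} (hu : B hE u u = 0) (hy : B hE u y = 0) :
    ∃ g ∈ isometryGroup F Q, KLin K g ∧ IsRho hE g u y := by
  have hyu : B hE y u = 0 := by rw [B_comm]; exact hy
  have h2 := two' hE
  let f : (ι → F) → (ι → F) →ₗ[K] ι → F := fun y =>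
    LinearMap.id + ((B hE).flip u).smulRight y - ((B hE).flip y + (B hE y y / 2) • (B hE).flip u).smulRight u
  have hf : ∀ y z, f y z = z + B hE z u • y - (B hE z y + B hE y y / 2 * B hE z u) • u := fun y z => by
    simp [f]
  have key : ∀ (s : K) z, s * s = 1 → f (s • y) (f ((-s) • y) z) = z := fun s z hs => by
    rw [hf, hf]
    simp only [map_add, map_sub, map_smul, map_neg, LinearMap.add_apply, LinearMap.sub_apply,
      LinearMap.smul_apply, LinearMap.neg_apply, smul_eq_mul, hu, hy, hyu]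
    match_scalars <;> field_simp <;> ring
  obtain ⟨g, hg, hgz⟩ := exists_gl (f y) (f (-y))
    (fun z => by simpa using key 1 z (one_mul _)) (fun z => by simpa using key (-1) z (by ring))
  refine ⟨g, mem_iso hE hg fun x => ?_, hg, fun z => by rw [hgz, hf]⟩
  rw [hgz, hf]
  simp only [map_add, map_sub, map_smul, LinearMap.add_apply, LinearMap.sub_apply, LinearMap.smul_apply,
    smul_eq_mul, hu, hy, hyu, B_comm hE u x, B_comm hE y x]
  field_simp
  ring

theorem isRho_mul {g g' : GL ι F} {u y y' : ι → F} (hu : B hE u u = 0) (hy : B hE u y = 0)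
    (hy' : B hE u y' = 0) (h : IsRho hE g u y) (h' : IsRho hE g' u y') : IsRho hE (g * g') u (y + y') := by
  intro z
  have h2 := two' hE
  rw [mv_mul, h' z, h]
  simp only [map_add, map_sub, map_smul, LinearMap.add_apply, LinearMap.sub_apply, LinearMap.smul_apply,
    smul_eq_mul, hu, hy, hy', B_comm hE y' u, B_comm hE y y']
  match_scalars <;> field_simp <;> ring

/-! ### Orthogonal complements -/

/-- A space with orthogonal projections contains an anisotropic vector. -/
theorem exists_aniso {Z : Submodule K (ι → F)} (hproj : ∀ w, ∃ z ∈ Z, ∀ p ∈ Z, B hE z p = B hE w p) (hZ : Z ≠ ⊥) :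
    ∃ a ∈ Z, B hE a a ≠ 0 := by
  obtain ⟨p, hp, hp0⟩ := Z.ne_bot_iff.1 hZ
  obtain ⟨w, hw⟩ := exists_B_ne hE hp0
  obtain ⟨z, hz, hzp⟩ := hproj w
  by_contra h
  push Not at h
  have h3 := h _ (Z.add_mem hp hz)
  simp only [map_add, LinearMap.add_apply] at h3
  rw [h p hp, h z hz, B_comm hE p z, zero_add, add_zero, ← two_mul, hzp p hp, B_comm hE w p] at h3
  exact hw ((mul_eq_zero.1 h3).resolve_left (two' hE))

/-- The common perpendicular of a family. -/
noncomputable def perp {k : ℕ} (v : Fin k → ι → F) : Submodule K (ι → F) :=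
  LinearMap.ker (LinearMap.pi fun i => (B hE).flip (v i))

theorem mem_perp {k : ℕ} {v : Fin k → ι → F} {z : ι → F} : z ∈ perp hE v ↔ ∀ i, B hE z (v i) = 0 := by
  simp [perp, LinearMap.mem_ker, funext_iff]

theorem perp_ne_bot [Finite F] {k : ℕ} (v : Fin k → ι → F) (h : k < Module.finrank K (ι → F)) :
    perp hE v ≠ ⊥ :=
  haveI : Module.Finite K (ι → F) := Module.Finite.of_restrictScalars_finite F K _
  LinearMap.ker_ne_bot_of_finrank_lt (by rwa [Module.finrank_pi, Fintype.card_fin])

theorem exists_aniso_one [Finite F] {a : ι → F} (ha : B hE a a ≠ 0) (hd : 2 ≤ Module.finrank K (ι → F)) :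
    ∃ e, B hE e a = 0 ∧ B hE e e ≠ 0 := by
  obtain ⟨e, he, hee⟩ := exists_aniso hE (Z := perp hE ![a]) (fun w => by
    refine ⟨w - (B hE w a / B hE a a) • a, (mem_perp hE).2 fun i => ?_, fun p hp => ?_⟩
    · fin_cases i
      simp [ha]
    · have := (mem_perp hE).1 hp 0
      simp at this
      simp [B_comm hE a p, this]) (perp_ne_bot hE _ (by omega))
  exact ⟨e, by simpa using (mem_perp hE).1 he 0, hee⟩

theorem exists_aniso_two [Finite F] {a b : ι → F} (ha : B hE a a ≠ 0) (hb : B hE b b ≠ 0) (hab : B hE a b = 0)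
    (hd : 3 ≤ Module.finrank K (ι → F)) : ∃ e, B hE e a = 0 ∧ B hE e b = 0 ∧ B hE e e ≠ 0 := by
  obtain ⟨e, he, hee⟩ := exists_aniso hE (Z := perp hE ![a, b]) (fun w => by
    refine ⟨w - (B hE w a / B hE a a) • a - (B hE w b / B hE b b) • b, (mem_perp hE).2 fun i => ?_, fun p hp => ?_⟩
    · fin_cases i <;> simp [ha, hb, hab, B_comm hE b a]
    · have h0 := (mem_perp hE).1 hp 0
      have h1 := (mem_perp hE).1 hp 1
      simp at h0 h1
      simp [B_comm hE a p, B_comm hE b p, h0, h1]) (perp_ne_bot hE _ (by omega))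
  exact ⟨e, by simpa using (mem_perp hE).1 he 0, by simpa using (mem_perp hE).1 he 1, hee⟩

/-- A binary diagonal form represents everything. -/
theorem exists_root [Finite F] {a b : K} (ha : a ≠ 0) (hb : b ≠ 0) (c : K) : ∃ x y : K, x * x * a + y * y * b = c := by
  haveI : Finite K := Module.finite_of_finite F
  haveI : Fintype K := Fintype.ofFinite K
  obtain ⟨x, y, h⟩ := FiniteField.exists_root_sum_quadratic
    (f := Polynomial.C a * Polynomial.X ^ 2) (g := Polynomial.C b * Polynomial.X ^ 2 - Polynomial.C c)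
    (Polynomial.degree_C_mul_X_pow 2 ha)
    (by rw [Polynomial.degree_sub_C (by rw [Polynomial.degree_C_mul_X_pow 2 hb]; norm_num),
      Polynomial.degree_C_mul_X_pow 2 hb]; rfl)
    (Nat.odd_iff.1 (Nat.odd_iff.2 (FiniteField.odd_card_of_char_ne_two fun h => two' hE (by
      haveI : CharP K 2 := ringChar.eq_iff.1 h
      exact CharP.cast_eq_zero K 2))))
  refine ⟨x, y, ?_⟩
  simp only [Polynomial.eval_sub, Polynomial.eval_mul, Polynomial.eval_C, Polynomial.eval_pow,
    Polynomial.eval_X] at h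
  linear_combination h

theorem exists_singular [Finite F] (hd : 3 ≤ Module.finrank K (ι → F)) : ∃ u, u ≠ 0 ∧ B hE u u = 0 := by
  haveI : Module.Finite K (ι → F) := Module.Finite.of_restrictScalars_finite F K _
  obtain ⟨a, -, ha⟩ := exists_aniso hE (Z := ⊤) (fun w => ⟨w, trivial, fun _ _ => rfl⟩) (fun h => by
    rw [← finrank_top, h, finrank_bot] at hd; omega)
  obtain ⟨b, hba, hb⟩ := exists_aniso_one hE ha (by omega)
  obtain ⟨e, hea, heb, he⟩ := exists_aniso_two hE ha hb (by rw [B_comm]; exact hba) hd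
  obtain ⟨x, y, hxy⟩ := exists_root hE ha hb (-B hE e e)
  refine ⟨x • a + y • b + e, fun h => he ?_, ?_⟩
  · have := congrArg (fun v => B hE v e) h
    simpa [B_comm hE a e, B_comm hE b e, hea, heb] using this
  · simp only [map_add, map_smul, LinearMap.add_apply, LinearMap.smul_apply, smul_eq_mul, hba, hea, heb,
      B_comm hE a b, B_comm hE a e, B_comm hE b e]
    linear_combination hxy

theorem exists_partner {u : ι → F} (hu : u ≠ 0) (huu : B hE u u = 0) : ∃ f, B hE f f = 0 ∧ B hE u f = 1 := by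
  have h2 := two' hE
  obtain ⟨y, hy⟩ := exists_B_ne hE hu
  refine ⟨(B hE u y)⁻¹ • y - (B hE y y / (2 * (B hE u y) ^ 2)) • u, ?_, ?_⟩
  · simp only [map_sub, map_smul, LinearMap.sub_apply, LinearMap.smul_apply, smul_eq_mul, huu, B_comm hE y u]
    field_simp
    ring
  · simp only [map_sub, map_smul, smul_eq_mul, huu, mul_zero, sub_zero]
    exact inv_mul_cancel₀ hy

/-- A hyperbolic pair over the field. -/
def IsHyp (u f : ι → F) : Prop := B hE u u = 0 ∧ B hE f f = 0 ∧ B hE u f = 1

/-- Orthogonal to a hyperbolic pair. -/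
def InP (u f z : ι → F) : Prop := B hE z u = 0 ∧ B hE z f = 0

theorem IsHyp.symm {u f : ι → F} (h : IsHyp hE u f) : IsHyp hE f u :=
  ⟨h.2.1, h.1, by rw [B_comm]; exact h.2.2⟩

theorem IsHyp.ne_left {u f : ι → F} (h : IsHyp hE u f) : u ≠ 0 := fun h0 => by
  have := h.2.2
  rw [h0, map_zero, LinearMap.zero_apply] at this
  exact zero_ne_one this

theorem proj_hyp {u f : ι → F} (h : IsHyp hE u f) (w : ι → F) :
    InP hE u f (w - B hE w f • u - B hE w u • f) := by
  obtain ⟨hu, hf, huf⟩ := h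
  constructor <;> simp [hu, hf, huf, B_comm hE f u]

theorem InP.smul {u f z : ι → F} (h : InP hE u f z) (a : K) : InP hE u f (a • z) := by
  constructor <;> simp [h.1, h.2]

theorem InP.add {u f z w : ι → F} (h : InP hE u f z) (h' : InP hE u f w) : InP hE u f (z + w) := by
  constructor <;> simp [h.1, h.2, h'.1, h'.2]

theorem exists_perp_aniso [Finite F] {u f : ι → F} (h : IsHyp hE u f) (hd : 3 ≤ Module.finrank K (ι → F)) :
    ∃ a, InP hE u f a ∧ B hE a a ≠ 0 := by
  obtain ⟨a, ha, haa⟩ := exists_aniso hE (Z := perp hE ![u, f]) (fun w => by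
    refine ⟨w - B hE w f • u - B hE w u • f, (mem_perp hE).2 fun i => ?_, fun p hp => ?_⟩
    · fin_cases i
      · exact (proj_hyp hE h w).1
      · exact (proj_hyp hE h w).2
    · have h0 := (mem_perp hE).1 hp 0
      have h1 := (mem_perp hE).1 hp 1
      simp at h0 h1
      simp [B_comm hE u p, B_comm hE f p, h0, h1]) (perp_ne_bot hE _ (by omega))
  exact ⟨a, ⟨by simpa using (mem_perp hE).1 ha 0, by simpa using (mem_perp hE).1 ha 1⟩, haa⟩

theorem exists_frame [Finite F] {u f : ι → F} (h : IsHyp hE u f) (hd : 4 ≤ Module.finrank K (ι → F)) :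
    ∃ a e, InP hE u f a ∧ InP hE u f e ∧ B hE a a ≠ 0 ∧ B hE e e ≠ 0 ∧ B hE a e = 0 := by
  obtain ⟨a, ha, haa⟩ := exists_aniso hE (Z := perp hE ![u, f]) (fun w => by
    refine ⟨w - B hE w f • u - B hE w u • f, (mem_perp hE).2 fun i => ?_, fun p hp => ?_⟩
    · fin_cases i
      · exact (proj_hyp hE h w).1
      · exact (proj_hyp hE h w).2
    · have h0 := (mem_perp hE).1 hp 0
      have h1 := (mem_perp hE).1 hp 1
      simp at h0 h1
      simp [B_comm hE u p, B_comm hE f p, h0, h1]) (perp_ne_bot hE _ (by omega))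
  have haP : InP hE u f a := ⟨by simpa using (mem_perp hE).1 ha 0, by simpa using (mem_perp hE).1 ha 1⟩
  obtain ⟨e, he, hee⟩ := exists_aniso hE (Z := perp hE ![u, f, a]) (fun w => by
    refine ⟨w - B hE w f • u - B hE w u • f - (B hE w a / B hE a a) • a, (mem_perp hE).2 fun i => ?_, fun p hp => ?_⟩
    · fin_cases i <;>
        simp [h.1, h.2.1, h.2.2, B_comm hE f u, haP.1, haP.2, haa, B_comm hE u a, B_comm hE f a]
    · have h0 := (mem_perp hE).1 hp 0
      have h1 := (mem_perp hE).1 hp 1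
      have h3 := (mem_perp hE).1 hp 2
      simp at h0 h1 h3
      simp [B_comm hE u p, B_comm hE f p, B_comm hE a p, h0, h1, h3]) (perp_ne_bot hE _ (by omega))
  exact ⟨a, e, haP, ⟨by simpa using (mem_perp hE).1 he 0, by simpa using (mem_perp hE).1 he 1⟩, haa, hee,
    by rw [B_comm]; simpa using (mem_perp hE).1 he 2⟩

theorem exists_value [Finite F] {u f : ι → F} (h : IsHyp hE u f) (hd : 4 ≤ Module.finrank K (ι → F)) (c : K) :
    ∃ y, InP hE u f y ∧ B hE y y = c := by
  obtain ⟨a, e, ha, he, haa, hee, hae⟩ := exists_frame hE h hd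
  obtain ⟨x, y, hxy⟩ := exists_root hE haa hee c
  refine ⟨x • a + y • e, (ha.smul hE x).add hE (he.smul hE y), ?_⟩
  simp only [map_add, map_smul, LinearMap.add_apply, LinearMap.smul_apply, smul_eq_mul, hae, B_comm hE e a]
  linear_combination hxy

/-! ### Members of an overgroup -/

omit hE in
theorem comm_mem_omega {a b : GL ι F} (ha : a ∈ isometryGroup F Q) (hb : b ∈ isometryGroup F Q) :
    a * b * a⁻¹ * b⁻¹ ∈ Geo.omegaGL Q := by
  rw [← commutatorElement_def, Geo.omegaGL, Omega, commutator_def, Subgroup.map_commutator]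
  exact Subgroup.commutator_mem_commutator ⟨⟨a, ha⟩, Subgroup.mem_top _, rfl⟩ ⟨⟨b, hb⟩, Subgroup.mem_top _, rfl⟩

omit hE in
/-- An overgroup of the elements linear over the field. -/
structure Over (Q : (ι → F) → F) (K : Type*) [Field K] [Module K (ι → F)] (M : Subgroup (GL ι F)) : Prop where
  le : M ≤ Geo.omegaGL Q
  ge : ∀ g ∈ Geo.omegaGL Q, KLin K g → g ∈ M

variable {M : Subgroup (GL ι F)} (hM : Over Q K M)
include hM

theorem M_iso {g : GL ι F} (hg : g ∈ M) : g ∈ isometryGroup F Q := omega_le_isometry hE.quad (hM.le hg)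

omit hE in
theorem comm_mem {a b : GL ι F} (ha : a ∈ isometryGroup F Q) (hb : b ∈ isometryGroup F Q) (hak : KLin K a)
    (hbk : KLin K b) : a * b * a⁻¹ * b⁻¹ ∈ M :=
  hM.ge _ (comm_mem_omega ha hb) (((hak.mul hbk).mul hak.inv).mul hbk.inv)

/-- The product of two reflections with vectors of equal value. -/
theorem exists_pair_mem {a b : ι → F} (hab : B hE a a = B hE b b) (ha : B hE a a ≠ 0)
    (hne : B hE a a ≠ B hE a b) :
    ∃ g ∈ M, KLin K g ∧ g ∈ isometryGroup F Q ∧ ∀ z, mv g z = z - (2 * B hE z b / B hE a a) • b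
      - (2 * (B hE z a - 2 * B hE z b / B hE a a * B hE a b) / B hE a a) • a := by
  have hc : B hE (a - b) (a - b) ≠ 0 := by
    intro h
    simp only [map_sub, LinearMap.sub_apply, B_comm hE b a, ← hab] at h
    exact mul_ne_zero (two' hE) (sub_ne_zero.2 hne) (by linear_combination h)
  obtain ⟨r, hr, hrk, hri, hrz⟩ := exists_refK hE ha
  obtain ⟨s, hs, hsk, hsi, hsz⟩ := exists_refK hE hc
  have hsa : mv s a = b := by
    rw [hsz]
    have e : 2 * B hE a (a - b) / B hE (a - b) (a - b) = 1 := by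
      rw [div_eq_one_iff_eq hc]
      simp only [map_sub, LinearMap.sub_apply, B_comm hE b a, ← hab]
      ring
    rw [e, one_smul, sub_sub_cancel]
  refine ⟨r * s * r⁻¹ * s⁻¹, comm_mem hM hr hs hrk hsk, ((hrk.mul hsk).mul hrk.inv).mul hsk.inv,
    Subgroup.mul_mem _ (Subgroup.mul_mem _ (Subgroup.mul_mem _ hr hs) (Subgroup.inv_mem _ hr)) (Subgroup.inv_mem _ hs),
    fun z => ?_⟩
  rw [hri, hsi]
  have hsz' : mv (s * r * s) z = z - (2 * B hE z b / B hE b b) • b := by
    rw [mv_mul, mv_mul, hrz, mv_sub, hsk, hsa, ← mv_mul s s,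
      show s * s = 1 by conv_lhs => arg 1; rw [← hsi]
                        exact inv_mul_cancel s,
      mv_one, ← hab, ← B_mv hE hsk hs z b]
    congr 3
    rw [show mv s b = a by rw [← hsa, ← mv_mul, show s * s = 1 by
      conv_lhs => arg 1; rw [← hsi]
      exact inv_mul_cancel s, mv_one]]
  rw [show r * s * r * s = r * (s * r * s) by group, mv_mul, hsz', hrz, ← hab]
  simp only [map_sub, map_smul, LinearMap.sub_apply, LinearMap.smul_apply, smul_eq_mul, B_comm hE b a]

/-- A product of two orthogonal reflections with vectors of equal value. -/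
theorem exists_double {a b : ι → F} (hab : B hE a a = B hE b b) (ha : B hE a a ≠ 0) (h0 : B hE a b = 0) :
    ∃ g ∈ M, KLin K g ∧ g ∈ isometryGroup F Q ∧
      ∀ z, mv g z = z - (2 * B hE z b / B hE a a) • b - (2 * B hE z a / B hE a a) • a := by
  obtain ⟨g, hg, hgk, hgi, hgz⟩ := exists_pair_mem hE hM hab ha (by rw [h0]; exact ha)
  exact ⟨g, hg, hgk, hgi, fun z => by rw [hgz, h0, mul_zero, sub_zero]⟩

theorem exists_rho_mem [Finite F] (hd : 3 ≤ Module.finrank K (ι → F)) {u y : ι → F} (hu : B hE u u = 0)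
    (hy : B hE u y = 0) : ∃ g ∈ M, KLin K g ∧ IsRho hE g u y := by
  have h2 := two' hE
  have aniso : ∀ y, B hE u y = 0 → B hE y y ≠ 0 → ∃ g ∈ M, KLin K g ∧ IsRho hE g u y := by
    intro y hy hyy
    have hy2 : B hE u ((2 : K)⁻¹ • y) = 0 := by simp [hy]
    obtain ⟨g, hg, hgk, hgz⟩ := exists_rho hE hu hy2
    obtain ⟨r, hr, hrk, hri, hrz⟩ := exists_refK hE hyy
    refine ⟨g * r * g⁻¹ * r⁻¹, comm_mem hM hg hr hgk hrk, ((hgk.mul hrk).mul hgk.inv).mul hrk.inv, ?_⟩
    obtain ⟨g', hg', -, hg'z⟩ := exists_rho hE hu (y := -((2 : K)⁻¹ • y)) (by simp [hy])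
    have hgi : g⁻¹ = g' := inv_eq_of_mul_eq_one_right (ext_mv fun z => by
      rw [isRho_mul hE hu hy2 (by simp [hy]) hgz hg'z z, mv_one]
      simp)
    have hc : IsRho hE (r * g⁻¹ * r) u ((2 : K)⁻¹ • y) := by
      intro z
      rw [hgi, mv_mul, mv_mul, hg'z, hrz, hrz]
      simp only [map_add, map_sub, map_smul, map_neg, LinearMap.add_apply, LinearMap.sub_apply,
        LinearMap.smul_apply, LinearMap.neg_apply, smul_eq_mul, hy, hu, B_comm hE y u]
      match_scalars <;> field_simp <;> ring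
    have := isRho_mul hE hu hy2 hy2 hgz hc
    rw [show (2 : K)⁻¹ • y + (2 : K)⁻¹ • y = y by match_scalars; field_simp; ring] at this
    rwa [hri, show g * r * g⁻¹ * r = g * (r * g⁻¹ * r) by group]
  by_cases hyy : B hE y y = 0
  swap
  · exact aniso y hy hyy
  obtain ⟨w, hwu, hww⟩ : ∃ w, B hE u w = 0 ∧ B hE w w ≠ 0 := by
    rcases eq_or_ne u 0 with rfl | hu0
    · obtain ⟨w, -, hw⟩ := exists_aniso hE (Z := ⊤) (fun w => ⟨w, trivial, fun _ _ => rfl⟩) (fun h => by
        rw [← finrank_top, h, finrank_bot] at hd; omega)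
      exact ⟨w, by simp, hw⟩
    obtain ⟨f, hff, huf⟩ := exists_partner hE hu0 hu
    obtain ⟨a, ha, haa⟩ := exists_perp_aniso hE ⟨hu, hff, huf⟩ hd
    exact ⟨a, by rw [B_comm]; exact ha.1, haa⟩
  obtain ⟨s, hs, hsw⟩ : ∃ s : K, s ≠ 0 ∧ B hE (y + s • w) (y + s • w) ≠ 0 := by
    by_contra h
    push Not at h
    have e1 := h 1 one_ne_zero
    have e2 := h (-1) (neg_ne_zero.2 one_ne_zero)
    simp [hyy] at e1 e2
    exact hww ((mul_eq_zero.1 (by linear_combination e1 + e2 : 2 * B hE w w = 0)).resolve_left h2)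
  obtain ⟨g₁, hg₁, hk₁, hz₁⟩ := aniso _ (by simp [hy, hwu]) hsw
  obtain ⟨g₂, hg₂, hk₂, hz₂⟩ := aniso (-(s • w)) (by simp [hwu]) (by simp [hs, hww])
  refine ⟨g₁ * g₂, M.mul_mem hg₁ hg₂, hk₁.mul hk₂, ?_⟩
  have := isRho_mul hE hu (by simp [hy, hwu]) (by simp [hwu]) hz₁ hz₂
  rwa [add_neg_cancel_right] at this

/-- Exchanging two singular lines which are not orthogonal. -/
theorem exists_swap [Finite F] (hd : 4 ≤ Module.finrank K (ι → F)) {u v : ι → F} (hu : B hE u u = 0)
    (hv : B hE v v = 0) (huv : B hE u v ≠ 0) : ∃ g ∈ M, KLin K g ∧ mv g u = v ∧ mv g v = u := by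
  have h2 := two' hE
  have hh : IsHyp hE u ((B hE u v)⁻¹ • v) := ⟨hu, by simp [hv], by simp [huv]⟩
  obtain ⟨w, hw, hww⟩ := exists_value hE hh hd (-2 * B hE u v)
  have hwv : B hE w v = 0 := by
    have := hw.2
    simpa [huv] using this
  have hq : B hE (u - v) (u - v) = -2 * B hE u v := by
    simp [hu, hv, B_comm hE v u]; ring
  obtain ⟨g, hg, hgk, -, hgz⟩ := exists_double hE hM (a := u - v) (b := w) (by rw [hq, hww])
    (by rw [hq]; exact mul_ne_zero (neg_ne_zero.2 h2) huv)
    (by simp [B_comm hE u w, B_comm hE v w, hw.1, hwv])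
  refine ⟨g, hg, hgk, ?_, ?_⟩ <;> rw [hgz, hq]
  · simp only [B_comm hE u w, hw.1, mul_zero, zero_div, zero_smul, sub_zero, map_sub, hu]
    match_scalars <;> field_simp <;> ring
  · simp only [B_comm hE v w, hwv, mul_zero, zero_div, zero_smul, sub_zero, map_sub, hv, B_comm hE v u]
    match_scalars <;> field_simp <;> ring

end Cfsg.Agent.OrthFieldExt
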