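/-
Overgroups preserving the singular vectors of the lifted form are semilinear; otherwise a conjugate line meets
a singular line and is not orthogonal to it.
-/
import Cfsg.Agent.Lib.OrthFieldExt.Setup

set_option autoImplicit false
set_option linter.all false
set_option maxHeartbeats 1000000

namespace Cfsg.Agent.OrthFieldExt

open scoped Matrix
open Matrix Cfsg.Agent.Transvec Cfsg.Agent.Transvec.Orth

variable {ι : Type} [Fintype ι] [DecidableEq ι] {F : Type*} [Field F] {Q : (ι → F) → F}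
variable {K : Type*} [Field K] [Algebra F K] [Module K (ι → F)] [IsScalarTower F K (ι → F)] [FiniteDimensional F K]

/-- Semilinear over the field. -/
def Semi (K : Type*) [Field K] [Module K (ι → F)] (g : GL ι F) : Prop :=
  ∃ σ : K → K, ∀ (a : K) (x : ι → F), mv g (a • x) = σ a • mv g x

variable {ℓ : Module.Dual F K} (hE : Ext Q ℓ)
include hE

/-- Orthogonal projections onto a subspace exist. -/
def HasProj (Z : Submodule K (ι → F)) : Prop := ∀ w, ∃ z ∈ Z, ∀ p ∈ Z, B hE z p = B hE w p

theorem hasProj_top : HasProj hE ⊤ := fun w => ⟨w, trivial, fun _ _ => rfl⟩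

theorem HasProj.inf {Z : Submodule K (ι → F)} (hZ : HasProj hE Z) {a : ι → F} (ha : a ∈ Z) (haa : B hE a a ≠ 0) :
    HasProj hE (Z ⊓ LinearMap.ker ((B hE).flip a)) := fun w => by
  obtain ⟨z, hz, hzp⟩ := hZ w
  refine ⟨z - (B hE z a / B hE a a) • a, ⟨Z.sub_mem hz (Z.smul_mem _ ha), by simp [haa]⟩, fun p hp => ?_⟩
  have h0 : B hE p a = 0 := hp.2
  simp [← hzp p hp.1, B_comm hE a p, h0]

theorem HasProj.inf_hyp {Z : Submodule K (ι → F)} (hZ : HasProj hE Z) {u f : ι → F} (hu : u ∈ Z) (hf : f ∈ Z)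
    (h : IsHyp hE u f) : HasProj hE (Z ⊓ LinearMap.ker ((B hE).flip u) ⊓ LinearMap.ker ((B hE).flip f)) := fun w => by
  obtain ⟨z, hz, hzp⟩ := hZ w
  obtain ⟨h1, h2⟩ := proj_hyp hE h z
  refine ⟨z - B hE z f • u - B hE z u • f,
    ⟨⟨Z.sub_mem (Z.sub_mem hz (Z.smul_mem _ hu)) (Z.smul_mem _ hf), h1⟩, h2⟩, fun p hp => ?_⟩
  have e1 : B hE p u = 0 := hp.1.2
  have e2 : B hE p f = 0 := hp.2
  simp [← hzp p hp.1.1, B_comm hE u p, B_comm hE f p, e1, e2]

omit hE in
theorem finrank_inf_ker [Finite F] (Z : Submodule K (ι → F)) (φ : (ι → F) →ₗ[K] K) :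
    Module.finrank K Z ≤ Module.finrank K ↥(Z ⊓ LinearMap.ker φ) + 1 := by
  haveI : Module.Finite K (ι → F) := Module.Finite.of_restrictScalars_finite F K _
  have h1 := LinearMap.finrank_range_add_finrank_ker (φ.domRestrict Z)
  have h2 := Submodule.finrank_le (LinearMap.range (φ.domRestrict Z))
  rw [Module.finrank_self] at h2
  have h3 : (LinearMap.ker (φ.domRestrict Z)).map Z.subtype ≤ Z ⊓ LinearMap.ker φ := by
    rintro _ ⟨v, hv, rfl⟩
    exact ⟨v.2, hv⟩
  have h4 := Submodule.finrank_mono h3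
  rw [Submodule.finrank_map_subtype_eq] at h4
  omega

omit hE in
theorem ne_bot_of_finrank {Z : Submodule K (ι → F)} (h : 1 ≤ Module.finrank K Z) : Z ≠ ⊥ := fun h0 => by
  rw [h0, finrank_bot] at h; omega

theorem exists_singular_in [Finite F] {Z : Submodule K (ι → F)} (hZ : HasProj hE Z) (h3 : 3 ≤ Module.finrank K Z) :
    ∃ u ∈ Z, u ≠ 0 ∧ B hE u u = 0 := by
  obtain ⟨a, ha, haa⟩ := exists_aniso hE hZ (ne_bot_of_finrank (by omega))
  have d1 := finrank_inf_ker (F := F) Z ((B hE).flip a)
  have hZ1 := hZ.inf hE ha haa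
  obtain ⟨b, hb, hbb⟩ := exists_aniso hE hZ1 (ne_bot_of_finrank (by omega))
  have d2 := finrank_inf_ker (F := F) (Z ⊓ LinearMap.ker ((B hE).flip a)) ((B hE).flip b)
  obtain ⟨e, he, hee⟩ := exists_aniso hE (hZ1.inf hE hb hbb) (ne_bot_of_finrank (by omega))
  have hba : B hE b a = 0 := hb.2
  have hea : B hE e a = 0 := he.1.2
  have heb : B hE e b = 0 := he.2
  obtain ⟨x, y, hxy⟩ := exists_root hE haa hbb (-B hE e e)
  refine ⟨x • a + y • b + e, Z.add_mem (Z.add_mem (Z.smul_mem x ha) (Z.smul_mem y hb.1)) he.1.1, fun h => hee ?_, ?_⟩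
  · have := congrArg (fun v => B hE v e) h
    simpa [B_comm hE a e, B_comm hE b e, hea, heb] using this
  · simp only [map_add, map_smul, LinearMap.add_apply, LinearMap.smul_apply, smul_eq_mul, hba, hea, heb,
      B_comm hE a b, B_comm hE a e, B_comm hE b e]
    linear_combination hxy

theorem exists_partner_in {Z : Submodule K (ι → F)} (hZ : HasProj hE Z) {u : ι → F} (hu : u ∈ Z) (hu0 : u ≠ 0)
    (huu : B hE u u = 0) : ∃ f ∈ Z, IsHyp hE u f := by
  obtain ⟨w, hw⟩ := exists_B_ne hE hu0
  obtain ⟨z, hz, hzp⟩ := hZ w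
  have hzu : B hE u z = B hE u w := by rw [B_comm, hzp u hu, B_comm]
  have h2 := two' hE
  refine ⟨(B hE u w)⁻¹ • z - (B hE z z / (2 * (B hE u w) ^ 2)) • u, Z.sub_mem (Z.smul_mem _ hz) (Z.smul_mem _ hu),
    huu, ?_, ?_⟩
  · simp only [map_sub, map_smul, LinearMap.sub_apply, LinearMap.smul_apply, smul_eq_mul, huu, B_comm hE z u, hzu]
    field_simp
    ring
  · simp only [map_sub, map_smul, smul_eq_mul, huu, mul_zero, sub_zero, hzu]
    exact inv_mul_cancel₀ hw

/-- Data for moving a non-zero vector of a large subspace. -/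
theorem exists_move_vec [Finite F] {Z : Submodule K (ι → F)} (hZ : HasProj hE Z) (h3 : 3 ≤ Module.finrank K Z)
    {p : ι → F} (hp : p ∈ Z) (hp0 : p ≠ 0) :
    ∃ u ∈ Z, ∃ y ∈ Z, B hE u u = 0 ∧ B hE u y = 0 ∧ B hE p u ≠ 0 ∧ B hE y y ≠ 0 := by
  have h2 := two' hE
  obtain ⟨u, hu, huu, hpu⟩ : ∃ u ∈ Z, B hE u u = 0 ∧ B hE p u ≠ 0 := by
    obtain ⟨v, hv, hv0, hvv⟩ := exists_singular_in hE hZ h3
    by_cases h1 : B hE p v = 0
    swap
    · exact ⟨v, hv, hvv, h1⟩
    obtain ⟨d, hd, hh⟩ := exists_partner_in hE hZ hv hv0 hvv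
    by_cases h4 : B hE p d = 0
    swap
    · exact ⟨d, hd, hh.2.1, h4⟩
    obtain ⟨w, hw⟩ := exists_B_ne hE hp0
    obtain ⟨z, hz, hzp⟩ := hZ w
    obtain ⟨k1, k2⟩ := proj_hyp hE hh z
    set z' := z - B hE z d • v - B hE z v • d with hz'
    refine ⟨(-(B hE z' z' / 2)) • v + d + z', Z.add_mem (Z.add_mem (Z.smul_mem _ hv) hd)
      (Z.sub_mem (Z.sub_mem hz (Z.smul_mem _ hv)) (Z.smul_mem _ hd)), ?_, ?_⟩
    · simp only [map_add, map_smul, map_neg, LinearMap.add_apply, LinearMap.smul_apply, smul_eq_mul, hvv, hh.2.1,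
        hh.2.2, B_comm hE v z', B_comm hE d z', B_comm hE d v, k1, k2]
      field_simp
      ring
    · intro h0
      apply hw
      rw [B_comm hE p w, ← hzp p hp]
      rw [hz'] at h0
      simpa [h1, h4, B_comm hE z p] using h0
  have hu0 : u ≠ 0 := fun h => hpu (by rw [h, map_zero])
  obtain ⟨d, hd, hh⟩ := exists_partner_in hE hZ hu hu0 huu
  have d1 := finrank_inf_ker (F := F) Z ((B hE).flip u)
  have d2 := finrank_inf_ker (F := F) (Z ⊓ LinearMap.ker ((B hE).flip u)) ((B hE).flip d)
  obtain ⟨y, hy, hyy⟩ := exists_aniso hE (hZ.inf_hyp hE hu hd hh) (ne_bot_of_finrank (by omega))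
  exact ⟨u, hu, y, hy.1.1, huu, by rw [B_comm]; exact hy.1.2, hpu, hyy⟩

theorem exists_ell_sq_ne {c : K} (hc : c ≠ 0) : ∃ s : K, ℓ (s * s * c) ≠ 0 := by
  by_contra h
  push Not at h
  refine hc (eq_of_ell hE fun a => ?_)
  rw [mul_zero, map_zero]
  have e : ∀ x : K, (4 : F) • (x * c) = (x + 1) * (x + 1) * c - (x - 1) * (x - 1) * c := fun x => by
    rw [Algebra.smul_def, map_ofNat]; ring
  have := congrArg ℓ (e a)
  rw [map_smul, map_sub, h, h, sub_zero, smul_eq_mul] at this
  refine (mul_eq_zero.1 this).resolve_left ?_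
  rw [show (4 : F) = 2 * 2 by norm_num]
  exact mul_ne_zero hE.two hE.two

/-- The line of a singular vector inside the singular vectors. -/
theorem mem_line_of_orth {u x : ι → F} (hu0 : u ≠ 0) (huu : B hE u u = 0) (hxx : B hE x x = 0) (hxu : B hE x u = 0)
    (h : ∀ y, B hE y y = 0 → B hE y u = 0 → B hE x y = 0) : ∃ t : K, x = t • u := by
  obtain ⟨f, hff, huf⟩ := exists_partner hE hu0 huu
  have hh : IsHyp hE u f := ⟨huu, hff, huf⟩
  refine ⟨B hE x f, ?_⟩
  by_contra hne
  set p := x - B hE x f • u with hp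
  have hpne : p ≠ 0 := sub_ne_zero.2 hne
  obtain ⟨w, hw⟩ := exists_B_ne hE hpne
  obtain ⟨h1, h2⟩ := proj_hyp hE hh w
  set y := w - B hE w f • u - B hE w u • f with hy
  have hpu : B hE p u = 0 := by simp [hp, hxu, huu]
  have hpf : B hE p f = 0 := by simp [hp, huf]
  have hpy : B hE p y = B hE p w := by simp [hy, hpu, hpf]
  have hpp : B hE p p = 0 := by simp [hp, hxx, huu, hxu, B_comm hE u x]
  have h2' := two' hE
  have hpw : B hE p w ≠ 0 := hw
  refine hw ?_
  have hs : B hE (y + (-B hE y y / (2 * B hE p w)) • p) (y + (-B hE y y / (2 * B hE p w)) • p) = 0 := by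
    simp only [map_add, map_smul, LinearMap.add_apply, LinearMap.smul_apply, smul_eq_mul, hpp, B_comm hE y p, hpy]
    field_simp
    ring
  have := h _ hs (by simp [h1, hpu])
  have hxp : ∀ v, B hE x v = B hE p v + B hE x f * B hE u v := fun v => by simp [hp]
  rw [map_add, map_smul, hxp y, hxp p, hpp, hpy, B_comm hE u p, hpu, B_comm hE u y, h1] at this
  simpa using this

variable {M : Subgroup (GL ι F)} (hM : Over Q K M)
include hM

theorem semi_of_preserves [Finite F] (hd : 3 ≤ Module.finrank K (ι → F))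
    (hp : ∀ g ∈ M, ∀ v, B hE v v = 0 → B hE (mv g v) (mv g v) = 0) {g : GL ι F} (hg : g ∈ M) : Semi K g := by
  have h2 := two' hE
  -- orthogonality between singular vectors is preserved
  have horth : ∀ g ∈ M, ∀ x y, B hE x x = 0 → B hE y y = 0 → B hE x y = 0 → B hE (mv g x) (mv g y) = 0 := by
    intro g hg x y hx hy hxy
    have := hp g hg (x + y) (by simp [hx, hy, hxy, B_comm hE y x])
    rw [mv_add] at this
    simp only [map_add, LinearMap.add_apply, hp g hg x hx, hp g hg y hy, B_comm hE (mv g y) (mv g x),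
      zero_add, add_zero, ← two_mul] at this
    exact (mul_eq_zero.1 this).resolve_left h2
  have hline : ∀ g ∈ M, ∀ u, B hE u u = 0 → ∀ a : K, ∃ t : K, mv g (a • u) = t • mv g u := by
    intro g hg u hu a
    rcases eq_or_ne u 0 with rfl | hu0
    · exact ⟨0, by simp [mv_zero]⟩
    refine mem_line_of_orth hE (fun h => hu0 (mv_inj g (h.trans (mv_zero g).symm))) (hp g hg u hu)
      (hp g hg _ (by simp [hu])) (horth g hg _ _ (by simp [hu]) hu (by simp [hu])) fun y hy hyu => ?_
    have h1 := horth g⁻¹ (M.inv_mem hg) _ _ hy (hp g hg u hu) hyu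
    rw [mv_inv_mv] at h1
    have h3 := horth g hg (a • u) (mv g⁻¹ y) (by simp [hu]) (hp _ (M.inv_mem hg) y hy)
      (by simp [B_comm hE u, h1])
    rwa [mv_mv_inv] at h3
  obtain ⟨e, he0, hee⟩ := exists_singular hE (by omega)
  obtain ⟨f, hff, hef⟩ := exists_partner hE he0 hee
  have hh : IsHyp hE e f := ⟨hee, hff, hef⟩
  have hf0 : f ≠ 0 := hh.symm.ne_left
  choose σe hσe using hline g hg e hee
  choose σf hσf using hline g hg f hff
  set E := mv g e with hEdef
  set G := mv g f with hGdef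
  have hE0 : E ≠ 0 := fun h => he0 (mv_inj g (h.trans (mv_zero g).symm))
  have hG0 : G ≠ 0 := fun h => hf0 (mv_inj g (h.trans (mv_zero g).symm))
  have hEE : B hE E E = 0 := hp g hg e hee
  have hGG : B hE G G = 0 := hp g hg f hff
  have hEG : B hE E G ≠ 0 := fun h => by
    have := horth g⁻¹ (M.inv_mem hg) E G hEE hGG h
    rw [mv_inv_mv, mv_inv_mv, hef] at this
    exact one_ne_zero this
  have hσf1 : σf 1 = 1 := by
    have := hσf 1
    rw [one_smul, ← hGdef] at this
    exact (smul_left_injective K hG0 (by simpa using this.symm))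
  have hσe1 : σe 1 = 1 := by
    have := hσe 1
    rw [one_smul, ← hEdef] at this
    exact (smul_left_injective K hE0 (by simpa using this.symm))
  have fadd : ∀ a b, σf (a + b) = σf a + σf b := fun a b => smul_left_injective K hG0 (by
    show σf (a + b) • G = (σf a + σf b) • G
    rw [add_smul, hGdef, ← hσf, ← hσf, ← hσf, add_smul, mv_add])
  have hind : ∀ w, InP hE e f w → B hE w w ≠ 0 →
      ∀ a : K, σe (a * (B hE w w / 2)) = σf a * σe (B hE w w / 2) ∧ mv g (a • w) = σf a • mv g w := by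
    intro w hw hww a
    set c := B hE w w / 2 with hc
    have hc0 : c ≠ 0 := div_ne_zero hww h2
    have hz : ∀ s : K, s * s = 1 → B hE (-c • e + f + s • w) (-c • e + f + s • w) = 0 := fun s hs => by
      simp only [map_add, map_smul, map_neg, LinearMap.add_apply, LinearMap.smul_apply, LinearMap.neg_apply,
        smul_eq_mul, hee, hff, hef, B_comm hE f e, B_comm hE e w, B_comm hE f w, hw.1, hw.2, hc]
      field_simp
      linear_combination 4 * B hE w w * hs
    obtain ⟨s₁, hs₁⟩ := hline g hg _ (hz 1 (one_mul 1)) a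
    obtain ⟨s₂, hs₂⟩ := hline g hg _ (hz (-1) (by ring)) a
    simp only [one_smul, smul_add, neg_smul, smul_neg, smul_smul, mv_add, mv_neg] at hs₁ hs₂
    rw [hσe, hσe, hσf] at hs₁
    rw [hσe, hσe, hσf] at hs₂
    simp only [← hEdef, ← hGdef, mv_neg] at hs₁ hs₂
    have hW : ∀ α β γ : K, α • E + β • G + γ • mv g w = 0 → α = 0 ∧ β = 0 ∧ γ = 0 := by
      intro α β γ h
      have hγ : γ = 0 := by
        by_contra hγ
        set z := -c • e + f + (1 : K) • w with hzdef
        have hzz : B hE (mv g z) (mv g z) = 0 := hp g hg z (hz 1 (one_mul 1))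
        have hgz : mv g z = (-σe c - α / γ) • E + (1 - β / γ) • G := by
          rw [hzdef, one_smul, neg_smul, mv_add, mv_add, mv_neg, hσe, ← hGdef]
          have : mv g w = -(γ⁻¹ • (α • E + β • G)) := by
            rw [eq_neg_of_add_eq_zero_left h, smul_neg, neg_neg, inv_smul_smul₀ hγ]
          rw [this]
          match_scalars <;> field_simp <;> ring
        have hprod : (-σe c - α / γ) * (1 - β / γ) = 0 := by
          rw [hgz] at hzz
          simp only [map_add, map_smul, LinearMap.add_apply, LinearMap.smul_apply, smul_eq_mul, hEE, hGG,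
            B_comm hE G E] at hzz
          exact (mul_eq_zero.1 (show (-σe c - α / γ) * (1 - β / γ) * (2 * B hE E G) = 0 by
            linear_combination hzz)).resolve_right (mul_ne_zero h2 hEG)
        rcases mul_eq_zero.1 hprod with h0 | h0
        · rw [h0, zero_smul, zero_add] at hgz
          obtain ⟨t, ht⟩ := hline g⁻¹ (M.inv_mem hg) G hGG (1 - β / γ)
          rw [← hgz, mv_inv_mv, hGdef, mv_inv_mv] at ht
          have := congrArg (fun v => B hE v f) ht
          simp [hzdef, hff, hef, hw.2] at this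
          exact hc0 this
        · rw [h0, zero_smul, add_zero] at hgz
          obtain ⟨t, ht⟩ := hline g⁻¹ (M.inv_mem hg) E hEE (-σe c - α / γ)
          rw [← hgz, mv_inv_mv, hEdef, mv_inv_mv] at ht
          have := congrArg (fun v => B hE v e) ht
          simp [hzdef, hee, B_comm hE f e, hef, hw.1] at this
      rw [hγ, zero_smul, add_zero] at h
      have h1 := congrArg (fun v => B hE v G) h
      have h3 := congrArg (fun v => B hE v E) h
      simp [hGG, hEG] at h1
      simp [hEE, B_comm hE G E, hEG] at h3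
      exact ⟨h1, h3, hγ⟩
    obtain ⟨k1, k2, k3⟩ := hW (2 * σe (a * c) - (s₁ + s₂) * σe c) (s₁ + s₂ - 2 * σf a) (s₁ - s₂) (by
      linear_combination (norm := module) -hs₁ - hs₂)
    have hs : s₁ = σf a := mul_left_cancel₀ h2 (by linear_combination k2 + k3)
    refine ⟨mul_left_cancel₀ h2 (by linear_combination k1 + σe c * k2), ?_⟩
    have hac : σe (a * c) = σf a * σe c := mul_left_cancel₀ h2 (by linear_combination k1 + σe c * k2)
    rw [hs, hac] at hs₁
    linear_combination (norm := module) hs₁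
  obtain ⟨w, hw, hww⟩ := exists_perp_aniso hE hh hd
  set c := B hE w w / 2 with hc
  have hc0 : c ≠ 0 := div_ne_zero hww h2
  have hσec : σe c ≠ 0 := fun h => hc0 (by
    have := hσe c
    rw [h, zero_smul] at this
    exact (smul_eq_zero.1 (mv_inj g (this.trans (mv_zero g).symm))).resolve_right he0)
  have hsq : ∀ a b : K, σf (a * (b * b)) = σf a * σf (b * b) := by
    intro a b
    rcases eq_or_ne b 0 with rfl | hb
    · have h0 : σf 0 = 0 := by simpa using fadd 0 0
      simp [h0]
    have e1 := (hind w hw hww (a * (b * b))).1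
    have e2 := (hind (b • w) (hw.smul hE b) (by simp [hb, hww]) a).1
    have e3 := (hind w hw hww (b * b)).1
    simp only [map_smul, LinearMap.smul_apply, smul_eq_mul] at e2
    rw [show b * (b * B hE w w) / 2 = b * b * c by rw [hc]; ring, ← mul_assoc a (b * b) c, e1, e3, ← mul_assoc] at e2
    rw [← hc] at e2
    exact mul_right_cancel₀ hσec (by rw [← mul_assoc a b b]; linear_combination e2)
  have hmul : ∀ a b : K, σf (a * b) = σf a * σf b := by
    intro a b
    have f4 : ∀ x, σf (4 * x) = 4 * σf x := fun x => by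
      rw [show (4 : K) * x = x + x + (x + x) by ring, fadd, fadd]; ring
    have fsub : ∀ x y, σf (x - y) = σf x - σf y := fun x y => eq_sub_of_add_eq (by rw [← fadd, sub_add_cancel])
    have h4 : σf (4 * (a * b)) = σf a * σf (4 * b) := by
      rw [show 4 * (a * b) = a * ((b + 1) * (b + 1)) - a * ((b - 1) * (b - 1)) by ring, fsub, hsq, hsq,
        ← mul_sub, ← fsub]
      congr 2
      ring
    rw [f4, f4] at h4
    exact mul_left_cancel₀ (show (4 : K) ≠ 0 by rw [show (4 : K) = 2 * 2 by norm_num]; exact mul_ne_zero h2 h2)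
      (by linear_combination h4)
  have hef' : ∀ a, σe a = σf a := by
    have h1 := (hind w hw hww c⁻¹).1
    rw [inv_mul_cancel₀ hc0, hσe1] at h1
    have h3 : σf c⁻¹ * σf c = 1 := by rw [← hmul, inv_mul_cancel₀ hc0, hσf1]
    have hcc : σe c = σf c := by
      calc σe c = (σf c⁻¹ * σf c) * σe c := by rw [h3, one_mul]
        _ = σf c * (σf c⁻¹ * σe c) := by ring
        _ = σf c := by rw [← h1, mul_one]
    intro a
    have := (hind w hw hww (a / c)).1
    rwa [div_mul_cancel₀ a hc0, ← hc, hcc, ← hmul, div_mul_cancel₀ a hc0] at this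
  refine ⟨σf, fun a v => ?_⟩
  have hP : ∀ p, InP hE e f p → mv g (a • p) = σf a • mv g p := by
    intro p hpP
    by_cases hpp : B hE p p = 0
    swap
    · exact (hind p hpP hpp a).2
    obtain ⟨s, hs⟩ : ∃ s : K, B hE (p + s • w) (p + s • w) ≠ 0 ∧ B hE (s • w) (s • w) ≠ 0 := by
      by_cases k1 : B hE (p + (1 : K) • w) (p + (1 : K) • w) = 0
      · refine ⟨-1, fun k2 => hww ?_, by simpa using hww⟩
        simp only [one_smul, neg_smul, map_add, map_neg, LinearMap.add_apply, LinearMap.neg_apply, hpp,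
          B_comm hE w p] at k1 k2
        exact (mul_eq_zero.1 (by linear_combination k1 + k2 : 2 * B hE w w = 0)).resolve_left h2
      · exact ⟨1, k1, by simpa using hww⟩
    have e1 := (hind _ (hpP.add hE (hw.smul hE s)) hs.1 a).2
    have e2 := (hind _ (hw.smul hE s) hs.2 a).2
    rw [smul_add, mv_add, mv_add, smul_add, e2] at e1
    exact add_right_cancel e1
  obtain hvd := proj_hyp hE hh v
  set p := v - B hE v f • e - B hE v e • f with hpdef
  have hv : v = B hE v f • e + B hE v e • f + p := by rw [hpdef]; abel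
  conv_lhs => rw [hv]
  rw [smul_add, smul_add, smul_smul, smul_smul, mv_add, mv_add, hσe, hσf, hP p hvd, hef', hmul, hmul]
  conv_rhs => rw [hv, mv_add, mv_add, hσe, hσf, hef']
  simp only [smul_add, smul_smul]

/-- A conjugate line meeting a singular line, not orthogonal to it. -/
theorem exists_nonorth [Finite F] (hd : 4 ≤ Module.finrank K (ι → F)) {g₀ : GL ι F} (hg₀ : g₀ ∈ M)
    (hg₀N : ¬ Semi K g₀) :
    ∃ u, u ≠ 0 ∧ B hE u u = 0 ∧ ∃ g ∈ M, mv g u = u ∧ ∃ a : K, B hE (mv g (a • u)) u ≠ 0 := by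
  haveI : Module.Finite K (ι → F) := Module.Finite.of_restrictScalars_finite F K _
  have h2 := two' hE
  by_cases hp : ∀ g ∈ M, ∀ v, B hE v v = 0 → B hE (mv g v) (mv g v) = 0
  · exact absurd (semi_of_preserves hE hM (by omega) hp hg₀) hg₀N
  push Not at hp
  obtain ⟨g, hg, v, hv, hx⟩ := hp
  set x := mv g v with hxdef
  have hv0 : v ≠ 0 := fun h => hx (by rw [hxdef, h, mv_zero]; simp)
  obtain ⟨a, ha⟩ : ∃ a : K, mv g (a • v) - (B hE (mv g (a • v)) x / B hE x x) • x ≠ 0 := by
    by_contra h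
    push Not at h
    let τ : K →ₗ[F] K :=
      { toFun := fun a => B hE (mv g (a • v)) x / B hE x x
        map_add' := fun a b => by rw [add_smul, mv_add, map_add, LinearMap.add_apply, add_div]
        map_smul' := fun c a => by
          rw [smul_assoc, mv_smul, LinearMap.map_smul_of_tower, LinearMap.smul_apply, RingHom.id_apply]
          exact smul_div_assoc c _ _ }
    have hτ : ∀ a, mv g (a • v) = τ a • x := fun a => sub_eq_zero.1 (h a)
    have hinj : Function.Injective τ := fun a b hab => smul_left_injective K hv0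
      (mv_inj g (by show mv g (a • v) = mv g (b • v); rw [hτ, hτ, hab]))
    obtain ⟨s, hs⟩ := exists_ell_sq_ne hE hx
    obtain ⟨a, rfl⟩ := (LinearMap.injective_iff_surjective.1 hinj) s
    apply hs
    have h0 := mem_isometry.1 (M_iso hE hM hg) (a • v)
    rw [q_zero_of hE (x := a • v) (by simp [hv])] at h0
    have := (q_zero_iff hE).1 h0
    rw [hτ] at this
    simpa [mul_assoc] using this
  set z := mv g (a • v) with hzdef
  set Z := LinearMap.ker ((B hE).flip x) with hZ
  have hproj : HasProj hE Z := by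
    have := (hasProj_top hE).inf hE (Submodule.mem_top (x := x)) hx
    rwa [top_inf_eq] at this
  have hdim : 3 ≤ Module.finrank K Z := by
    have := finrank_inf_ker (F := F) ⊤ ((B hE).flip x)
    rw [finrank_top, top_inf_eq, ← hZ] at this
    omega
  obtain ⟨u, hu, y, hy, huu, huy, hpu, hyy⟩ := exists_move_vec hE hproj hdim
    (show z - (B hE z x / B hE x x) • x ∈ Z by simp [hZ, hx]) ha
  have hux : B hE u x = 0 := hu
  have hyx : B hE y x = 0 := hy
  have hzu : B hE z u ≠ 0 := by simpa [B_comm hE x u, hux] using hpu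
  obtain ⟨s, hs⟩ := exists_ell_sq_ne hE
    (mul_ne_zero (div_ne_zero hyy h2) (mul_ne_zero hzu hzu))
  obtain ⟨h, hh, -, hhz⟩ := exists_rho_mem hE hM (by omega) huu (y := s • y) (by simp [huy])
  have hhx : mv h x = x := by
    rw [hhz]
    simp [B_comm hE x u, B_comm hE x y, hux, hyx]
  have hne : pol Q (mv h z) z ≠ 0 := by
    rw [← ell_B_one hE, hhz]
    intro h0
    apply hs
    have hzz : ℓ (B hE z z) = 0 := (q_zero_iff hE).1 (by
      rw [hzdef, mem_isometry.1 (M_iso hE hM hg), q_zero_of hE (by simp [hv])])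
    simp only [map_add, map_sub, map_smul, LinearMap.add_apply, LinearMap.sub_apply, LinearMap.smul_apply,
      smul_eq_mul, B_comm hE y z, B_comm hE u z, hzz] at h0
    rw [zero_add, ← map_sub] at h0
    rw [← neg_eq_zero, ← map_neg, ← h0]
    congr 1
    ring
  refine ⟨v, hv0, hv, g⁻¹ * h * g, M.mul_mem (M.mul_mem (M.inv_mem hg) hh) hg,
    by rw [mv_mul, mv_mul, ← hxdef, hhx, hxdef, mv_inv_mv], a, fun h0 => hne ?_⟩
  rw [mv_mul, mv_mul, ← hzdef] at h0
  rw [← pol_mv hE.quad (M_iso hE hM (M.inv_mem hg)) (mv h z) z,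
    show mv g⁻¹ z = a • v from mv_inv_mv g _, ← ell_B_one hE, map_smul, h0, smul_zero, map_zero]

end Cfsg.Agent.OrthFieldExt
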