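/-
From Siegel elements with a singular centre to the whole commutator subgroup.
-/
import Cfsg.Agent.Lib.OrthFieldExt.Move

set_option autoImplicit false
set_option linter.all false
set_option maxHeartbeats 1000000

namespace Cfsg.Agent.OrthFieldExt

open scoped Matrix
open Matrix Cfsg.Agent.Transvec Cfsg.Agent.Transvec.Orth

variable {ι : Type} [Fintype ι] [DecidableEq ι] {F : Type*} [Field F] {Q : (ι → F) → F}
variable {K : Type*} [Field K] [Algebra F K] [Module K (ι → F)] [IsScalarTower F K (ι → F)] [FiniteDimensional F K]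
variable {ℓ : Module.Dual F K} (hE : Ext Q ℓ) {M : Subgroup (GL ι F)}
include hE

/-- The vectors whose Siegel elements with the given centre lie in the subgroup. -/
def shifts (M : Subgroup (GL ι F)) {u : ι → F} (hu : Q u = 0) : AddSubgroup (ι → F) where
  carrier := {x | pol Q u x = 0 ∧ ∃ g ∈ M, IsSiegel Q g u x}
  zero_mem' := ⟨pol_zero_right hE.quad u, 1, M.one_mem, isSiegel_zero hE.quad u⟩
  add_mem' := fun {a b} ⟨ha, g, hg, hgs⟩ ⟨hb, g', hg', hgs'⟩ =>
    ⟨by rw [pol_add_right hE.quad, ha, hb, add_zero], g * g', M.mul_mem hg hg', isSiegel_mul hE.quad hu ha hb hgs hgs'⟩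
  neg_mem' := fun {a} ⟨ha, g, hg, hgs⟩ => by
    have ha' : pol Q u (-a) = 0 := by rw [pol_neg_right hE.quad, ha, neg_zero]
    obtain ⟨g', -, hgs'⟩ := exists_siegel hE.quad hu ha'
    refine ⟨ha', g⁻¹, M.inv_mem hg, ?_⟩
    have e : g * g' = 1 := isSiegel_unique (isSiegel_mul hE.quad hu ha ha' hgs hgs')
      (by rw [add_neg_cancel]; exact isSiegel_zero hE.quad u)
    rwa [inv_eq_of_mul_eq_one_right e]

variable (hM : Over Q K M)
include hM

theorem shifts_mv {u : ι → F} (hu : Q u = 0) {h : GL ι F} (hh : h ∈ M) (hhu : mv h u = u) {x : ι → F}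
    (hx : x ∈ shifts hE M hu) : mv h x ∈ shifts hE M hu := by
  obtain ⟨hx0, g, hg, hgs⟩ := hx
  have hiso := M_iso hE hM hh
  refine ⟨?_, h * g * h⁻¹, M.mul_mem (M.mul_mem hh hg) (M.inv_mem hh), ?_⟩
  · conv_lhs => arg 2; rw [← hhu]
    rw [pol_mv hE.quad hiso, hx0]
  · have := isSiegel_conj hE.quad hiso hgs
    rwa [hhu] at this

/-- Enough Siegel elements with one centre give the whole group. -/
theorem eq_omega_of_base [Finite F] (hn : 7 ≤ Fintype.card ι) (hd : 4 ≤ Module.finrank K (ι → F)) {u f : ι → F}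
    (hh : IsHyp hE u f) (hU : ∀ y, InP hE u f y → ∃ t : K, ∃ g ∈ M, IsSiegel Q g u (y + t • u)) :
    M = Geo.omegaGL Q := by
  obtain ⟨hu, hff, huf⟩ := id hh
  have h2 := two' hE
  have hQu : Q u = 0 := q_zero_of hE hu
  set U := shifts hE M hQu with hUdef
  have horth : ∀ z : ι → F, B hE z u = 0 → pol Q u z = 0 := fun z hz => by
    rw [pol_comm, ← ell_B_one hE, hz, map_zero]
  have hmem : ∀ y, InP hE u f y → ∃ t : K, y + t • u ∈ U := fun y hy => by
    obtain ⟨t, g, hg, hgs⟩ := hU y hy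
    exact ⟨t, horth _ (by simp [hy.1, hu]), g, hg, hgs⟩
  have hline : ∀ s : K, s • u ∈ U := by
    intro s
    obtain ⟨y₀, hy₀, hyy⟩ := exists_value hE hh hd 1
    obtain ⟨t, ht⟩ := hmem y₀ hy₀
    obtain ⟨g, hg, hgk, hgz⟩ := exists_rho_mem hE hM (by omega) hu (y := (-s) • y₀) (by simp [B_comm hE u y₀, hy₀.1])
    have hgu : mv g u = u := by
      rw [hgz]; simp [hu, B_comm hE u y₀, hy₀.1]
    have := U.sub_mem (shifts_mv hE hM hQu hg hgu ht) ht
    convert this using 1
    rw [mv_add, hgk, hgu, hgz]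
    simp [hy₀.1, hyy]
  have hperp : ∀ z, B hE z u = 0 → z ∈ U := by
    intro z hz
    obtain ⟨t, ht⟩ := hmem _ (proj_hyp hE hh z)
    convert U.add_mem (U.sub_mem ht (hline t)) (hline (B hE z f)) using 1
    rw [hz]; simp
  have hcf : ∀ c : K, ℓ c = 0 → c • f ∈ U := by
    intro c hc
    rcases eq_or_ne c 0 with rfl | hc0
    · rw [zero_smul]; exact U.zero_mem
    obtain ⟨h, hhM, hhk, hhu, hhv⟩ := exists_swap hE hM hd hu (v := c • f) (by simp [hff]) (by simp [huf, hc0])
    obtain ⟨η, hη⟩ := exists_ell hE (1 : F)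
    obtain ⟨y, hy, hyy⟩ := exists_value hE hh hd η
    have hpy : pol Q y y = 1 := by rw [← ell_B_one hE, hyy, hη]
    have hyv : B hE y (c • f) = 0 := by simp [hy.2]
    have hiso := M_iso hE hM hhM
    have hpre : B hE (mv h⁻¹ y) u = 0 := by
      rw [← B_mv hE hhk hiso, mv_mv_inv, hhu, hyv]
    obtain ⟨-, g, hg, hgs⟩ := hperp _ hpre
    have hgs' := isSiegel_conj hE.quad hiso hgs
    rw [hhu, mv_mv_inv] at hgs'
    have hpuv : pol Q u (c • f) = 0 := by rw [← ell_B_one hE]; simp [huf, hc]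
    have hfix : mv (h * g * h⁻¹) u = u := isSiegel_fix hE.quad hgs' hpuv
      (by rw [pol_comm, ← ell_B_one hE, hy.1, map_zero])
    have hyU := hperp y hy.1
    have := U.sub_mem hyU (shifts_mv hE hM hQu (M.mul_mem (M.mul_mem hhM hg) (M.inv_mem hhM)) hfix hyU)
    convert this using 1
    rw [hgs', hpy, ← ell_B_one hE y (c • f), hyv, map_zero]
    simp
  have hfull : u ∈ qFull Q M := by
    refine ⟨hQu, fun z hz => ?_⟩
    have hz' : ℓ (B hE z u) = 0 := by rw [ell_B_one, pol_comm, hz]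
    have hmem : z ∈ U := by
      have := U.add_mem (hperp (z - B hE z u • f) (by simp [B_comm hE f u, huf])) (hcf _ hz')
      rwa [sub_add_cancel] at this
    exact hmem.2
  obtain ⟨c, hc⟩ := exists_ell hE (1 : F)
  have hc0 : c ≠ 0 := fun h => by rw [h, map_zero] at hc; exact zero_ne_one hc
  obtain ⟨h, hhM, -, hhu, -⟩ := exists_swap hE hM hd hu (v := c • f) (by simp [hff]) (by simp [huf, hc0])
  exact eq_omega_of_pair hE.quad hn hM.le hfull
    (hhu ▸ qFull_mv hE.quad (hM.le.trans (omega_le_isometry hE.quad)) hhM hfull)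
    (by rw [← ell_B_one hE]; simp [huf, hc])

end Cfsg.Agent.OrthFieldExt
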