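/-
Subspaces of the field closed under products, and rotations of a binary orthogonal complement.
-/
import Cfsg.Agent.Lib.OrthFieldExt.Move

set_option autoImplicit false
set_option linter.all false
set_option maxHeartbeats 1000000

namespace Cfsg.Agent.OrthFieldExt

open scoped Matrix
open Matrix Cfsg.Agent.Transvec Cfsg.Agent.Transvec.Orth

variable {ι : Type} [Fintype ι] [DecidableEq ι] {F : Type*} [Field F] {Q : (ι → F) → F}
variable {K : Type*} [Field K] [Algebra F K] [Module K (ι → F)] [IsScalarTower F K (ι → F)] [FiniteDimensional F K]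

/-- A non-zero subspace closed under products is the ground field or everything. -/
theorem closed_cases [Finite F] (hr : (Module.finrank F K).Prime) (S : Submodule F K) (h0 : S ≠ ⊥)
    (hmul : ∀ a ∈ S, ∀ b ∈ S, a * b ∈ S) : S = F ∙ (1 : K) ∨ S = ⊤ := by
  haveI : Finite K := Module.finite_of_finite F
  haveI : Fintype K := Fintype.ofFinite K
  obtain ⟨x, hx, hx0⟩ := S.ne_bot_iff.1 h0
  have hpow : ∀ k : ℕ, x ^ (k + 1) ∈ S := by
    intro k
    induction k with
    | zero => simpa using hx
    | succ k ih => rw [pow_succ]; exact hmul _ ih _ hx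
  have h1 : (1 : K) ∈ S := by
    have := hpow (Fintype.card K - 2)
    rwa [show Fintype.card K - 2 + 1 = Fintype.card K - 1 by have := Fintype.one_lt_card (α := K); omega,
      FiniteField.pow_card_sub_one_eq_one x hx0] at this
  let A : Subalgebra F K := S.toSubalgebra h1 fun a b ha hb => hmul a ha b hb
  let L : IntermediateField F K := A.toIntermediateField fun y hy => by
    rcases eq_or_ne y 0 with rfl | hy0
    · rw [_root_.inv_zero]; exact A.zero_mem
    · have h2 : y * y ^ (Fintype.card K - 2) = 1 := by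
        rw [← pow_succ', show Fintype.card K - 2 + 1 = Fintype.card K - 1 by
          have := Fintype.one_lt_card (α := K); omega]
        exact FiniteField.pow_card_sub_one_eq_one y hy0
      rw [inv_eq_of_mul_eq_one_right h2]
      exact A.pow_mem hy _
  have h := Module.finrank_mul_finrank F L K
  have hS : Module.finrank F L = Module.finrank F S := rfl
  rcases hr.eq_one_or_self_of_dvd (Module.finrank F L) (Dvd.intro _ h) with e | e
  · left
    refine (Submodule.eq_of_le_of_finrank_le (Submodule.span_le.2 (by simpa using h1)) ?_).symm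
    rw [← hS, e, finrank_span_singleton one_ne_zero]
  · right
    exact Submodule.eq_top_of_finrank_eq (by rw [← hS, e])

variable {ℓ : Module.Dual F K} (hE : Ext Q ℓ)
include hE

theorem eq_zero_of_frame [Finite F] {u f a e : ι → F} (h : IsHyp hE u f) (ha : InP hE u f a) (he : InP hE u f e)
    (haa : B hE a a ≠ 0) (hee : B hE e e ≠ 0) (hae : B hE a e = 0) (hd : Module.finrank K (ι → F) = 4) {w : ι → F}
    (hwu : B hE w u = 0) (hwf : B hE w f = 0) (hwa : B hE w a = 0) (hwe : B hE w e = 0) : w = 0 := by
  haveI : Module.Finite K (ι → F) := Module.Finite.of_restrictScalars_finite F K _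
  let φ : (ι → F) →ₗ[K] Fin 4 → K := LinearMap.pi fun i => (B hE).flip (![u, f, a, e] i)
  have hsurj : Function.Surjective φ := by
    intro c
    refine ⟨c 0 • f + c 1 • u + (c 2 / B hE a a) • a + (c 3 / B hE e e) • e, funext fun i => ?_⟩
    fin_cases i <;>
      simp [φ, h.1, h.2.1, h.2.2, B_comm hE f u, B_comm hE u a, B_comm hE u e, B_comm hE f a, B_comm hE f e,
        B_comm hE e a, ha.1, ha.2, he.1, he.2, haa, hee, hae]
  refine (LinearMap.injective_iff_surjective_of_finrank_eq_finrank
    (by rw [hd, Module.finrank_pi, Fintype.card_fin])).2 hsurj ((funext fun i => ?_).trans (map_zero φ).symm)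
  fin_cases i <;> simp [φ, hwu, hwf, hwa, hwe]

/-- No non-zero singular vector lies in the perpendicular of a hyperbolic pair. -/
def Aniso : Prop := ∀ u f v : ι → F, IsHyp hE u f → InP hE u f v → B hE v v = 0 → v = 0

/-- Over a quadratic extension every ground field element is a square. -/
theorem isSquare_ground [Finite F] (hr : Module.finrank F K = 2) (c : F) : IsSquare (algebraMap F K c) := by
  haveI : Finite K := Module.finite_of_finite F
  haveI : Fintype K := Fintype.ofFinite K
  haveI : Fintype F := Fintype.ofFinite F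
  rcases eq_or_ne c 0 with rfl | hc
  · rw [map_zero]; exact ⟨0, by rw [mul_zero]⟩
  have h2 := two' hE
  have hK : ringChar K ≠ 2 := fun h => h2 (by
    have := ringChar.Nat.cast_ringChar (R := K)
    rwa [h, Nat.cast_ofNat] at this)
  have hne : algebraMap F K c ≠ 0 := (map_ne_zero _).2 hc
  rw [FiniteField.isSquare_iff hK hne, ← map_pow, Module.card_eq_pow_finrank (K := F) (V := K), hr]
  have hodd : Odd (Fintype.card F) := by
    rw [Nat.odd_iff]
    exact FiniteField.odd_card_of_char_ne_two fun h => hE.two (by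
      have := ringChar.Nat.cast_ringChar (R := F)
      rwa [h, Nat.cast_ofNat] at this)
  obtain ⟨k, hk⟩ := hodd
  have h1 := FiniteField.pow_card_sub_one_eq_one c hc
  rw [hk] at h1
  rw [show Fintype.card F ^ 2 / 2 = (Fintype.card F - 1) * (k + 1) by
    rw [hk, show (2 * k + 1) ^ 2 = 1 + 2 * (2 * k * (k + 1)) by ring, Nat.add_mul_div_left _ _ (by norm_num),
      show 2 * k + 1 - 1 = 2 * k by omega]
    simp, hk, pow_mul, h1, one_pow, map_one]

/-- The values of δ y² on a conic span the field. -/
theorem conic_span [Finite F] (hr : (Module.finrank F K).Prime) {δ : K}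
    (hr5 : 3 ≤ Module.finrank F K ∨ ¬ IsSquare δ) (hδ : δ ≠ 0) :
    Submodule.span F {t : K | ∃ x y, x * x + δ * (y * y) = 1 ∧ t = δ * (y * y)} = ⊤ := by
  classical
  haveI : Finite K := Module.finite_of_finite F
  haveI : Fintype K := Fintype.ofFinite K
  haveI : Fintype F := Fintype.ofFinite F
  have h2 := two' hE
  set G := {t : K | ∃ x y, x * x + δ * (y * y) = 1 ∧ t = δ * (y * y)}
  set T := Submodule.span F G
  have hgen : ∀ s ∈ G, ∀ t ∈ G, s * t ∈ T := by
    rintro _ ⟨x₁, y₁, h₁, rfl⟩ _ ⟨x₂, y₂, h₂, rfl⟩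
    have m : ∀ Y X, X * X + δ * (Y * Y) = 1 → δ * (Y * Y) ∈ T := fun Y X h => Submodule.subset_span ⟨X, Y, h, rfl⟩
    have m₁ := m (x₁ * y₂ + x₂ * y₁) (x₁ * x₂ - δ * (y₁ * y₂))
      (by linear_combination (x₂ * x₂ + δ * (y₂ * y₂)) * h₁ + h₂)
    have m₂ := m (x₁ * y₂ - x₂ * y₁) (x₁ * x₂ + δ * (y₁ * y₂))
      (by linear_combination (x₂ * x₂ + δ * (y₂ * y₂)) * h₁ + h₂)
    have := T.smul_mem (4 : F)⁻¹ (T.sub_mem (T.sub_mem (T.smul_mem (2 : F) (T.add_mem (m _ _ h₁) (m _ _ h₂))) m₁) m₂)
    convert this using 1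
    rw [Algebra.smul_def, Algebra.smul_def, map_inv₀, map_ofNat, map_ofNat,
      eq_inv_mul_iff_mul_eq₀ (show (4 : K) ≠ 0 by rw [show (4 : K) = 2 * 2 by norm_num]; exact mul_ne_zero h2 h2)]
    linear_combination (2 * δ * (y₁ * y₁)) * h₂ + (2 * δ * (y₂ * y₂)) * h₁
  have hmul : ∀ a ∈ T, ∀ b ∈ T, a * b ∈ T := by
    intro a ha b hb
    have := Submodule.mul_mem_mul ha hb
    rw [Submodule.span_mul_span] at this
    refine Submodule.span_le.2 ?_ this
    rintro _ ⟨s, hs, t, ht, rfl⟩
    exact hgen s hs t ht
  by_contra hne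
  by_cases hr3 : 3 ≤ Module.finrank F K
  swap
  · have hr2 : Module.finrank F K = 2 := by have := hr.two_le; omega
    have hns := hr5.resolve_left hr3
    have hδ1 : 1 + δ ≠ 0 := fun h => hns (by
      rw [show δ = algebraMap F K (-1) by rw [map_neg, map_one]; linear_combination h]
      exact isSquare_ground hE hr2 _)
    have hmem : δ * ((2 / (1 + δ)) * (2 / (1 + δ))) ∈ T :=
      Submodule.subset_span ⟨(1 - δ) / (1 + δ), _, by field_simp; ring, rfl⟩
    rcases closed_cases hr T (fun h => by
      rw [h, Submodule.mem_bot] at hmem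
      exact mul_ne_zero hδ (mul_ne_zero (div_ne_zero h2 hδ1) (div_ne_zero h2 hδ1)) hmem) hmul with e | e
    · rw [e, Submodule.mem_span_singleton] at hmem
      obtain ⟨c, hc⟩ := hmem
      obtain ⟨s, hs⟩ := isSquare_ground hE hr2 c
      rw [Algebra.smul_def, mul_one, hs] at hc
      refine hns ⟨s / (2 / (1 + δ)), ?_⟩
      have h20 : (2 : K) / (1 + δ) ≠ 0 := div_ne_zero h2 hδ1
      rw [div_mul_div_comm, eq_div_iff (mul_ne_zero h20 h20)]
      exact hc.symm
    · exact hne e
  have hT : T ≤ F ∙ (1 : K) := by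
    by_cases h0 : T = ⊥
    · rw [h0]; exact bot_le
    rcases closed_cases hr T h0 hmul with e | e
    · exact e.le
    · exact absurd e hne
  let P : F → Polynomial K := fun c =>
    Polynomial.C (4 * δ) * Polynomial.X ^ 2 -
      Polynomial.C (algebraMap F K c) * (1 + Polynomial.C δ * Polynomial.X ^ 2) ^ 2
  let E : Polynomial K := 1 + Polynomial.C δ * Polynomial.X ^ 2
  have hE0 : E ≠ 0 := fun h => by
    have := congrArg (Polynomial.eval 0) h
    simp [E] at this
  have hP0 : ∀ c, P c ≠ 0 := fun c h => by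
    rcases eq_or_ne c 0 with rfl | hc
    · simp [P, hδ, show (4 : K) ≠ 0 by rw [show (4 : K) = 2 * 2 by norm_num]; exact mul_ne_zero h2 h2] at h
    · have := congrArg (Polynomial.eval 0) h
      simp [P, hc] at this
  have hcover : (Finset.univ : Finset K) ⊆
      (Finset.univ : Finset F).biUnion (fun c => (P c).roots.toFinset) ∪ E.roots.toFinset := by
    intro ν _
    by_cases hν : 1 + δ * (ν * ν) = 0
    · refine Finset.mem_union_right _ (Multiset.mem_toFinset.2 ((Polynomial.mem_roots hE0).2 ?_))
      simp [E, Polynomial.IsRoot.def]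
      linear_combination hν
    · refine Finset.mem_union_left _ (Finset.mem_biUnion.2 ?_)
      have hm : δ * ((2 * ν / (1 + δ * (ν * ν))) * (2 * ν / (1 + δ * (ν * ν)))) ∈ T :=
        Submodule.subset_span ⟨(1 - δ * (ν * ν)) / (1 + δ * (ν * ν)), _, by
          rw [div_mul_div_comm, div_mul_div_comm, ← mul_div_assoc, ← add_div,
            div_eq_one_iff_eq (mul_ne_zero hν hν)]
          ring, rfl⟩
      obtain ⟨c, hc⟩ := Submodule.mem_span_singleton.1 (hT hm)
      refine ⟨c, Finset.mem_univ _, Multiset.mem_toFinset.2 ((Polynomial.mem_roots (hP0 c)).2 ?_)⟩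
      rw [Algebra.smul_def, mul_one] at hc
      have hν' : 1 + δ * ν ^ 2 ≠ 0 := by rwa [pow_two]
      simp only [P, Polynomial.IsRoot.def, Polynomial.eval_sub, Polynomial.eval_mul, Polynomial.eval_C,
        Polynomial.eval_pow, Polynomial.eval_X, Polynomial.eval_add, Polynomial.eval_one, hc]
      field_simp
      ring
  have h1 := Finset.card_le_card hcover
  have h3 := Finset.card_union_le ((Finset.univ : Finset F).biUnion fun c => (P c).roots.toFinset) E.roots.toFinset
  have h4 : ((Finset.univ : Finset F).biUnion fun c => (P c).roots.toFinset).card ≤ (Finset.univ : Finset F).card * 4 :=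
    Finset.card_biUnion_le_card_mul _ _ _ fun c _ => by
      refine (Multiset.toFinset_card_le _).trans ((Polynomial.card_roots' _).trans ?_)
      simp only [P]
      compute_degree
  have h5 : E.roots.toFinset.card ≤ 2 := (Multiset.toFinset_card_le _).trans ((Polynomial.card_roots' _).trans (by
    simp only [E]
    compute_degree))
  rw [Finset.card_univ, Module.card_eq_pow_finrank (K := F) (V := K)] at h1
  rw [Finset.card_univ] at h4
  have hq : 3 ≤ Fintype.card F := by
    by_contra h
    have h' : Fintype.card F = 2 := by have := Fintype.one_lt_card (α := F); omega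
    have h0 : (Fintype.card F : F) = 0 := FiniteField.cast_card_eq_zero F
    rw [h'] at h0
    exact hE.two (by exact_mod_cast h0)
  have h6 : Fintype.card F ^ 3 ≤ Fintype.card F ^ Module.finrank F K := Nat.pow_le_pow_right (by omega) hr3
  have h7 : 9 * Fintype.card F ≤ Fintype.card F ^ 3 := by
    calc 9 * Fintype.card F = 3 ^ 2 * Fintype.card F := by norm_num
      _ ≤ Fintype.card F ^ 2 * Fintype.card F := Nat.mul_le_mul_right _ (Nat.pow_le_pow_left hq 2)
      _ = Fintype.card F ^ 3 := by ring
  omega

omit hE in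
theorem rot_identity {α α' ε ε' A δ x y : K} (hA : A ≠ 0) (hδ : δ ≠ 0) (h : x * x + δ * (y * y) = 1) :
    -(2 * (x * α + y * ε) / A) * (x * α' + y * ε') - 2 * (α - 2 * (x * α + y * ε) / A * (x * A)) / A * α' +
      (-(2 * (x * α' + y * ε') / A) * (x * α + y * ε) - 2 * (α' - 2 * (x * α' + y * ε') / A * (x * A)) / A * α) =
    -4 * (δ * (y * y) * ((α * α' + ε * ε' / δ) / A)) := by
  field_simp
  linear_combination (4 * α * α') * h

variable {M : Subgroup (GL ι F)} (hM : Over Q K M)
include hM

/-- Vectors orthogonal to their images under all rotations are orthogonal over the field. -/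
theorem rot_orth [Finite F] (hr : (Module.finrank F K).Prime) (hr5 : 3 ≤ Module.finrank F K ∨ Aniso hE)
    (hd : Module.finrank K (ι → F) = 4) {u f : ι → F} (h : IsHyp hE u f) {p p' : ι → F} (hp : InP hE u f p)
    (hp' : InP hE u f p')
    (hfix : ∀ g ∈ M, KLin K g → mv g u = u → mv g f = f →
      pol Q (mv g p - p) p' + pol Q (mv g p' - p') p = 0) : B hE p p' = 0 := by
  obtain ⟨a, e, ha, he, haa, hee, hae⟩ := exists_frame hE h (by omega)
  have hea : B hE e a = 0 := by rw [B_comm]; exact hae
  set A := B hE a a with hA_def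
  set E := B hE e e with hEe
  set δ := E / A with hδdef
  have hδ : δ ≠ 0 := div_ne_zero hee haa
  have hE' : E = δ * A := (div_mul_cancel₀ E haa).symm
  have hdec : ∀ q, InP hE u f q → q = (B hE q a / A) • a + (B hE q e / E) • e := fun q hq => sub_eq_zero.1
    (eq_zero_of_frame hE h ha he haa hee hae hd
      (by simp [hq.1, ha.1, he.1]) (by simp [hq.2, ha.2, he.2])
      (by simp [hea, ← hA_def, haa]) (by simp [hae, ← hEe, hee]))
  have hBpp : B hE p p' = (B hE p a * B hE p' a + B hE p e * B hE p' e / δ) / A := by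
    conv_lhs => rw [hdec p hp]
    simp only [map_add, map_smul, LinearMap.add_apply, LinearMap.smul_apply, smul_eq_mul, B_comm hE a p',
      B_comm hE e p']
    rw [hE']
    field_simp
  have hkill : ∀ t ∈ {t : K | ∃ x y, x * x + δ * (y * y) = 1 ∧ t = δ * (y * y)}, ℓ (t * B hE p p') = 0 := by
    rintro _ ⟨x, y, hxy, rfl⟩
    by_cases hx1 : x = 1
    · subst hx1
      rw [show δ * (y * y) = 0 by linear_combination hxy, zero_mul, map_zero]
    set b := x • a + y • e with hb
    have hab : B hE a b = x * A := by simp [hb, hae, ← hA_def]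
    have hbb : A = B hE b b := by
      simp only [hb, map_add, map_smul, LinearMap.add_apply, LinearMap.smul_apply, smul_eq_mul, hea, hae,
        ← hA_def, ← hEe, hE']
      linear_combination -A * hxy
    obtain ⟨g, hg, hgk, -, hgz⟩ := exists_pair_mem hE hM hbb haa
      (by rw [← hA_def, hab]; exact fun h0 => hx1 (mul_right_cancel₀ haa (by linear_combination -h0)))
    have hu' : B hE u a = 0 ∧ B hE f a = 0 ∧ B hE u e = 0 ∧ B hE f e = 0 :=
      ⟨by rw [B_comm]; exact ha.1, by rw [B_comm]; exact ha.2, by rw [B_comm]; exact he.1, by rw [B_comm]; exact he.2⟩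
    have := hfix g hg hgk (by rw [hgz]; simp [hb, hu'.1, hu'.2.2.1]) (by rw [hgz]; simp [hb, hu'.2.1, hu'.2.2.2])
    rw [← ell_B_one hE, ← ell_B_one hE, ← map_add] at this
    have e1 : B hE (mv g p - p) p' + B hE (mv g p' - p') p = (-4 : F) • (δ * (y * y) * B hE p p') := by
      rw [hgz, hgz, hBpp, Algebra.smul_def, map_neg, map_ofNat, ← rot_identity haa hδ hxy]
      have eb : ∀ q, B hE q b = x * B hE q a + y * B hE q e := fun q => by simp [hb]
      simp only [map_sub, map_smul, LinearMap.sub_apply, LinearMap.smul_apply, smul_eq_mul, hab, eb,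
        B_comm hE b p, B_comm hE b p', B_comm hE a p, B_comm hE a p', ← hA_def]
      ring
    rw [e1, map_smul, smul_eq_mul, mul_eq_zero] at this
    refine this.resolve_left ?_
    rw [neg_eq_zero, show (4 : F) = 2 * 2 by norm_num]
    exact mul_ne_zero hE.two hE.two
  refine eq_of_ell hE fun s => ?_
  have hs : s ∈ (⊤ : Submodule F K) := trivial
  have hr5' : 3 ≤ Module.finrank F K ∨ ¬ IsSquare δ := by
    by_cases h3 : 3 ≤ Module.finrank F K
    · exact Or.inl h3
    refine Or.inr fun hsq => ?_
    have hA := hr5.resolve_left h3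
    obtain ⟨t, ht⟩ := hsq
    obtain ⟨i, hi⟩ := isSquare_ground hE (by have := hr.two_le; omega) (-1 : F)
    rw [map_neg, map_one] at hi
    have hv : InP hE u f ((t * i) • a + e) := ⟨by simp [ha.1, he.1], by simp [ha.2, he.2]⟩
    have hv0 := hA u f _ h hv (by
      simp only [map_add, map_smul, LinearMap.add_apply, LinearMap.smul_apply, smul_eq_mul, hea, hae, ← hA_def, ← hEe,
        hE', ht]
      linear_combination (-(t * t * A)) * hi)
    have := congrArg (fun v => B hE v e) hv0
    simp [hae, ← hEe] at this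
    exact hee this
  rw [← conic_span hE hr hr5' hδ] at hs
  rw [mul_zero, map_zero]
  exact Submodule.span_le (p := LinearMap.ker (ℓ.comp (LinearMap.mulRight F (B hE p p')))) |>.2
    (fun t ht => hkill t ht) hs

end Cfsg.Agent.OrthFieldExt
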