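/-
Conjugates of a singular line meeting it as much as possible.
-/
import Cfsg.Agent.Lib.OrthFieldExt.Rot

set_option autoImplicit false
set_option linter.all false
set_option maxHeartbeats 1000000

namespace Cfsg.Agent.OrthFieldExt

open scoped Matrix
open Matrix Cfsg.Agent.Transvec Cfsg.Agent.Transvec.Orth

variable {ι : Type} [Fintype ι] [DecidableEq ι] {F : Type*} [Field F] {Q : (ι → F) → F}
variable {K : Type*} [Field K] [Algebra F K] [Module K (ι → F)] [IsScalarTower F K (ι → F)] [FiniteDimensional F K]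

variable (K) in
/-- The line over the field through a vector. -/
def line (u : ι → F) : Submodule F (ι → F) := (K ∙ u).restrictScalars F

theorem mem_line {u z : ι → F} : z ∈ line K u ↔ ∃ a : K, a • u = z := Submodule.mem_span_singleton

variable (K) in
/-- The image of a line. -/
def img (g : GL ι F) (u : ι → F) : Submodule F (ι → F) := (line K u).map (mvLin g)

theorem mem_img {g : GL ι F} {u z : ι → F} : z ∈ img K g u ↔ ∃ a : K, mv g (a • u) = z := by
  constructor
  · rintro ⟨x, hx, rfl⟩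
    obtain ⟨a, rfl⟩ := mem_line.1 hx
    exact ⟨a, (Matrix.toLin'_apply _ _).symm⟩
  · rintro ⟨a, rfl⟩
    exact ⟨a • u, mem_line.2 ⟨a, rfl⟩, Matrix.toLin'_apply _ _⟩

variable (K) in
/-- The dimension of the meet. -/
noncomputable def meet (g : GL ι F) (u : ι → F) : ℕ := Module.finrank F ↥(line K u ⊓ img K g u)

theorem finrank_line {u : ι → F} (hu : u ≠ 0) : Module.finrank F (line K u) = Module.finrank F K := by
  have : line K u = LinearMap.range ((LinearMap.toSpanSingleton K (ι → F) u).restrictScalars F) := by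
    ext z
    simp [mem_line, eq_comm]
  rw [this]
  exact LinearMap.finrank_range_of_inj (f := (LinearMap.toSpanSingleton K (ι → F) u).restrictScalars F)
    (smul_left_injective K hu)

theorem finrank_map_mv (g : GL ι F) (S : Submodule F (ι → F)) :
    Module.finrank F ↥(S.map (mvLin g)) = Module.finrank F S :=
  (LinearEquiv.finrank_eq (Submodule.equivMapOfInjective (mvLin g) (fun x y h => mv_inj g (by simpa using h)) S)).symm

theorem finrank_img (g : GL ι F) {u : ι → F} (hu : u ≠ 0) : Module.finrank F (img K g u) = Module.finrank F K := by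
  rw [img, finrank_map_mv, finrank_line hu]

variable {ℓ : Module.Dual F K} (hE : Ext Q ℓ)
include hE

/-- A meeting pair which is not orthogonal and meets as much as possible. -/
structure IsMax (M : Subgroup (GL ι F)) (g : GL ι F) (u : ι → F) : Prop where
  mem : g ∈ M
  pos : 0 < meet K g u
  nonorth : ∃ z ∈ img K g u, B hE z u ≠ 0
  max : ∀ g' ∈ M, 0 < meet K g' u → (∃ z ∈ img K g' u, B hE z u ≠ 0) → meet K g' u ≤ meet K g u

/-- No image vector outside the line is orthogonal to it over the field. -/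
def Tight (g : GL ι F) (u : ι → F) : Prop := ∀ z ∈ img K g u, B hE z u = 0 → z ∈ line K u

variable {M : Subgroup (GL ι F)} (hM : Over Q K M)
include hM

theorem img_pol {g : GL ι F} (hg : g ∈ M) {u : ι → F} (hu : B hE u u = 0) {x y : ι → F} (hx : x ∈ img K g u)
    (hy : y ∈ img K g u) : pol Q x y = 0 := by
  obtain ⟨a, rfl⟩ := mem_img.1 hx
  obtain ⟨b, rfl⟩ := mem_img.1 hy
  rw [pol_mv hE.quad (M_iso hE hM hg), ← ell_B_one hE]
  simp [hu]

theorem cand {g h : GL ι F} {u : ι → F} (hg : g ∈ M) (hh : h ∈ M) {S : Submodule F (ι → F)} (hS : S ≤ img K g u)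
    (hfix : ∀ s ∈ S, mv h s = s) (hne : ∃ x ∈ img K g u, ∃ y ∈ img K g u, pol Q (mv h x) y ≠ 0) :
    g⁻¹ * h * g ∈ M ∧ S.map (mvLin g⁻¹) ≤ line K u ⊓ img K (g⁻¹ * h * g) u ∧
      ∃ z ∈ img K (g⁻¹ * h * g) u, B hE z u ≠ 0 := by
  refine ⟨M.mul_mem (M.mul_mem (M.inv_mem hg) hh) hg, ?_, ?_⟩
  · rintro _ ⟨s, hs, rfl⟩
    obtain ⟨a, rfl⟩ := mem_img.1 (hS hs)
    have e : mvLin g⁻¹ (mv g (a • u)) = a • u := (Matrix.toLin'_apply _ _).trans (mv_inv_mv g _)
    rw [e]
    exact ⟨mem_line.2 ⟨a, rfl⟩, mem_img.2 ⟨a, by rw [mv_mul, mv_mul, hfix _ hs, mv_inv_mv]⟩⟩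
  · obtain ⟨x, hx, y, hy, hxy⟩ := hne
    obtain ⟨a, rfl⟩ := mem_img.1 hx
    obtain ⟨b, rfl⟩ := mem_img.1 hy
    refine ⟨_, mem_img.2 ⟨a, rfl⟩, fun h0 => hxy ?_⟩
    rw [← pol_mv hE.quad (M_iso hE hM (M.inv_mem hg)), mv_inv_mv, ← mv_mul, ← mv_mul, ← ell_B_one hE, map_smul, h0,
      smul_zero, map_zero]

theorem IsMax.finrank_le {g h : GL ι F} {u : ι → F} (hmax : IsMax hE M g u) (hh : h ∈ M)
    {S : Submodule F (ι → F)} (hS : S ≤ img K g u) (hS0 : 0 < Module.finrank F S) (hfix : ∀ s ∈ S, mv h s = s)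
    (hne : ∃ x ∈ img K g u, ∃ y ∈ img K g u, pol Q (mv h x) y ≠ 0) : Module.finrank F S ≤ meet K g u := by
  obtain ⟨h1, h2, h3⟩ := cand hE hM hmax.mem hh hS hfix hne
  have h4 := Submodule.finrank_mono h2
  rw [finrank_map_mv] at h4
  exact h4.trans (hmax.max _ h1 (lt_of_lt_of_le hS0 h4) h3)

theorem IsMax.inv {g : GL ι F} {u : ι → F} (hmax : IsMax hE M g u) : IsMax hE M g⁻¹ u ∧ meet K g⁻¹ u = meet K g u := by
  have he : meet K g⁻¹ u = meet K g u := by
    rw [meet, meet, show line K u ⊓ img K g⁻¹ u = (line K u ⊓ img K g u).map (mvLin g⁻¹) from ?_, finrank_map_mv]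
    have hi : Function.Injective (mvLin g⁻¹) := fun x y h => mv_inj g⁻¹ (by rwa [Matrix.toLin'_apply, Matrix.toLin'_apply] at h)
    rw [Submodule.map_inf _ hi, inf_comm]
    congr 1
    rw [img, ← Submodule.map_comp, show (mvLin g⁻¹).comp (mvLin g) = LinearMap.id from LinearMap.ext fun z => by
      rw [LinearMap.id_apply, LinearMap.comp_apply, Matrix.toLin'_apply, Matrix.toLin'_apply]
      exact mv_inv_mv g z, Submodule.map_id]
  refine ⟨⟨M.inv_mem hmax.mem, he ▸ hmax.pos, ?_, fun g' hg' hp hn => he ▸ hmax.max g' hg' hp hn⟩, he⟩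
  obtain ⟨z, hz, hzu⟩ := hmax.nonorth
  obtain ⟨a, rfl⟩ := mem_img.1 hz
  obtain ⟨c, hc⟩ := exists_ell_mul hE hzu
  refine ⟨mv g⁻¹ (c • u), mem_img.2 ⟨c, rfl⟩, fun h0 => hc ?_⟩
  rw [ell_B, hE.sa, ← pol_mv hE.quad (M_iso hE hM (M.inv_mem hmax.mem)), mv_inv_mv, ← ell_B_one hE]
  simp [B_comm hE u, h0]

/-- The partner inside the plane of a line and an image vector. -/
theorem exists_plane {u z : ι → F} (hu : B hE u u = 0) (hz : B hE z u ≠ 0) :
    ∃ f, IsHyp hE u f ∧ (∀ p, InP hE u f p → B hE p z = 0) ∧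
      ∀ h : GL ι F, KLin K h → mv h u = u → mv h f = f → mv h z = z := by
  have h2 := two' hE
  refine ⟨(B hE z u)⁻¹ • z - (B hE z z / (2 * B hE z u ^ 2)) • u, ⟨hu, ?_, ?_⟩, fun p hp => ?_,
    fun h hk h1 h3 => ?_⟩
  · simp only [map_sub, map_smul, LinearMap.sub_apply, LinearMap.smul_apply, smul_eq_mul, hu, B_comm hE u z]
    field_simp
    ring
  · simp only [map_sub, map_smul, smul_eq_mul, hu, mul_zero, sub_zero, B_comm hE u z]
    exact inv_mul_cancel₀ hz
  · have := hp.2
    simpa [hp.1, hz] using this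
  · rw [mv_sub, hk, hk, h1, sub_left_inj] at h3
    exact smul_right_injective (ι → F) (inv_ne_zero hz) h3

/-- The projections of a maximal image are orthogonal over the field, and vanish in large dimension. -/
theorem proj_orth [Finite F] (hr : (Module.finrank F K).Prime) (hd : 4 ≤ Module.finrank K (ι → F))
    (hd4 : Module.finrank K (ι → F) = 4 → 3 ≤ Module.finrank F K ∨ Aniso hE) {g : GL ι F} {u f : ι → F}
    (hh : IsHyp hE u f) (hmax : IsMax hE M g u) {z₁ : ι → F} (hz₁ : z₁ ∈ img K g u) (hz₁u : B hE z₁ u ≠ 0)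
    (hf : ∀ h : GL ι F, KLin K h → mv h u = u → mv h f = f → mv h z₁ = z₁) :
    ∀ z ∈ img K g u, ∀ z' ∈ img K g u,
      B hE (z - B hE z f • u - B hE z u • f) (z' - B hE z' f • u - B hE z' u • f) = 0 ∧
      (5 ≤ Module.finrank K (ι → F) → z - B hE z f • u - B hE z u • f = 0) := by
  haveI : Module.Finite K (ι → F) := Module.Finite.of_restrictScalars_finite F K _
  have h2 := two' hE
  obtain ⟨hu, hff, huf⟩ := id hh
  have key : ∀ h ∈ M, KLin K h → mv h u = u → mv h f = f → ∀ z ∈ img K g u, ∀ z' ∈ img K g u,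
      pol Q (mv h (z - B hE z f • u - B hE z u • f) - (z - B hE z f • u - B hE z u • f))
        (z' - B hE z' f • u - B hE z' u • f) = 0 := by
    intro h hhM hk h1 h3 z hz z' hz'
    have hpol : pol Q (mv h z) z' = 0 := by
      by_contra hne
      have hS : (line K u ⊓ img K g u) ⊔ F ∙ z₁ ≤ img K g u := sup_le inf_le_right (by simpa using hz₁)
      have hlt : line K u ⊓ img K g u < (line K u ⊓ img K g u) ⊔ F ∙ z₁ := lt_of_le_of_ne le_sup_left fun e => by
        have hmem : z₁ ∈ line K u ⊓ img K g u := e ▸ Submodule.mem_sup_right (Submodule.mem_span_singleton_self z₁)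
        obtain ⟨a, ha⟩ := mem_line.1 hmem.1
        exact hz₁u (by simp [← ha, hu])
      have h4 := Submodule.finrank_lt_finrank_of_lt hlt
      have h5 := hmax.finrank_le hE hM hhM hS (lt_of_le_of_lt (Nat.zero_le _) h4) (fun s hs => ?_)
        ⟨z, hz, z', hz', hne⟩
      · exact absurd h4 (not_lt.2 h5)
      obtain ⟨w, hw, t, ht, rfl⟩ := Submodule.mem_sup.1 hs
      obtain ⟨c, rfl⟩ := Submodule.mem_span_singleton.1 ht
      obtain ⟨a, rfl⟩ := mem_line.1 hw.1
      rw [mv_add, hk, mv_smul, h1, hf h hk h1 h3]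
    set p := z - B hE z f • u - B hE z u • f with hp
    have hhz : mv h z - z = mv h p - p := by
      rw [hp, mv_sub, mv_sub, hk, hk, h1, h3]; abel
    have hh' := hh
    obtain ⟨hp1, hp2⟩ := proj_hyp hE hh z
    rw [← hp] at hp1 hp2
    have hiso := M_iso hE hM hhM
    have e1 : B hE (mv h p - p) u = 0 := by
      rw [map_sub, LinearMap.sub_apply, hp1, sub_zero]
      conv_lhs => rw [← h1]
      rw [B_mv hE hk hiso, hp1]
    have e2 : B hE (mv h p - p) f = 0 := by
      rw [map_sub, LinearMap.sub_apply, hp2, sub_zero]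
      conv_lhs => rw [← h3]
      rw [B_mv hE hk hiso, hp2]
    have hzero : pol Q (mv h z - z) z' = 0 := by
      rw [pol_sub_left hE.quad, hpol, img_pol hE hM hmax.mem hu hz hz', sub_zero]
    rw [hhz, ← ell_B_one hE] at hzero
    rw [← ell_B_one hE]
    simp only [(B hE (mv h p - p)).map_sub, (B hE (mv h p - p)).map_smul, e1, e2, smul_zero, sub_zero]
    exact hzero
  intro z hz z' hz'
  have hP := proj_hyp hE hh z
  have hzero : 5 ≤ Module.finrank K (ι → F) → ∀ z ∈ img K g u, z - B hE z f • u - B hE z u • f = 0 := by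
    intro h5 z hz
    set p := z - B hE z f • u - B hE z u • f with hp
    by_contra hp0
    obtain ⟨hp1, hp2⟩ := proj_hyp hE hh z
    rw [← hp] at hp1 hp2
    set Z := ⊤ ⊓ LinearMap.ker ((B hE).flip u) ⊓ LinearMap.ker ((B hE).flip f) with hZ
    have d1 := finrank_inf_ker (F := F) (⊤ : Submodule K (ι → F)) ((B hE).flip u)
    have d2 := finrank_inf_ker (F := F) (⊤ ⊓ LinearMap.ker ((B hE).flip u)) ((B hE).flip f)
    rw [finrank_top] at d1
    rw [← hZ] at d2
    obtain ⟨v, hv, y, hy, hvv, hvy, hpv, hyy⟩ := exists_move_vec hE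
      ((hasProj_top hE).inf_hyp hE Submodule.mem_top Submodule.mem_top hh) (by omega : 3 ≤ Module.finrank K Z)
      (show p ∈ Z from ⟨⟨trivial, hp1⟩, hp2⟩) hp0
    have hvu : B hE v u = 0 := hv.1.2
    have hvf : B hE v f = 0 := hv.2
    have hyu : B hE y u = 0 := hy.1.2
    have hyf : B hE y f = 0 := hy.2
    obtain ⟨s, hs⟩ := exists_ell_sq_ne hE (mul_ne_zero (div_ne_zero hyy h2) (mul_ne_zero hpv hpv))
    obtain ⟨h, hhM, hk, hhz⟩ := exists_rho_mem hE hM (by omega) hvv (y := s • y) (by simp [hvy])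
    have := key h hhM hk (by rw [hhz]; simp [B_comm hE u v, B_comm hE u y, hvu, hyu])
      (by rw [hhz]; simp [B_comm hE f v, B_comm hE f y, hvf, hyf]) z hz z hz
    rw [← hp, ← ell_B_one hE, hhz] at this
    simp only [map_add, map_sub, map_smul, LinearMap.add_apply, LinearMap.sub_apply, LinearMap.smul_apply,
      smul_eq_mul, B_comm hE y p, B_comm hE v p] at this
    rw [← map_add, ← map_sub, ← map_sub] at this
    apply hs
    rw [← neg_eq_zero, ← map_neg, ← this]
    congr 1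
    ring
  refine ⟨?_, fun h5 => hzero h5 z hz⟩
  by_cases h5 : 5 ≤ Module.finrank K (ι → F)
  · rw [hzero h5 z hz]; simp
  exact rot_orth hE hM hr (hd4 (by omega)) (by omega) hh hP (proj_hyp hE hh z') fun h hhM hk h1 h3 => by
    rw [key h hhM hk h1 h3 z hz z' hz', key h hhM hk h1 h3 z' hz' z hz, add_zero]

theorem tight_of_large [Finite F] (hr : (Module.finrank F K).Prime) (hd : 5 ≤ Module.finrank K (ι → F)) {g : GL ι F}
    {u : ι → F} (hu : B hE u u = 0) (hmax : IsMax hE M g u) : Tight hE g u := by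
  intro z hz hzu
  obtain ⟨z₁, hz₁, hz₁u⟩ := hmax.nonorth
  obtain ⟨f, hh, -, hf⟩ := exists_plane hE hM hu hz₁u
  have := (proj_orth hE hM hr (by omega) (by omega) hh hmax hz₁ hz₁u hf z hz z hz).2 hd
  rw [hzu, zero_smul, sub_zero, sub_eq_zero] at this
  exact mem_line.2 ⟨_, this.symm⟩

/-- A vector orthogonal to the plane with prescribed value killing a functional on the image. -/
theorem exists_test [Finite F] (hr : (Module.finrank F K).Prime) (hd : 4 ≤ Module.finrank K (ι → F))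
    (hd4 : Module.finrank K (ι → F) = 4 → 3 ≤ Module.finrank F K ∨ Aniso hE) {g : GL ι F} {u f : ι → F} (hh : IsHyp hE u f)
    (hmax : IsMax hE M g u) {z₁ : ι → F} (hz₁ : z₁ ∈ img K g u) (hz₁u : B hE z₁ u ≠ 0)
    (hf : ∀ h : GL ι F, KLin K h → mv h u = u → mv h f = f → mv h z₁ = z₁) (b : K) :
    ∃ y, InP hE u f y ∧ B hE y y = 2 * b ∧
      ∀ x ∈ img K g u, ℓ (B hE z₁ u * B hE y x - B hE z₁ y * B hE x u) = 0 := by
  haveI : Module.Finite K (ι → F) := Module.Finite.of_restrictScalars_finite F K _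
  have horth := proj_orth hE hM hr hd hd4 hh hmax hz₁ hz₁u hf
  have hred : ∀ y z, InP hE u f y → B hE z y = B hE (z - B hE z f • u - B hE z u • f) y := fun y z hy => by
    simp [B_comm hE u y, B_comm hE f y, hy.1, hy.2]
  by_cases hall : ∀ z ∈ img K g u, z - B hE z f • u - B hE z u • f = 0
  · obtain ⟨y, hy, hyy⟩ := exists_value hE hh hd (2 * b)
    refine ⟨y, hy, hyy, fun x hx => ?_⟩
    rw [B_comm hE y x, hred y x hy, hall x hx, hred y z₁ hy, hall z₁ hz₁]
    simp
  push Not at hall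
  obtain ⟨z₂, hz₂, ha0⟩ := hall
  have hd' : Module.finrank K (ι → F) = 4 := by
    by_contra h
    exact ha0 ((horth z₂ hz₂ z₂ hz₂).2 (by omega))
  set a := z₂ - B hE z₂ f • u - B hE z₂ u • f with ha
  have haP : InP hE u f a := proj_hyp hE hh z₂
  have haa : B hE a a = 0 := (horth z₂ hz₂ z₂ hz₂).1
  obtain ⟨b', hb', hab⟩ := exists_partner_in hE
    ((hasProj_top hE).inf_hyp hE Submodule.mem_top Submodule.mem_top hh) (u := a) ⟨⟨trivial, haP.1⟩, haP.2⟩ ha0 haa
  have hbP : InP hE u f b' := ⟨hb'.1.2, hb'.2⟩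
  have h2 := two' hE
  have hdec : ∀ z ∈ img K g u, z - B hE z f • u - B hE z u • f = B hE z b' • a := by
    intro z hz
    have h0 : B hE (z - B hE z f • u - B hE z u • f) a = 0 := (horth z hz z₂ hz₂).1
    obtain ⟨k1, k2⟩ := proj_hyp hE hh z
    have hzb := hred b' z hbP
    set p := z - B hE z f • u - B hE z u • f
    refine sub_eq_zero.1 (eq_zero_of_frame hE hh (a := a + b') (e := a - b') (haP.add hE hbP)
      ⟨by simp [haP.1, hbP.1], by simp [haP.2, hbP.2]⟩ ?_ ?_ ?_ hd' ?_ ?_ ?_ ?_)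
    · simp [haa, hab.2.1, hab.2.2, B_comm hE b' a]; rw [← two_mul]; simpa using h2
    · simp [haa, hab.2.1, hab.2.2, B_comm hE b' a]; intro h; exact h2 (by linear_combination -h)
    · simp [haa, hab.2.1, hab.2.2, B_comm hE b' a]
    · simp [k1, haP.1]
    · simp [k2, haP.2]
    · simp [h0, haa, hab.2.2, hzb]
    · simp [h0, haa, hab.2.2, hzb]
  let ψ : K →ₗ[F] Module.Dual F (img K g u) :=
    { toFun := fun η =>
        { toFun := fun x => ℓ (η * (B hE z₁ u * B hE x.1 b' - B hE z₁ b' * B hE x.1 u))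
          map_add' := fun x y => by simp [mul_add, mul_sub, map_add, map_sub]; abel
          map_smul' := fun c x => by
            simp only [Submodule.coe_smul, LinearMap.map_smul_of_tower, LinearMap.smul_apply, RingHom.id_apply,
              mul_smul_comm, ← smul_sub, map_smul] }
      map_add' := fun a b => LinearMap.ext fun x => by simp [add_mul]
      map_smul' := fun c a => LinearMap.ext fun x => by simp }
  obtain ⟨η, hη, hη0⟩ : ∃ η ∈ LinearMap.ker ψ, η ≠ 0 := (LinearMap.ker ψ).ne_bot_iff.1 fun h0 => by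
    have hinj : Function.Injective ψ := LinearMap.ker_eq_bot.1 h0
    have hle : LinearMap.range ψ ≤ ((line K u ⊓ img K g u).comap (img K g u).subtype).dualAnnihilator := by
      rintro _ ⟨η, rfl⟩
      rw [Submodule.mem_dualAnnihilator]
      intro x hx
      obtain ⟨c, hc⟩ := mem_line.1 hx.1
      have e1 : B hE x.1 b' = 0 := by
        rw [show x.1 = c • u from hc.symm]; simp [B_comm hE u b', hbP.1]
      have e2 : B hE x.1 u = 0 := by
        rw [show x.1 = c • u from hc.symm]; simp [hh.1]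
      show ℓ _ = 0
      simp [e1, e2]
    have h1 := Submodule.finrank_mono hle
    rw [LinearMap.finrank_range_of_inj hinj] at h1
    have h3 := Subspace.finrank_add_finrank_dualAnnihilator_eq ((line K u ⊓ img K g u).comap (img K g u).subtype)
    rw [LinearEquiv.finrank_eq (Submodule.comapSubtypeEquivOfLe inf_le_right), finrank_img g hh.ne_left] at h3
    have := hmax.pos
    unfold meet at this
    omega
  refine ⟨(b / η) • a + η • b', (haP.smul hE _).add hE (hbP.smul hE _), ?_, fun x hx => ?_⟩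
  · simp [haa, hab.2.1, hab.2.2, B_comm hE b' a]
    field_simp
    ring
  · set y := (b / η) • a + η • b' with hy
    have hyP : InP hE u f y := (haP.smul hE _).add hE (hbP.smul hE _)
    have hay : B hE a y = η := by simp [hy, haa, hab.2.2]
    rw [B_comm hE y x, hred y x hyP, hdec x hx, hred y z₁ hyP, hdec z₁ hz₁]
    have := LinearMap.congr_fun (LinearMap.mem_ker.1 hη) ⟨x, hx⟩
    rw [← LinearMap.zero_apply (σ₁₂ := RingHom.id F) (⟨x, hx⟩ : img K g u), ← this]
    simp only [ψ, LinearMap.coe_mk, AddHom.coe_mk, map_smul, LinearMap.smul_apply, smul_eq_mul, hay]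
    congr 1
    ring

/-- A maximal pair meets in a hyperplane, provided all maximal pairs are tight. -/
theorem hyperplane [Finite F] (hr : (Module.finrank F K).Prime) (hd : 4 ≤ Module.finrank K (ι → F))
    (hd4 : Module.finrank K (ι → F) = 4 → 3 ≤ Module.finrank F K ∨ Aniso hE) {u : ι → F} (hu : B hE u u = 0) (hu0 : u ≠ 0)
    (hT : ∀ g, IsMax hE M g u → Tight hE g u) {g : GL ι F} (hmax : IsMax hE M g u) {z₁ : ι → F}
    (hz₁ : z₁ ∈ img K g u) (hz₁u : B hE z₁ u ≠ 0) :
    meet K g u + 1 = Module.finrank F K ∧ ∀ z ∈ img K g u, ∃ c : F, z - c • z₁ ∈ line K u ⊓ img K g u := by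
  have h2 := two' hE
  obtain ⟨f, hh, -, hf⟩ := exists_plane hE hM hu hz₁u
  let π : img K g u →ₗ[F] K :=
    (((B hE).flip u).restrictScalars F).domRestrict (img K g u)
  have hπ : ∀ z : img K g u, π z = B hE z.1 u := fun z => rfl
  obtain ⟨P, hP⟩ : ∃ P, P = LinearMap.range π := ⟨_, rfl⟩
  set p := B hE z₁ u with hp
  have hpP : p ∈ P := hP ▸ ⟨⟨z₁, hz₁⟩, rfl⟩
  have hker : ∀ b : K, (∀ x ∈ P, ℓ (b * p * x) = 0) → ∀ x ∈ P, ∀ y ∈ P, ℓ (b * x * y) = 0 := by
    intro b hb
    obtain ⟨y, hy, hyy, hkill⟩ := exists_test hE hM hr hd hd4 hh hmax hz₁ hz₁u hf b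
    obtain ⟨h, hhM, hk, hhz⟩ := exists_rho_mem hE hM (by omega) hu (y := y) (by rw [B_comm]; exact hy.1)
    have hG : ∀ x ∈ img K g u, ∀ x' ∈ img K g u, pol Q (mv h x) x' =
        ℓ (B hE x u * B hE y x' - (B hE x y + b * B hE x u) * B hE x' u) := by
      intro x hx x' hx'
      rw [← ell_B_one hE, hhz, hyy]
      simp only [map_add, map_sub, map_smul, LinearMap.add_apply, LinearMap.sub_apply, LinearMap.smul_apply,
        smul_eq_mul, B_comm hE u x']
      rw [ell_B_one hE x x', img_pol hE hM hmax.mem hu hx hx', zero_add]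
      congr 3
      field_simp
    have hall : ∀ x ∈ img K g u, ∀ x' ∈ img K g u, pol Q (mv h x) x' = 0 := by
      by_contra hne
      push Not at hne
      obtain ⟨x, hx, x', hx', hne⟩ := hne
      have hfix : ∀ s ∈ line K u ⊓ img K g u, mv h s = s := fun s hs => by
        obtain ⟨c, rfl⟩ := mem_line.1 hs.1
        rw [hk, hhz]
        simp [hu, B_comm hE u y, hy.1]
      obtain ⟨h1, hle, h3⟩ := cand hE hM hmax.mem hhM inf_le_right hfix ⟨x, hx, x', hx', hne⟩
      set k := g⁻¹ * h * g with hkdef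
      have h4 := Submodule.finrank_mono hle
      rw [finrank_map_mv] at h4
      have h5 : 0 < meet K k u := lt_of_lt_of_le hmax.pos h4
      have heq : meet K k u = meet K g u := le_antisymm (hmax.max k h1 h5 h3) h4
      have hmaxk : IsMax hE M k u := ⟨h1, h5, h3, fun g' a b c => heq ▸ hmax.max g' a b c⟩
      obtain ⟨a, ha⟩ := mem_img.1 hz₁
      have hmem : mv k (a • u) ∈ img K k u := mem_img.2 ⟨a, rfl⟩
      have hBk : B hE (mv k (a • u)) u = 0 := eq_of_ell hE fun c => by
        rw [mul_zero, map_zero, ell_B, hE.sa,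
          show mv k (a • u) = mv g⁻¹ (mv h z₁) by rw [hkdef, mv_mul, mv_mul, ha],
          ← pol_mv hE.quad (M_iso hE hM hmax.mem), mv_mv_inv, hG z₁ hz₁ _ (mem_img.2 ⟨c, rfl⟩)]
        have e1 := hkill _ (mem_img.2 ⟨c, rfl⟩)
        have e2 := hb (B hE (mv g (c • u)) u) (by rw [hP]; exact ⟨⟨_, mem_img.2 ⟨c, rfl⟩⟩, rfl⟩)
        rw [add_mul, ← sub_sub, map_sub, ← hp, e1, zero_sub, neg_eq_zero]
        exact e2
      have hin : mv k (a • u) ∈ line K u ⊓ img K k u := ⟨hT k hmaxk _ hmem hBk, hmem⟩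
      rw [← Submodule.eq_of_le_of_finrank_le hle (by rw [finrank_map_mv]; exact heq.le)] at hin
      obtain ⟨w, hw, hwe⟩ := hin
      rw [Matrix.toLin'_apply] at hwe
      have hz1w : mv h z₁ = mv h w := by
        rw [hfix w hw]
        exact mv_inj g⁻¹ (by rw [show mv g⁻¹ w = mv k (a • u) from hwe, hkdef, mv_mul, mv_mul, ha])
      obtain ⟨c, hc⟩ := mem_line.1 (mv_inj h hz1w ▸ hw : z₁ ∈ line K u ⊓ img K g u).1
      exact hz₁u (by rw [hp, ← hc]; simp [hu])
    intro x hx y' hy'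
    rw [hP] at hx hy'
    obtain ⟨x, rfl⟩ := hx
    obtain ⟨x', rfl⟩ := hy'
    have e1 := hall x.1 x.2 x'.1 x'.2
    have e2 := hall x'.1 x'.2 x.1 x.2
    rw [hG _ x.2 _ x'.2] at e1
    rw [hG _ x'.2 _ x.2] at e2
    rw [hπ, hπ]
    have e3 : ℓ ((-2 : F) • (b * B hE x.1 u * B hE x'.1 u)) = 0 := by
      rw [show (0 : F) = 0 + 0 from (add_zero 0).symm]
      conv_rhs => arg 1; rw [← e1]
      conv_rhs => arg 2; rw [← e2]
      rw [← map_add]
      congr 1
      rw [Algebra.smul_def, map_neg, map_ofNat, B_comm hE y x'.1, B_comm hE y x.1]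
      ring
    rw [map_smul, smul_eq_mul, mul_eq_zero] at e3
    exact e3.resolve_left (neg_ne_zero.2 hE.two)
  have hp0 : p ≠ 0 := hz₁u
  have hclosed : ∀ x ∈ P, ∀ y ∈ P, p⁻¹ * x * y ∈ P := by
    intro x hx y hy
    by_contra hxy
    obtain ⟨ψ, hψ, hψ0⟩ := Submodule.exists_dual_map_eq_bot_of_notMem hxy inferInstance
    obtain ⟨c, hc⟩ := exists_rep hE ψ
    refine hψ ?_
    rw [← hc, show p⁻¹ * x * y * c = c * p⁻¹ * x * y by ring]
    refine hker (c * p⁻¹) (fun z hz => ?_) x hx y hy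
    rw [mul_assoc c, inv_mul_cancel₀ hp0, mul_one, mul_comm, hc]
    have : ψ z ∈ P.map ψ := Submodule.mem_map_of_mem hz
    rwa [hψ0, Submodule.mem_bot] at this
  let S := P.map (LinearMap.mulLeft F p⁻¹)
  have h1S : (1 : K) ∈ S := ⟨p, hpP, inv_mul_cancel₀ hp0⟩
  have hcut : S = F ∙ (1 : K) := by
    refine (closed_cases hr S (fun h => by rw [h, Submodule.mem_bot] at h1S; exact one_ne_zero h1S) ?_).resolve_right
      fun htop => ?_
    · rintro _ ⟨x, hx, rfl⟩ _ ⟨y, hy, rfl⟩
      refine ⟨p⁻¹ * x * y, hclosed x hx y hy, ?_⟩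
      simp only [LinearMap.mulLeft_apply]
      ring
    have hinj : Function.Injective (LinearMap.mulLeft F p⁻¹) := fun x y h => mul_left_cancel₀ (inv_ne_zero hp0) h
    have h1 : Module.finrank F S = Module.finrank F P :=
      (LinearEquiv.finrank_eq (Submodule.equivMapOfInjective _ hinj P)).symm
    rw [htop, finrank_top, hP] at h1
    have h3 := LinearMap.finrank_range_add_finrank_ker π
    rw [finrank_img g hu0] at h3
    have hle : (line K u ⊓ img K g u).comap (img K g u).subtype ≤ LinearMap.ker π := fun x hx => by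
      obtain ⟨c, hc⟩ := mem_line.1 hx.1
      rw [LinearMap.mem_ker, hπ, show x.1 = c • u from hc.symm]
      simp [hu]
    have h6 := Submodule.finrank_mono hle
    rw [LinearEquiv.finrank_eq (Submodule.comapSubtypeEquivOfLe inf_le_right)] at h6
    have := hmax.pos
    unfold meet at this
    omega
  have hcoef : ∀ z ∈ img K g u, ∃ c : F, z - c • z₁ ∈ line K u ⊓ img K g u := by
    intro z hz
    have hzS : LinearMap.mulLeft F p⁻¹ (B hE z u) ∈ S :=
      Submodule.mem_map_of_mem (by rw [hP]; exact ⟨⟨z, hz⟩, rfl⟩)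
    rw [hcut] at hzS
    obtain ⟨c, hc⟩ := Submodule.mem_span_singleton.1 hzS
    have hmem : z - c • z₁ ∈ img K g u := Submodule.sub_mem _ hz (Submodule.smul_mem _ c hz₁)
    refine ⟨c, hT g hmax _ hmem ?_, hmem⟩
    rw [map_sub, LinearMap.sub_apply, LinearMap.map_smul_of_tower, LinearMap.smul_apply, ← hp, sub_eq_zero,
      ← one_mul p, ← smul_mul_assoc, hc]
    simp [mul_comm p⁻¹, hp0]
  refine ⟨?_, hcoef⟩
  have hlt : line K u ⊓ img K g u < img K g u := lt_of_le_of_ne inf_le_right fun e => by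
    obtain ⟨c, hc⟩ := mem_line.1 (e.ge hz₁).1
    exact hz₁u (by rw [hp, ← hc]; simp [hu])
  have h1 := Submodule.finrank_lt_finrank_of_lt hlt
  have hle : img K g u ≤ (line K u ⊓ img K g u) ⊔ F ∙ z₁ := fun z hz => by
    obtain ⟨c, hc⟩ := hcoef z hz
    exact Submodule.mem_sup.2 ⟨_, hc, c • z₁, Submodule.smul_mem _ _ (Submodule.mem_span_singleton_self _),
      sub_add_cancel _ _⟩
  have h3 := Submodule.finrank_mono hle
  have h4 := Submodule.finrank_add_le_finrank_add_finrank (line K u ⊓ img K g u) (F ∙ z₁)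
  have h5 : Module.finrank F ↥(F ∙ z₁) ≤ 1 := (finrank_span_le_card _).trans (by simp)
  rw [finrank_img g hu0] at h1 h3
  unfold meet
  omega

end Cfsg.Agent.OrthFieldExt
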