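/-
Unipotent elements fixing a totally singular plane over the field, and the algebra they generate.
-/
import Cfsg.Agent.Lib.OrthFieldExt.Rot
import Cfsg.Agent.Lib.OrthFieldExt.Base

set_option autoImplicit false
set_option linter.all false
set_option maxHeartbeats 1000000

namespace Cfsg.Agent.OrthFieldExt

open scoped Matrix
open Matrix Cfsg.Agent.Transvec Cfsg.Agent.Transvec.Orth

variable {ι : Type} [Fintype ι] [DecidableEq ι] {F : Type*} [Field F] {Q : (ι → F) → F}
variable {K : Type*} [Field K] [Algebra F K] [Module K (ι → F)] [IsScalarTower F K (ι → F)] [FiniteDimensional F K]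

/-- Multiplications and a map which is not one of them generate all linear maps. -/
theorem dense [Finite F] (hr : (Module.finrank F K).Prime) {Θ : K →ₗ[F] K}
    (hΘ : ∀ c : K, Θ ≠ LinearMap.mulLeft F c) (S : Subring (Module.End F K))
    (hmul : ∀ c : K, LinearMap.mulLeft F c ∈ S) (hS : Θ ∈ S) (L : Module.End F K) : L ∈ S := by
  haveI : Finite K := Module.finite_of_finite F
  haveI : Fintype K := Fintype.ofFinite K
  haveI : IsSimpleModule S K := by
    refine (isSimpleModule_iff S K).2 ?_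
    haveI : Nontrivial (Submodule S K) := Submodule.nontrivial_iff S |>.2 inferInstance
    refine ⟨fun N => or_iff_not_imp_left.2 fun hN => Submodule.eq_top_iff'.2 fun y => ?_⟩
    obtain ⟨x, hx, hx0⟩ := N.ne_bot_iff.1 hN
    have := N.smul_mem (⟨_, hmul (y / x)⟩ : S) hx
    change (y / x) * x ∈ N at this
    rwa [div_mul_cancel₀ y hx0] at this
  have hcomm : ∀ e : Module.End S K, ∃ c : F, ∀ y, e y = c • y := by
    have hlin : ∀ (e : Module.End S K) (y : K), e y = e 1 * y := fun e y => by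
      have h := e.map_smul (⟨_, hmul y⟩ : S) 1
      change e (y * 1) = y * e 1 at h
      rw [mul_one] at h
      rw [h, mul_comm]
    let C : Submodule F K :=
      { carrier := {x | ∀ t, Θ (x * t) = x * Θ t}
        add_mem' := fun {p q} hp hq t => by rw [add_mul, map_add, hp, hq, add_mul]
        zero_mem' := fun t => by simp
        smul_mem' := fun c x hx t => by rw [smul_mul_assoc, map_smul, hx, smul_mul_assoc] }
    have h1 : (1 : K) ∈ C := fun t => by simp
    have hC : C = F ∙ (1 : K) := (closed_cases hr C (fun h => by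
      rw [h, Submodule.mem_bot] at h1; exact one_ne_zero h1)
      (fun p hp q hq t => by rw [mul_assoc, hp, hq, mul_assoc])).resolve_right fun htop => hΘ (Θ 1)
        (LinearMap.ext fun t => by
          have ht : t ∈ C := htop ▸ Submodule.mem_top
          have := ht 1
          rw [mul_one] at this
          simp [this, mul_comm])
    intro e
    have he : e 1 ∈ C := fun t => by
      have h := e.map_smul (⟨Θ, hS⟩ : S) t
      change e (Θ t) = Θ (e t) at h
      rw [hlin e t, hlin e (Θ t)] at h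
      exact h.symm
    rw [hC] at he
    obtain ⟨c, hc⟩ := Submodule.mem_span_singleton.1 he
    exact ⟨c, fun y => by rw [hlin e y, ← hc, smul_mul_assoc, one_mul]⟩
  let Φ : Module.End (Module.End S K) K :=
    { toFun := L
      map_add' := L.map_add
      map_smul' := fun e y => by
        obtain ⟨c, hc⟩ := hcomm e
        show L (e y) = e (L y)
        rw [hc, hc, map_smul] }
  obtain ⟨s, hs⟩ := jacobson_density Φ Finset.univ
  have : L = (s : Module.End F K) := LinearMap.ext fun y => hs y (Finset.mem_univ y)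
  rw [this]
  exact s.2

variable {ℓ : Module.Dual F K} (hE : Ext Q ℓ)
include hE

/-- A singular pair spanning a plane, with a dual pair. -/
def Frame (u f a b : ι → F) : Prop :=
  IsHyp hE u f ∧ IsHyp hE a b ∧ InP hE u f a ∧ InP hE u f b

theorem Frame.swap {u f a b : ι → F} (h : Frame hE u f a b) : Frame hE u f b a :=
  ⟨h.1, h.2.1.symm, h.2.2.2, h.2.2.1⟩

theorem Frame.dec [Finite F] {u f a b : ι → F} (h : Frame hE u f a b) (hd : Module.finrank K (ι → F) = 4)
    (v : ι → F) : v = B hE v f • u + B hE v u • f + B hE v b • a + B hE v a • b := by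
  obtain ⟨⟨huu, hff, huf⟩, ⟨haa, hbb, hab⟩, ⟨hau, haf⟩, hbu, hbf⟩ := h
  have h2 := two' hE
  refine sub_eq_zero.1 (eq_zero_of_frame hE (u := u) (f := f) ⟨huu, hff, huf⟩ (a := a + b) (e := a - b)
    ⟨by simp [hau, hbu], by simp [haf, hbf]⟩ ⟨by simp [hau, hbu], by simp [haf, hbf]⟩ ?_ ?_ ?_ hd ?_ ?_ ?_ ?_)
  · simp [haa, hbb, hab, B_comm hE b a]; rw [← two_mul]; simpa using h2
  · simp [haa, hbb, hab, B_comm hE b a]; intro h; exact h2 (by linear_combination -h)
  · simp [haa, hbb, hab, B_comm hE b a]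
  all_goals
    simp [huu, hff, huf, haa, hbb, hab, hau, haf, hbu, hbf, B_comm hE f u, B_comm hE b a, B_comm hE u a,
      B_comm hE u b, B_comm hE f a, B_comm hE f b] <;> ring

/-- The map fixing the plane given by four coefficient maps. -/
def SlotEl (M : Subgroup (GL ι F)) (u a : ι → F) (p₁ p₂ p₃ p₄ : K →ₗ[F] K) : Prop :=
  ∃ A ∈ M, ∀ z, mv A z = z + (p₁ (B hE z u) + p₂ (B hE z a)) • u + (p₃ (B hE z u) + p₄ (B hE z a)) • a

/-- Elements in one slot. -/
def J (M : Subgroup (GL ι F)) (u a : ι → F) (Φ : K →ₗ[F] K) : Prop :=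
  ∃ Φ' : K →ₗ[F] K, SlotEl hE M u a 0 Φ' Φ 0

variable {M : Subgroup (GL ι F)} (hM : Over Q K M)
include hM

theorem SlotEl.mul {u a : ι → F} (hu : B hE u u = 0) (hau : B hE a u = 0) (haa : B hE a a = 0)
    {p₁ p₂ p₃ p₄ q₁ q₂ q₃ q₄ : K →ₗ[F] K} (h : SlotEl hE M u a p₁ p₂ p₃ p₄) (h' : SlotEl hE M u a q₁ q₂ q₃ q₄) :
    SlotEl hE M u a (p₁ + q₁) (p₂ + q₂) (p₃ + q₃) (p₄ + q₄) := by
  obtain ⟨A, hA, hAz⟩ := h
  obtain ⟨A', hA', hAz'⟩ := h'
  refine ⟨A * A', M.mul_mem hA hA', fun z => ?_⟩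
  rw [mv_mul, hAz', hAz]
  simp only [map_add, map_smul, LinearMap.add_apply, LinearMap.smul_apply, smul_eq_mul, hu, hau, haa,
    B_comm hE u a, mul_zero, add_zero]
  module

theorem SlotEl.neg {u a : ι → F} (hu : B hE u u = 0) (hau : B hE a u = 0) (haa : B hE a a = 0)
    {p₁ p₂ p₃ p₄ : K →ₗ[F] K} (h : SlotEl hE M u a p₁ p₂ p₃ p₄) : SlotEl hE M u a (-p₁) (-p₂) (-p₃) (-p₄) := by
  obtain ⟨A, hA, hAz⟩ := h
  refine ⟨A⁻¹, M.inv_mem hA, fun z => mv_inj A ?_⟩
  rw [mv_mv_inv, hAz]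
  simp only [map_add, map_smul, LinearMap.add_apply, LinearMap.smul_apply, LinearMap.neg_apply, smul_eq_mul, hu, hau,
    haa, B_comm hE u a, mul_zero, add_zero]
  module

theorem J.add {u f a b : ι → F} (hfr : Frame hE u f a b) {Φ Ψ : K →ₗ[F] K} (h : J hE M u a Φ)
    (h' : J hE M u a Ψ) : J hE M u a (Φ + Ψ) := by
  obtain ⟨Φ', hΦ⟩ := h
  obtain ⟨Ψ', hΨ⟩ := h'
  exact ⟨Φ' + Ψ', by simpa using hΦ.mul hE hM hfr.1.1 hfr.2.2.1.1 hfr.2.1.1 hΨ⟩

theorem J.neg {u f a b : ι → F} (hfr : Frame hE u f a b) {Φ : K →ₗ[F] K} (h : J hE M u a Φ) : J hE M u a (-Φ) := by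
  obtain ⟨Φ', hΦ⟩ := h
  exact ⟨-Φ', by simpa using hΦ.neg hE hM hfr.1.1 hfr.2.2.1.1 hfr.2.1.1⟩

theorem J.one [Finite F] (hd : 4 ≤ Module.finrank K (ι → F)) {u f a b : ι → F} (hfr : Frame hE u f a b) (c : K) :
    J hE M u a (LinearMap.mulLeft F c) := by
  obtain ⟨h, hh, -, hz⟩ := exists_rho_mem hE hM (by omega) hfr.1.1 (y := c • a) (by simp [B_comm hE u a, hfr.2.2.1.1])
  refine ⟨-LinearMap.mulLeft F c, h, hh, fun z => ?_⟩
  rw [hz]
  simp [hfr.2.1.1]
  module

theorem J.mulRight [Finite F] (hd : 4 ≤ Module.finrank K (ι → F)) {u f a b : ι → F} (hfr : Frame hE u f a b)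
    {Φ : K →ₗ[F] K} (h : J hE M u a Φ) (c : K) : J hE M u a (Φ.comp (LinearMap.mulLeft F c)) := by
  obtain ⟨⟨huu, hff, huf⟩, -, ⟨hau, haf⟩, -⟩ := id hfr
  have h2 := two' hE
  have hsq : ∀ ζ : K, J hE M u a (Φ.comp (LinearMap.mulLeft F (ζ * ζ))) := by
    intro ζ
    rcases eq_or_ne ζ 0 with rfl | hζ
    · refine ⟨0, 1, M.one_mem, fun z => ?_⟩
      simp [mv_one]
    have h1 : B hE (u - f) (u - f) ≠ 0 := by
      simp [huu, hff, huf, B_comm hE f u]
      rw [show (-1 : K) - 1 = -2 by ring]; exact neg_ne_zero.2 h2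
    have h3 : B hE (u - ζ • f) (u - ζ • f) ≠ 0 := by
      simp [huu, hff, huf, B_comm hE f u]
      rw [show -ζ - ζ = -2 * ζ by ring]; exact mul_ne_zero (neg_ne_zero.2 h2) hζ
    obtain ⟨r, hr, hrk, hri, hrz⟩ := exists_refK hE h1
    obtain ⟨s, hs, hsk, hsi, hsz⟩ := exists_refK hE h3
    set τ := r * s * r⁻¹ * s⁻¹ with hτ
    have hτM : τ ∈ M := comm_mem hM hr hs hrk hsk
    have hτk : KLin K τ := ((hrk.mul hsk).mul hrk.inv).mul hsk.inv
    have hsu : mv s u = ζ • f := by
      rw [hsz]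
      simp [huu, hff, huf, B_comm hE f u]
      rw [show -(2 * ζ) / (-ζ - ζ) = (1 : K) by
        rw [show -ζ - ζ = -(2 * ζ) by ring, div_self (neg_ne_zero.2 (mul_ne_zero h2 hζ))]]
      module
    have hrf : mv r f = u := by
      rw [hrz]
      simp [huu, hff, huf, B_comm hE f u]
      rw [show (2 : K) / (-1 - 1) = -1 by rw [show (-1 : K) - 1 = -2 by ring, div_neg, div_self h2]]
      module
    have hτu : mv τ u = (ζ * ζ) • u := by
      rw [hτ, hri, hsi, mv_mul, mv_mul, mv_mul, hsu, hrk, hrf, hsk, hsu, smul_smul, hrk, hrf]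
    have hτa : mv τ a = a := by
      rw [hτ, hri, hsi, mv_mul, mv_mul, mv_mul]
      have e1 : mv s a = a := by rw [hsz]; simp [hau, haf]
      have e2 : mv r a = a := by rw [hrz]; simp [hau, haf]
      rw [e1, e2, e1, e2]
    obtain ⟨Φ', A, hA, hAz⟩ := h
    refine ⟨(LinearMap.mulLeft F (ζ * ζ)).comp Φ', τ * A * τ⁻¹, M.mul_mem (M.mul_mem hτM hA) (M.inv_mem hτM),
      fun z => ?_⟩
    have hiso := M_iso hE hM hτM
    have e1 : B hE (mv τ⁻¹ z) u = ζ * ζ * B hE z u := by
      rw [← B_mv hE hτk hiso, mv_mv_inv, hτu, map_smul, smul_eq_mul]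
    have e2 : B hE (mv τ⁻¹ z) a = B hE z a := by rw [← B_mv hE hτk hiso, mv_mv_inv, hτa]
    rw [mv_mul, mv_mul, hAz, mv_add, mv_add, hτk, hτk, mv_mv_inv, hτu, hτa, e1, e2]
    simp only [LinearMap.zero_apply, LinearMap.comp_apply, LinearMap.mulLeft_apply, zero_add, add_zero, smul_smul]
    rw [mul_comm (Φ' _)]
  have h4 : (4 : K) ≠ 0 := by rw [show (4 : K) = 2 * 2 by norm_num]; exact mul_ne_zero h2 h2
  have := (hsq (c / 4 + 1)).add hE hM hfr ((hsq (c / 4 - 1)).neg hE hM hfr)
  convert this using 1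
  ext t
  simp only [LinearMap.add_apply, LinearMap.neg_apply, LinearMap.comp_apply, LinearMap.mulLeft_apply, ← map_neg,
    ← map_add]
  congr 1
  field_simp
  ring

theorem exists_swapFrame [Finite F] {u f a b : ι → F} (hfr : Frame hE u f a b) :
    ∃ h ∈ M, KLin K h ∧ mv h u = f ∧ mv h f = u ∧ mv h a = b ∧ mv h b = a := by
  obtain ⟨⟨huu, hff, huf⟩, ⟨haa, hbb, hab⟩, ⟨hau, haf⟩, hbu, hbf⟩ := hfr
  have h2 := two' hE
  have hm : (-1 : K) - 1 = -2 := by ring
  have e1 : B hE (u - f) (u - f) = -2 := by simp [huu, hff, huf, B_comm hE f u, hm]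
  have e2 : B hE (a - b) (a - b) = -2 := by simp [haa, hbb, hab, B_comm hE b a, hm]
  obtain ⟨h, hh, hk, -, hz⟩ := exists_double hE hM (a := u - f) (b := a - b) (e1.trans e2.symm)
    (by rw [e1]; exact neg_ne_zero.2 h2) (by simp [B_comm hE u a, B_comm hE u b, B_comm hE f a, B_comm hE f b, hau,
      haf, hbu, hbf])
  refine ⟨h, hh, hk, ?_, ?_, ?_, ?_⟩ <;> rw [hz, e1] <;>
    simp [huu, hff, huf, haa, hbb, hab, hau, haf, hbu, hbf, B_comm hE f u, B_comm hE b a, B_comm hE u a,
      B_comm hE u b, B_comm hE f a, B_comm hE f b, h2]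

theorem J.comp [Finite F] {u f a b : ι → F} (hfr : Frame hE u f a b) {Θ : K →ₗ[F] K}
    (hΘ : SlotEl hE M u a Θ 0 0 0) {Φ : K →ₗ[F] K} (h : J hE M u b Φ) : J hE M u a ((2 : K) • Φ.comp Θ) := by
  obtain ⟨⟨huu, hff, huf⟩, ⟨haa, hbb, hab⟩, ⟨hau, haf⟩, hbu, hbf⟩ := id hfr
  obtain ⟨h₀, hh₀, hk₀, h₀u, h₀f, h₀a, h₀b⟩ := exists_swapFrame hE hM hfr
  have hiso := M_iso hE hM hh₀
  have key : ∀ Φ : K →ₗ[F] K, ∀ Φ' : K →ₗ[F] K, SlotEl hE M u b 0 Φ' Φ 0 → ∃ A ∈ M, ∀ z,
      mv A z = z + Θ (B hE z u - Φ' (B hE z a)) • u + Φ (Θ (B hE z u - Φ' (B hE z a))) • a := by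
    rintro Φ Φ' ⟨A, hA, hAz⟩
    obtain ⟨E, hE', hEz⟩ := hΘ
    set S := h₀ * A * h₀⁻¹ with hS
    have hSM : S ∈ M := M.mul_mem (M.mul_mem hh₀ hA) (M.inv_mem hh₀)
    have hSz : ∀ z, mv S z = z + Φ' (B hE z a) • f + Φ (B hE z f) • a := fun z => by
      have k1 : B hE (mv h₀⁻¹ z) u = B hE z f := by rw [← B_mv hE hk₀ hiso, mv_mv_inv, h₀u]
      have k2 : B hE (mv h₀⁻¹ z) b = B hE z a := by rw [← B_mv hE hk₀ hiso, mv_mv_inv, h₀b]
      rw [hS, mv_mul, mv_mul, hAz, mv_add, mv_add, hk₀, hk₀, mv_mv_inv, h₀u, h₀b, k1, k2]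
      simp
    refine ⟨S * E * S⁻¹, M.mul_mem (M.mul_mem hSM hE') (M.inv_mem hSM), fun z => ?_⟩
    have hSi : mv S⁻¹ z = z - Φ' (B hE z a) • f - Φ (B hE z f) • a := mv_inj S (by
      rw [mv_mv_inv, hSz]
      simp only [map_add, map_sub, map_smul, LinearMap.sub_apply, LinearMap.smul_apply, smul_eq_mul, hff, haa, haf,
        B_comm hE f a, mul_zero, sub_zero]
      module)
    rw [mv_mul, mv_mul, hEz, mv_add, mv_add, mv_mv_inv, hSz, hSz, hSi]
    simp only [map_add, map_sub, map_smul, LinearMap.sub_apply, LinearMap.smul_apply, LinearMap.zero_apply,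
      smul_eq_mul, hau, huf, B_comm hE f u, B_comm hE u a, mul_zero, mul_one, sub_zero, add_zero, zero_add,
      map_zero, zero_smul]
    module
  obtain ⟨Φ', hΦ⟩ := h
  obtain ⟨A, hA, hAz⟩ := key Φ Φ' hΦ
  obtain ⟨A', hA', hAz'⟩ := key (-Φ) (-Φ') (by simpa using hΦ.neg hE hM huu hbu hbb)
  refine ⟨(-2 : K) • Θ.comp Φ', A * A'⁻¹, M.mul_mem hA (M.inv_mem hA'), fun z => ?_⟩
  have hA'i : mv A'⁻¹ z = z - Θ (B hE z u + Φ' (B hE z a)) • u + Φ (Θ (B hE z u + Φ' (B hE z a))) • a :=
    mv_inj A' (by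
      rw [mv_mv_inv, hAz']
      simp only [map_add, map_sub, map_smul, map_neg, LinearMap.add_apply, LinearMap.sub_apply, LinearMap.smul_apply,
        LinearMap.neg_apply, smul_eq_mul, huu, haa, hau, B_comm hE u a, mul_zero, add_zero, sub_zero, sub_neg_eq_add]
      module)
  rw [mv_mul, hA'i, hAz]
  simp only [map_add, map_sub, map_smul, LinearMap.add_apply, LinearMap.sub_apply, LinearMap.smul_apply,
    LinearMap.comp_apply, LinearMap.zero_apply, smul_eq_mul, huu, haa, hau, B_comm hE u a, mul_zero, add_zero,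
    sub_zero, zero_add]
  module

theorem slot_adjoint {u f a b : ι → F} (hfr : Frame hE u f a b) {p₁ p₂ p₃ p₄ : K →ₗ[F] K}
    (h : SlotEl hE M u a p₁ p₂ p₃ p₄) (t s : K) :
    ℓ (p₁ t * s) + ℓ (t * p₁ s) = 0 ∧ ℓ (p₃ t * s) + ℓ (t * p₂ s) = 0 := by
  obtain ⟨⟨huu, hff, huf⟩, ⟨haa, hbb, hab⟩, ⟨hau, haf⟩, hbu, hbf⟩ := hfr
  obtain ⟨A, hA, hAz⟩ := h
  have hiso := M_iso hE hM hA
  constructor
  · have h := pol_mv hE.quad hiso (t • f) (s • f)
    rw [← ell_B_one hE, ← ell_B_one hE, hAz, hAz] at h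
    simp only [map_add, map_smul, LinearMap.add_apply, LinearMap.smul_apply, smul_eq_mul, huu, hff, huf, haa, hau, haf,
      B_comm hE f u, B_comm hE f a, B_comm hE u a, mul_zero, add_zero, zero_add, mul_one, map_zero] at h
    rw [mul_comm t]
    linear_combination h + congrArg ℓ (mul_comm (p₁ t) s)
  · have h := pol_mv hE.quad hiso (t • f) (s • b)
    rw [← ell_B_one hE, ← ell_B_one hE, hAz, hAz] at h
    simp only [map_add, map_smul, LinearMap.add_apply, LinearMap.smul_apply, smul_eq_mul, huu, hff, huf, haa, hau, haf,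
      hbu, hbf, hab, hbb, B_comm hE f u, B_comm hE f a, B_comm hE u a, B_comm hE f b, B_comm hE u b, B_comm hE b a,
      mul_zero, add_zero, zero_add, mul_one, map_zero] at h
    rw [mul_comm t]
    linear_combination h + congrArg ℓ (mul_comm (p₃ t) s)

/-- From one nonzero element in the corner to the whole group. -/
theorem eq_omega_of_corner [Finite F] (hn : 7 ≤ Fintype.card ι) (hr : (Module.finrank F K).Prime)
    (hd : Module.finrank K (ι → F) = 4) {u f a b : ι → F} (hfr : Frame hE u f a b) {Θ : K →ₗ[F] K}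
    (hΘ : SlotEl hE M u a Θ 0 0 0) (hΘ0 : Θ ≠ 0) : M = Geo.omegaGL Q := by
  have h2 := two' hE
  have hfr' := hfr.swap hE
  have hΘb : SlotEl hE M u b Θ 0 0 0 := by
    obtain ⟨A, hA, hAz⟩ := hΘ
    exact ⟨A, hA, fun z => by simpa using hAz z⟩
  have hne : ∀ c : K, Θ ≠ LinearMap.mulLeft F c := by
    intro c hc
    apply hΘ0
    have hc0 : c = 0 := eq_of_ell hE fun s => by
      have h := (slot_adjoint hE hM hfr hΘ 1 s).1
      rw [hc] at h
      simp only [LinearMap.mulLeft_apply, mul_one, one_mul, ← two_mul] at h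
      rw [mul_zero, map_zero, mul_comm]
      exact (mul_eq_zero.1 h).resolve_left hE.two
    rw [hc, hc0]
    ext t
    simp
  let good : (K →ₗ[F] K) → Prop := fun Φ => J hE M u a Φ ∧ J hE M u b Φ
  have hzero : good 0 := by
    constructor <;> exact ⟨0, 1, M.one_mem, fun z => by simp [mv_one]⟩
  have hgadd : ∀ {Φ Ψ}, good Φ → good Ψ → good (Φ + Ψ) := fun h h' =>
    ⟨h.1.add hE hM hfr h'.1, h.2.add hE hM hfr' h'.2⟩
  let S : Subring (Module.End F K) :=
    { carrier := {Y | ∀ Φ, good Φ → good (Φ.comp Y)}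
      one_mem' := fun Φ h => h
      mul_mem' := fun {p q} hp hq Φ h => hq _ (hp Φ h)
      zero_mem' := fun Φ _ => by rw [LinearMap.comp_zero]; exact hzero
      add_mem' := fun {p q} hp hq Φ h => by rw [LinearMap.comp_add]; exact hgadd (hp Φ h) (hq Φ h)
      neg_mem' := fun {p} hp Φ h => by
        rw [LinearMap.comp_neg]; exact ⟨(hp Φ h).1.neg hE hM hfr, (hp Φ h).2.neg hE hM hfr'⟩ }
  have hmul : ∀ c : K, LinearMap.mulLeft F c ∈ S := fun c Φ h =>
    ⟨h.1.mulRight hE hM (by omega) hfr c, h.2.mulRight hE hM (by omega) hfr' c⟩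
  have hTS : Θ ∈ S := by
    intro Φ h
    have hh : good (((2 : F)⁻¹ • Φ : K →ₗ[F] K)) := by
      have := hmul ((2 : K)⁻¹) Φ h
      convert this using 1
      ext t
      rw [LinearMap.comp_apply, LinearMap.mulLeft_apply, LinearMap.smul_apply,
        show (2 : K)⁻¹ * t = (2 : F)⁻¹ • t by rw [Algebra.smul_def, map_inv₀, map_ofNat], map_smul]
    have e : (2 : K) • ((2 : F)⁻¹ • Φ : K →ₗ[F] K).comp Θ = Φ.comp Θ := by
      ext t
      simp only [LinearMap.smul_apply, LinearMap.comp_apply, smul_eq_mul]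
      rw [Algebra.smul_def, map_inv₀, map_ofNat]
      field_simp
    exact ⟨e ▸ J.comp hE hM hfr hΘ hh.2, e ▸ J.comp hE hM hfr' hΘb hh.1⟩
  have hall : ∀ L : Module.End F K, good L := fun L => by
    have h1 : good (LinearMap.mulLeft F (1 : K)) := ⟨J.one hE hM (by omega) hfr 1, J.one hE hM (by omega) hfr' 1⟩
    have := dense hr hne S hmul hTS L _ h1
    rwa [show (LinearMap.mulLeft F (1 : K)).comp L = L by ext t; simp] at this
  obtain ⟨⟨huu, hff, huf⟩, ⟨haa, hbb, hab⟩, ⟨hau, haf⟩, hbu, hbf⟩ := id hfr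
  have hQu : Q u = 0 := q_zero_of hE huu
  have siegel : ∀ a b, Frame hE u f a b → ∀ m : K, J hE M u a (ℓ.smulRight m) →
      ∃ g ∈ M, IsSiegel Q g u (m • a) := by
    intro a b hfr m hJ
    obtain ⟨Φ', hJ'⟩ := hJ
    have hadj := slot_adjoint hE hM hfr hJ'
    obtain ⟨A, hA, hAz⟩ := hJ'
    have hΦ' : ∀ s, Φ' s = -(ℓ (m * s) • (1 : K)) := fun s => eq_of_ell hE fun t => by
      have h := (hadj t s).2
      rw [LinearMap.smulRight_apply, smul_mul_assoc, map_smul, smul_eq_mul] at h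
      rw [mul_neg, map_neg, mul_smul_comm, map_smul, mul_one, smul_eq_mul]
      linear_combination h
    refine ⟨A, hA, fun z => ?_⟩
    have hQa : Q (m • a) = 0 := q_zero_of hE (by simp [hfr.2.1.1])
    rw [hAz, hQa, hΦ', LinearMap.smulRight_apply, ell_B_one, ← ell_B_one hE z (m • a)]
    simp only [map_smul, smul_eq_mul, LinearMap.zero_apply, zero_add, add_zero, zero_mul, neg_smul, smul_assoc,
      one_smul]
    module
  refine eq_omega_of_base hE hM hn (by omega) hfr.1 fun y hy => ⟨0, ?_⟩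
  obtain ⟨g, hg, hgs⟩ := siegel a b hfr (B hE y b) (hall _).1
  obtain ⟨g', hg', hgs'⟩ := siegel b a hfr' (B hE y a) (hall _).2
  refine ⟨g * g', M.mul_mem hg hg', ?_⟩
  have := isSiegel_mul hE.quad hQu (by rw [← ell_B_one hE]; simp [B_comm hE u a, hau])
    (by rw [← ell_B_one hE]; simp [B_comm hE u b, hbu]) hgs hgs'
  convert this using 1
  conv_lhs => rw [hfr.dec hE hd y, hy.1, hy.2]
  module

/-- From an element fixing the plane which is not linear over the field. -/
theorem eq_omega_of_slot [Finite F] (hn : 7 ≤ Fintype.card ι) (hr : (Module.finrank F K).Prime)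
    (hd : Module.finrank K (ι → F) = 4) {u f a b : ι → F} (hfr : Frame hE u f a b) {A : GL ι F} (hA : A ∈ M)
    (hfu : ∀ c : K, mv A (c • u) = c • u) (hfa : ∀ c : K, mv A (c • a) = c • a) (hlin : ¬ KLin K A) :
    M = Geo.omegaGL Q := by
  obtain ⟨⟨huu, hff, huf⟩, ⟨haa, hbb, hab⟩, ⟨hau, haf⟩, hbu, hbf⟩ := id hfr
  have hiso := M_iso hE hM hA
  have hpres : ∀ w : ι → F, (∀ c : K, mv A (c • w) = c • w) → ∀ z, B hE (mv A z - z) w = 0 := fun w hw z =>
    eq_of_ell hE fun c => by
      rw [mul_zero, map_zero, ell_B, hE.sa, pol_sub_left hE.quad, sub_eq_zero]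
      conv_lhs => arg 3; rw [← hw c]
      exact pol_mv hE.quad hiso z _
  let mk : (ι → F) → (ι → F) → K →ₗ[F] K := fun p q =>
    { toFun := fun t => B hE (mv A (t • p) - t • p) q
      map_add' := fun t s => by rw [add_smul, mv_add, add_sub_add_comm, map_add, LinearMap.add_apply]
      map_smul' := fun c t => by
        rw [smul_assoc, mv_smul, ← smul_sub, LinearMap.map_smul_of_tower, LinearMap.smul_apply, RingHom.id_apply] }
  set a₁ := mk f f with h₁
  set a₂ := mk b f with h₂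
  set a₃ := mk f b with h₃
  set a₄ := mk b b with h₄
  have hA' : SlotEl hE M u a a₁ a₂ a₃ a₄ := by
    refine ⟨A, hA, fun z => ?_⟩
    have hn : mv A z - z = mv A (B hE z u • f) - B hE z u • f + (mv A (B hE z a • b) - B hE z a • b) := by
      conv_lhs => rw [hfr.dec hE hd z]
      rw [mv_add, mv_add, mv_add, hfu, hfa]
      abel
    have hdec := hfr.dec hE hd (mv A z - z)
    rw [hpres u hfu z, hpres a hfa z, zero_smul, zero_smul, add_zero, add_zero, hn, map_add, LinearMap.add_apply,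
      LinearMap.add_apply, ← hn] at hdec
    rw [← add_sub_cancel z (mv A z), hdec, ← add_assoc]
    rfl
  -- differences under a unipotent element
  have hδ : ∀ (lam : K) {p₁ p₂ p₃ p₄ : K →ₗ[F] K}, SlotEl hE M u a p₁ p₂ p₃ p₄ →
      SlotEl hE M u a (-(p₂.comp (LinearMap.mulLeft F lam)) - (LinearMap.mulLeft F lam).comp p₃
          + (LinearMap.mulLeft F lam).comp (p₄.comp (LinearMap.mulLeft F lam)))
        (-((LinearMap.mulLeft F lam).comp p₄)) (-(p₄.comp (LinearMap.mulLeft F lam))) 0 := by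
    intro lam p₁ p₂ p₃ p₄ hp
    obtain ⟨h, hh, hk, hz⟩ := exists_rho_mem hE hM (by omega) huu (y := lam • b) (by simp [B_comm hE u b, hbu])
    obtain ⟨P, hP, hPz⟩ := id hp
    have hc : SlotEl hE M u a
        (p₁ - p₂.comp (LinearMap.mulLeft F lam) - (LinearMap.mulLeft F lam).comp p₃
          + (LinearMap.mulLeft F lam).comp (p₄.comp (LinearMap.mulLeft F lam)))
        (p₂ - (LinearMap.mulLeft F lam).comp p₄) (p₃ - p₄.comp (LinearMap.mulLeft F lam)) p₄ := by
      refine ⟨h * P * h⁻¹, M.mul_mem (M.mul_mem hh hP) (M.inv_mem hh), fun z => ?_⟩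
      have hisoh := M_iso hE hM hh
      have hu' : mv h u = u := by rw [hz]; simp [huu, B_comm hE u b, hbu]
      have ha' : mv h a = a - lam • u := by rw [hz]; simp [hau, hab, hbb]
      have k1 : B hE (mv h⁻¹ z) u = B hE z u := by rw [← B_mv hE hk hisoh, mv_mv_inv, hu']
      have k2 : B hE (mv h⁻¹ z) a = B hE z a - lam * B hE z u := by
        rw [← B_mv hE hk hisoh, mv_mv_inv, ha', map_sub, map_smul, smul_eq_mul]
      rw [mv_mul, mv_mul, hPz, mv_add, mv_add, hk, hk, mv_mv_inv, hu', ha', k1, k2]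
      simp only [LinearMap.add_apply, LinearMap.sub_apply, LinearMap.comp_apply, LinearMap.mulLeft_apply, map_sub]
      module
    have := hc.mul hE hM huu hau haa (hp.neg hE hM huu hau haa)
    convert this using 1 <;> abel
  by_cases h4 : a₄ = 0
  · by_cases hall : ∀ lam : K, -(a₂.comp (LinearMap.mulLeft F lam)) - (LinearMap.mulLeft F lam).comp a₃ = 0
    · have h32 : a₃ = -a₂ := by
        have h := hall 1
        rw [show LinearMap.mulLeft F (1 : K) = LinearMap.id from LinearMap.ext fun t => one_mul t,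
          LinearMap.comp_id, LinearMap.id_comp, sub_eq_zero] at h
        exact h.symm
      have hc : ∀ t, a₂ t = a₂ 1 * t := fun t => by
        have h := LinearMap.congr_fun (hall t) 1
        rw [h32] at h
        simp only [LinearMap.sub_apply, LinearMap.neg_apply, LinearMap.comp_apply, LinearMap.mulLeft_apply, mul_one,
          LinearMap.zero_apply, mul_neg, sub_neg_eq_add] at h
        linear_combination -h
      obtain ⟨R, hR, hRk, hRz⟩ := exists_rho_mem hE hM (by omega) huu (y := (-a₂ 1) • a)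
        (by simp [B_comm hE u a, hau])
      have hR' : SlotEl hE M u a 0 a₂ a₃ 0 := ⟨R, hR, fun z => by
        rw [hRz, h32]
        simp only [map_smul, map_neg, LinearMap.smul_apply, LinearMap.neg_apply, LinearMap.zero_apply, smul_eq_mul,
          haa, hc (B hE z a), hc (B hE z u)]
        simp only [neg_smul, mul_zero, smul_zero, neg_zero, zero_div, zero_mul, add_zero, zero_add]
        module⟩
      have hcorner : SlotEl hE M u a a₁ 0 0 0 := by
        simpa [h4] using hA'.mul hE hM huu hau haa (hR'.neg hE hM huu hau haa)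
      refine eq_omega_of_corner hE hM hn hr hd hfr hcorner fun h0 => hlin ?_
      obtain ⟨A₂, hA₂, hA₂z⟩ := hA'
      obtain ⟨R', hR'', hRz'⟩ := hR'
      intro c x
      have hAz : ∀ z, mv A z = z + (a₁ (B hE z u) + a₂ (B hE z a)) • u + (a₃ (B hE z u) + a₄ (B hE z a)) • a := by
        intro z
        have hn : mv A z - z = mv A (B hE z u • f) - B hE z u • f + (mv A (B hE z a • b) - B hE z a • b) := by
          conv_lhs => rw [hfr.dec hE hd z]
          rw [mv_add, mv_add, mv_add, hfu, hfa]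
          abel
        have hdec := hfr.dec hE hd (mv A z - z)
        rw [hpres u hfu z, hpres a hfa z, zero_smul, zero_smul, add_zero, add_zero, hn, map_add, LinearMap.add_apply,
          LinearMap.add_apply, ← hn] at hdec
        rw [← add_sub_cancel z (mv A z), hdec, ← add_assoc]
        rfl
      rw [hAz, hAz, h0, h4, h32]
      simp only [map_smul, LinearMap.smul_apply, LinearMap.zero_apply, LinearMap.neg_apply, smul_eq_mul,
        hc (c * _), hc (B hE x a), hc (B hE x u)]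
      module
    push Not at hall
    obtain ⟨lam, hlam⟩ := hall
    have := hδ lam hA'
    rw [h4] at this
    simp only [LinearMap.zero_comp, LinearMap.comp_zero, neg_zero, add_zero] at this
    exact eq_omega_of_corner hE hM hn hr hd hfr this hlam
  have hone : LinearMap.mulLeft F (1 : K) = LinearMap.id := LinearMap.ext fun t => one_mul t
  have h' := hδ 1 (hδ 1 hA')
  simp only [hone, LinearMap.comp_id, LinearMap.id_comp, LinearMap.zero_comp, LinearMap.comp_zero, neg_neg,
    neg_zero, sub_neg_eq_add, add_zero] at h'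
  exact eq_omega_of_corner hE hM hn hr hd hfr h' fun h0 => h4 (LinearMap.ext fun t => by
    have := LinearMap.congr_fun h0 t
    rw [LinearMap.add_apply, LinearMap.zero_apply, ← two_mul] at this
    exact (mul_eq_zero.1 this).resolve_left (two' hE))

end Cfsg.Agent.OrthFieldExt
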