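/-
A maximal pair which is not tight gives an element fixing a totally singular plane over the field.
-/
import Cfsg.Agent.Lib.OrthFieldExt.Rank
import Cfsg.Agent.Lib.OrthFieldExt.Slot

set_option autoImplicit false
set_option linter.all false
set_option maxHeartbeats 1000000

namespace Cfsg.Agent.OrthFieldExt

open scoped Matrix
open Matrix Cfsg.Agent.Transvec Cfsg.Agent.Transvec.Orth

variable {ι : Type} [Fintype ι] [DecidableEq ι] {F : Type*} [Field F] {Q : (ι → F) → F}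
variable {K : Type*} [Field K] [Algebra F K] [Module K (ι → F)] [IsScalarTower F K (ι → F)] [FiniteDimensional F K]
variable {ℓ : Module.Dual F K} (hE : Ext Q ℓ) {M : Subgroup (GL ι F)} (hM : Over Q K M)
include hE hM

/-- Projections of moved vectors lie in a singular line. -/
theorem exists_line [Finite F] (hr : (Module.finrank F K).Prime) (hr5 : 3 ≤ Module.finrank F K ∨ Aniso hE)
    (hd : Module.finrank K (ι → F) = 4) {g : GL ι F} {u f a b z₁ z₂ : ι → F} (hfr : Frame hE u f a b)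
    (hmax : IsMax hE M g u) (hz₁ : z₁ ∈ img K g u) (hz₁u : B hE z₁ u ≠ 0) (hz₂ : z₂ ∈ img K g u)
    (hz₂u : B hE z₂ u = 0) (hz₂l : z₂ ∉ line K u) (hza : ∀ z ∈ img K g u, B hE z a = 0) :
    (∀ t : K, B hE (mv g⁻¹ (t • a)) u = 0) ∧
      ∃ a', InP hE u f a' ∧ a' ≠ 0 ∧ B hE a' a' = 0 ∧ ∀ t : K, B hE (mv g⁻¹ (t • a)) a' = 0 := by
  obtain ⟨hh, hab, haP, hbP⟩ := id hfr
  have h2 := two' hE
  set S := img K g u ⊓ LinearMap.ker (((B hE).flip u).restrictScalars F) with hS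
  have hlt : line K u ⊓ img K g u < S := by
    refine lt_of_le_of_ne (fun z hz => ⟨hz.2, ?_⟩) fun he => ?_
    · obtain ⟨c, hc⟩ := mem_line.1 hz.1
      simp [← hc, hh.1]
    · exact hz₂l (he ▸ (⟨hz₂, by simpa using hz₂u⟩ : z₂ ∈ S) : z₂ ∈ line K u ⊓ img K g u).1
  have hSpos := Submodule.finrank_lt_finrank_of_lt hlt
  have hgiso := M_iso hE hM (M.inv_mem hmax.mem)
  have key : ∀ t : K, B hE (mv g⁻¹ (t • a)) u = 0 ∧
      B hE (mv g⁻¹ (t • a) - B hE (mv g⁻¹ (t • a)) f • u) (mv g⁻¹ (t • a) - B hE (mv g⁻¹ (t • a)) f • u) = 0 := by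
    intro t
    obtain ⟨h, hhM, hk, hz⟩ := exists_rho_mem hE hM (by omega) hh.1 (y := (t / B hE z₁ u) • a)
      (by simp [B_comm hE u a, haP.1])
    have hmove : ∀ z ∈ img K g u, mv h z = z + (t / B hE z₁ u * B hE z u) • a := fun z hzi => by
      rw [hz]
      simp [hab.1, hza z hzi, smul_smul, mul_comm]
    have hfixS : ∀ s ∈ S, mv h s = s := fun s hs => by
      rw [hmove s hs.1, show B hE s u = 0 from hs.2, mul_zero, zero_smul, add_zero]
    have horth : ∀ x ∈ img K g u, ∀ y ∈ img K g u, pol Q (mv h x) y = 0 := fun x hx y hy => by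
      rw [hmove x hx, pol_add_left hE.quad, img_pol hE hM hmax.mem hh.1 hx hy, zero_add, ← ell_B_one hE]
      simp [B_comm hE a y, hza y hy]
    set k := g⁻¹ * h * g with hk'
    have hkM : k ∈ M := M.mul_mem (M.mul_mem (M.inv_mem hmax.mem) hhM) hmax.mem
    have hSk : S.map (mvLin g⁻¹) ≤ line K u ⊓ img K k u := by
      rintro _ ⟨s, hs, rfl⟩
      obtain ⟨c, rfl⟩ := mem_img.1 hs.1
      have e : mvLin g⁻¹ (mv g (c • u)) = c • u := (Matrix.toLin'_apply _ _).trans (mv_inv_mv g _)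
      rw [e]
      exact ⟨mem_line.2 ⟨c, rfl⟩, mem_img.2 ⟨c, by rw [hk', mv_mul, mv_mul, hfixS _ hs, mv_inv_mv]⟩⟩
    have hSk' := Submodule.finrank_mono hSk
    rw [finrank_map_mv] at hSk'
    have hku : ∀ x ∈ img K k u, B hE x u = 0 := by
      intro x hx
      obtain ⟨c, rfl⟩ := mem_img.1 hx
      refine eq_of_ell hE fun d => ?_
      rw [mul_zero, map_zero, ell_B, hE.sa, hk', mv_mul, mv_mul,
        show (d • u : ι → F) = mv g⁻¹ (mv g (d • u)) from (mv_inv_mv g _).symm, pol_mv hE.quad hgiso]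
      exact horth _ (mem_img.2 ⟨c, rfl⟩) _ (mem_img.2 ⟨d, rfl⟩)
    have hsing : ∀ x ∈ img K k u, B hE (x - B hE x f • u) (x - B hE x f • u) = 0 := by
      intro x hx
      have hp := proj_hyp hE hh x
      rw [hku x hx, zero_smul, sub_zero] at hp
      refine rot_orth hE hM hr hr5 hd hh hp hp fun e he hek heu hef => ?_
      have hpol : pol Q (mv e x) x = 0 := by
        by_contra hne
        have hfix : ∀ s ∈ line K u ⊓ img K k u, mv e s = s := fun s hs => by
          obtain ⟨c, hc⟩ := mem_line.1 hs.1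
          rw [← hc, hek, heu]
        obtain ⟨h1, h3, h4⟩ := cand hE hM hkM he inf_le_right hfix ⟨x, hx, x, hx, hne⟩
        have h5 := Submodule.finrank_mono h3
        rw [finrank_map_mv] at h5
        have h6 := hmax.max _ h1 (by unfold meet at *; omega) h4
        unfold meet at *
        omega
      have hiso := M_iso hE hM he
      set p := x - B hE x f • u with hpdef
      have e1 : mv e p - p = mv e x - x := by rw [hpdef, mv_sub, hek, heu]; abel
      have e2 : B hE (mv e p - p) u = 0 := by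
        rw [map_sub, LinearMap.sub_apply, hp.1, sub_zero]
        conv_lhs => rw [← heu]
        rw [B_mv hE hek hiso, hp.1]
      have e3 : pol Q (mv e p - p) p = 0 := by
        rw [← ell_B_one hE]
        rw [show B hE (mv e p - p) p = B hE (mv e p - p) x by
          conv_lhs => arg 2; rw [hpdef]
          rw [(B hE (mv e p - p)).map_sub, (B hE (mv e p - p)).map_smul, e2, smul_zero, sub_zero]]
        rw [ell_B_one hE, e1, pol_sub_left hE.quad, hpol, img_pol hE hM hkM hh.1 hx hx, sub_zero]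
      rw [e3, add_zero]
    obtain ⟨c, hc⟩ := mem_img.1 hz₁
    have hxmem : mv g⁻¹ (mv h z₁) ∈ img K k u := mem_img.2 ⟨c, by rw [hk', mv_mul, mv_mul, hc]⟩
    have h1 := hku _ hxmem
    have h3 := hsing _ hxmem
    have hgc : mv g⁻¹ z₁ = c • u := by rw [← hc, mv_inv_mv]
    rw [hmove z₁ hz₁, mv_add, hgc, div_mul_cancel₀ t hz₁u] at h1 h3
    have h1' : B hE (mv g⁻¹ (t • a)) u = 0 := by simpa [hh.1] using h1
    refine ⟨h1', ?_⟩
    rwa [show c • u + mv g⁻¹ (t • a) - B hE (c • u + mv g⁻¹ (t • a)) f • u =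
      mv g⁻¹ (t • a) - B hE (mv g⁻¹ (t • a)) f • u by simp [hh.2.2, add_smul]] at h3
  refine ⟨fun t => (key t).1, ?_⟩
  have hproj : ∀ t : K, InP hE u f (mv g⁻¹ (t • a) - B hE (mv g⁻¹ (t • a)) f • u) := fun t => by
    have := proj_hyp hE hh (mv g⁻¹ (t • a))
    rwa [(key t).1, zero_smul, sub_zero] at this
  have hpair : ∀ s t : K, B hE (mv g⁻¹ (s • a) - B hE (mv g⁻¹ (s • a)) f • u)
      (mv g⁻¹ (t • a) - B hE (mv g⁻¹ (t • a)) f • u) = 0 := by
    intro s t
    have h1 := (key (s + t)).2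
    have h3 := (key s).2
    have h4 := (key t).2
    set p := mv g⁻¹ (s • a) - B hE (mv g⁻¹ (s • a)) f • u with hp
    set q := mv g⁻¹ (t • a) - B hE (mv g⁻¹ (t • a)) f • u with hq
    rw [show mv g⁻¹ ((s + t) • a) - B hE (mv g⁻¹ ((s + t) • a)) f • u = p + q by
      rw [hp, hq, add_smul, mv_add, map_add, LinearMap.add_apply, add_smul]; abel] at h1
    simp only [map_add, LinearMap.add_apply, h3, h4, zero_add, add_zero, B_comm hE q p, ← two_mul] at h1
    exact (mul_eq_zero.1 h1).resolve_left h2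
  have huv : ∀ v, InP hE u f v → ∀ x, B hE x v = B hE (x - B hE x f • u) v := fun v hv x => by
    simp [B_comm hE u v, hv.1]
  by_cases h0 : ∀ t : K, mv g⁻¹ (t • a) - B hE (mv g⁻¹ (t • a)) f • u = 0
  · refine ⟨a, haP, fun ha => ?_, hab.1, fun t => by rw [huv a haP, h0]; simp⟩
    have := hab.2.2
    rw [ha, map_zero, LinearMap.zero_apply] at this
    exact zero_ne_one this
  push Not at h0
  obtain ⟨s, hs⟩ := h0
  exact ⟨_, hproj s, hs, hpair s s, fun t => by rw [huv _ (hproj s)]; exact hpair t s⟩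

/-- A maximal pair which is not tight gives the whole group. -/
theorem eq_omega_of_not_tight [Finite F] (hn : 7 ≤ Fintype.card ι) (hr : (Module.finrank F K).Prime)
    (hd : 4 ≤ Module.finrank K (ι → F)) (hd4 : Module.finrank K (ι → F) = 4 → 3 ≤ Module.finrank F K ∨ Aniso hE)
    {g : GL ι F} {u : ι → F} (hu : B hE u u = 0) (hmax : IsMax hE M g u) (hT : ¬ Tight hE g u) :
    M = Geo.omegaGL Q := by
  haveI : Module.Finite K (ι → F) := Module.Finite.of_restrictScalars_finite F K _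
  have hd' : Module.finrank K (ι → F) = 4 := by
    by_contra h
    exact hT (tight_of_large hE hM hr (by omega) hu hmax)
  have hr5 := hd4 hd'
  obtain ⟨z₁, hz₁, hz₁u⟩ := hmax.nonorth
  obtain ⟨f, hh, hPz, hf⟩ := exists_plane hE hM hu hz₁u
  have horth := proj_orth hE hM hr hd hd4 hh hmax hz₁ hz₁u hf
  unfold Tight at hT
  push Not at hT
  obtain ⟨z₂, hz₂, hz₂u, hz₂l⟩ := hT
  set a := z₂ - B hE z₂ f • u - B hE z₂ u • f with ha
  have haP : InP hE u f a := proj_hyp hE hh z₂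
  have ha0 : a ≠ 0 := fun h0 => hz₂l (mem_line.2 ⟨B hE z₂ f, by
    rw [ha, hz₂u, zero_smul, sub_zero, sub_eq_zero] at h0
    exact h0.symm⟩)
  obtain ⟨b, hb, hab⟩ := exists_partner_in hE
    ((hasProj_top hE).inf_hyp hE Submodule.mem_top Submodule.mem_top hh) (u := a) ⟨⟨trivial, haP.1⟩, haP.2⟩ ha0
    (horth z₂ hz₂ z₂ hz₂).1
  have hfr : Frame hE u f a b := ⟨hh, hab, haP, hb.1.2, hb.2⟩
  have hza : ∀ z ∈ img K g u, B hE z a = 0 := fun z hz => by
    have := (horth z hz z₂ hz₂).1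
    rw [← ha] at this
    simpa [B_comm hE u a, B_comm hE f a, haP.1, haP.2] using this
  obtain ⟨hau', a', ha'P, ha'0, ha'a', ha'orth⟩ :=
    exists_line hE hM hr hr5 hd' hfr hmax hz₁ hz₁u hz₂ hz₂u hz₂l hza
  obtain ⟨b', hb', hab'⟩ := exists_partner_in hE
    ((hasProj_top hE).inf_hyp hE Submodule.mem_top Submodule.mem_top hh) (u := a') ⟨⟨trivial, ha'P.1⟩, ha'P.2⟩ ha'0 ha'a'
  have hfr' : Frame hE u f a' b' := ⟨hh, hab', ha'P, hb'.1.2, hb'.2⟩
  -- the image of the second plane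
  set U' := LinearMap.ker (((B hE).flip u).restrictScalars F) ⊓ LinearMap.ker (((B hE).flip a').restrictScalars F)
    with hU'
  set T := U'.map (mvLin g) with hT'
  have hmemT : ∀ v, v ∈ T ↔ B hE (mv g⁻¹ v) u = 0 ∧ B hE (mv g⁻¹ v) a' = 0 := by
    intro v
    constructor
    · rintro ⟨x, ⟨hx1, hx2⟩, rfl⟩
      rw [show mvLin g x = mv g x from Matrix.toLin'_apply _ _, mv_inv_mv]
      exact ⟨hx1, hx2⟩
    · rintro ⟨h1, h3⟩
      exact ⟨mv g⁻¹ v, ⟨h1, h3⟩, (Matrix.toLin'_apply _ _).trans (mv_mv_inv g v)⟩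
  have himgT : ∀ z ∈ img K g u, z ∈ T := fun z hz => by
    obtain ⟨c, rfl⟩ := mem_img.1 hz
    rw [hmemT, mv_inv_mv]
    simp [hu, B_comm hE u a', ha'P.1]
  have haT : ∀ t : K, t • a ∈ T := fun t => (hmemT _).2 ⟨hau' t, ha'orth t⟩
  have hTa : ∀ v ∈ T, B hE v a = 0 := fun v hv => eq_of_ell hE fun c => by
    obtain ⟨h1, h3⟩ := (hmemT v).1 hv
    obtain ⟨h5, h6⟩ := (hmemT _).1 (haT c)
    rw [mul_zero, map_zero, ell_B, hE.sa, ← pol_mv hE.quad (M_iso hE hM (M.inv_mem hmax.mem)), ← ell_B_one hE,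
      hfr'.dec hE hd' (mv g⁻¹ v), hfr'.dec hE hd' (mv g⁻¹ (c • a)), h1, h3, h5, h6]
    simp [hu, hab'.1, B_comm hE u a', ha'P.1]
  -- elements fixing the image
  let Sl : GL ι F → Prop := fun A => A ∈ M ∧ (∀ v ∈ T, mv A v = v) ∧ ∀ z, mv A z - z ∈ T
  obtain ⟨R, hR, hR1⟩ : ∃ R, Sl R ∧ R ≠ 1 := by
    obtain ⟨h, hhM, hk, hz⟩ := exists_rho_mem hE hM (by omega) hu (y := a') (by rw [B_comm]; exact ha'P.1)
    refine ⟨g * h * g⁻¹, ⟨M.mul_mem (M.mul_mem hmax.mem hhM) (M.inv_mem hmax.mem), fun v hv => ?_, fun z => ?_⟩,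
      fun h1 => ?_⟩
    · obtain ⟨h1, h3⟩ := (hmemT v).1 hv
      rw [mv_mul, mv_mul, hz, h1, h3]
      simp [mv_mv_inv]
    · have hx : mv h (mv g⁻¹ z) - mv g⁻¹ z ∈ U' := by
        rw [hz]
        constructor <;> simp [hu, ha'a', ha'P.1, B_comm hE u a']
      refine (hmemT _).2 ?_
      rw [mv_sub, mv_mul, mv_mul, mv_inv_mv]
      exact hx
    · have h' : h = 1 := by
        have := congrArg (fun x => g⁻¹ * x * g) h1
        simpa [mul_assoc] using this
      have := hz f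
      rw [h', mv_one, B_comm hE f u, hh.2.2, B_comm hE f a', ha'P.2, ha'a'] at this
      exact ha'0 (by simpa using this)
  have hstep : ∀ (ν : K) (h : GL ι F), h ∈ M → KLin K h → IsRho hE h u (ν • a) → ∀ A, Sl A →
      Sl (h * A * h⁻¹ * A⁻¹) ∧ ∀ z, mv (h * A * h⁻¹ * A⁻¹) z - z =
        (mv h (mv A z - z) - (mv A z - z)) - (mv A (mv h z - z) - (mv h z - z))
          - (mv h (mv A (mv h z - z) - (mv h z - z)) - (mv A (mv h z - z) - (mv h z - z))) := by
    intro ν h hhM hk hz A hA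
    obtain ⟨hAM, hAf, hAi⟩ := hA
    have hXT : ∀ v ∈ T, mv h v - v ∈ T := fun v hv => by
      rw [hz]
      simp only [map_smul, LinearMap.smul_apply, smul_eq_mul, hTa v hv, hab.1, mul_zero, zero_div, zero_mul,
        add_zero, zero_smul, sub_zero, add_sub_cancel_left, smul_smul]
      exact haT _
    have hpresT : ∀ v ∈ T, mv h v ∈ T := fun v hv => by
      have := T.add_mem hv (hXT v hv)
      rwa [add_sub_cancel] at this
    have hXX : ∀ w, mv h (mv h w - w) = mv h w - w := fun w => by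
      set v := mv h w - w with hv
      have : v = B hE w u • (ν • a) - (B hE w (ν • a)) • u := by
        rw [hv, hz]; simp [hab.1]; module
      rw [this, mv_sub, hk, hk, hk, hz a, hz u]
      simp [hu, hab.1, haP.1, B_comm hE u a]
    have hAinv : ∀ z, mv A⁻¹ z = z - (mv A z - z) := fun z => mv_inj A (by
      rw [mv_mv_inv, mv_sub, hAf _ (hAi z)]; abel)
    have hhinv : ∀ z, mv h⁻¹ z = z - (mv h z - z) := fun z => mv_inj h (by
      rw [mv_mv_inv, mv_sub, hXX]; abel)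
    have formula : ∀ z, mv (h * A * h⁻¹ * A⁻¹) z - z =
        (mv h (mv A z - z) - (mv A z - z)) - (mv A (mv h z - z) - (mv h z - z))
          - (mv h (mv A (mv h z - z) - (mv h z - z)) - (mv A (mv h z - z) - (mv h z - z))) := by
      intro z
      obtain ⟨n, hn⟩ : ∃ n, mv A z - z = n := ⟨_, rfl⟩
      obtain ⟨x, hx⟩ : ∃ x, mv h z - z = x := ⟨_, rfl⟩
      rw [hn, hx]
      obtain ⟨y, hy⟩ : ∃ y, mv A x - x = y := ⟨_, rfl⟩
      obtain ⟨N, hN⟩ : ∃ N, mv h n - n = N := ⟨_, rfl⟩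
      obtain ⟨Y, hY⟩ : ∃ Y, mv h y - y = Y := ⟨_, rfl⟩
      rw [hy, hN, hY]
      have hnT : n ∈ T := hn ▸ hAi z
      have hNT : N ∈ T := hN ▸ hXT n hnT
      have e1 : mv A⁻¹ z = z - n := by rw [hAinv, hn]
      have e2 : mv h⁻¹ (z - n) = z - n - (x - N) := by
        rw [hhinv, mv_sub, show mv h z - mv h n - (z - n) = (mv h z - z) - (mv h n - n) by abel, hx, hN]
      have e3 : mv A (z - n - (x - N)) = z - (x + y) + N := by
        rw [mv_sub, mv_sub A z, mv_sub A x, hAf n hnT, hAf N hNT, eq_add_of_sub_eq hn, eq_add_of_sub_eq hy]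
        abel
      have e4 : mv h (z - (x + y) + N) = z - y - Y + N := by
        have hx' : mv h x = x := by rw [← hx]; exact hXX z
        have hN' : mv h N = N := by rw [← hN]; exact hXX n
        rw [mv_add, mv_sub, mv_add, hx', hN', eq_add_of_sub_eq hx, eq_add_of_sub_eq hY]
        abel
      rw [mv_mul, mv_mul, mv_mul, e1, e2, e3, e4]
      abel
    refine ⟨⟨M.mul_mem (M.mul_mem (M.mul_mem hhM hAM) (M.inv_mem hhM)) (M.inv_mem hAM), fun v hv => ?_,
      fun z => ?_⟩, formula⟩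
    · rw [← sub_eq_zero, formula v, hAf v hv, hAf _ (hXT v hv)]
      simp [mv_zero]
    · rw [formula z]
      exact T.sub_mem (T.sub_mem (hXT _ (hAi z)) (hAi _)) (hXT _ (hAi _))
  obtain ⟨A, hA, hA1, hAc⟩ : ∃ A, Sl A ∧ A ≠ 1 ∧ ∀ (ν : K) (h : GL ι F), h ∈ M → KLin K h →
      IsRho hE h u (ν • a) → ∀ z, mv A (mv h z - z) = mv h (mv A z) - mv A z := by
    have conv' : ∀ (A h : GL ι F), h * A * h⁻¹ * A⁻¹ = 1 → ∀ z, mv A (mv h z - z) = mv h (mv A z) - mv A z := by
      intro A h he z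
      have : h * A = A * h := by
        rw [mul_inv_eq_one, mul_inv_eq_iff_eq_mul] at he
        exact he
      rw [mv_sub, ← mv_mul, ← mv_mul, this]
    by_contra hcon
    have next' : ∀ A, Sl A → A ≠ 1 → ∃ (ν : K) (h : GL ι F), h ∈ M ∧ KLin K h ∧ IsRho hE h u (ν • a) ∧
        h * A * h⁻¹ * A⁻¹ ≠ 1 := fun A hA hA1 => by
      by_contra h'
      push Not at h'
      exact hcon ⟨A, hA, hA1, fun ν h a1 a2 a3 => conv' A h (h' ν h a1 a2 a3)⟩
    obtain ⟨ν₁, h₁, hM₁, hk₁, hz₁', hne₁⟩ := next' R hR hR1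
    obtain ⟨hS₁, hF₁⟩ := hstep ν₁ h₁ hM₁ hk₁ hz₁' R hR
    obtain ⟨ν₂, h₂, hM₂, hk₂, hz₂', hne₂⟩ := next' _ hS₁ hne₁
    obtain ⟨hS₂, hF₂⟩ := hstep ν₂ h₂ hM₂ hk₂ hz₂' _ hS₁
    obtain ⟨ν₃, h₃, hM₃, hk₃, hz₃', hne₃⟩ := next' _ hS₂ hne₂
    obtain ⟨hS₃, hF₃⟩ := hstep ν₃ h₃ hM₃ hk₃ hz₃' _ hS₂
    refine hne₃ (ext_mv fun z => ?_)
    rw [mv_one, ← sub_eq_zero, hF₃]
    set A₂ := h₂ * (h₁ * R * h₁⁻¹ * R⁻¹) * h₂⁻¹ * (h₁ * R * h₁⁻¹ * R⁻¹)⁻¹
    set A₁ := h₁ * R * h₁⁻¹ * R⁻¹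
    let X : GL ι F → (ι → F) →ₗ[F] ι → F := fun h => mvLin h - LinearMap.id
    have hX : ∀ h z, mv h z - z = X h z := fun h z => by simp [X]
    simp only [hX] at hF₁ hF₂ ⊢
    have hzero : ∀ (ν ν' : K) (h h' : GL ι F), KLin K h → IsRho hE h u (ν • a) → IsRho hE h' u (ν' • a) →
        ∀ w, X h (X h' w) = 0 := fun ν ν' h h' hk hz hz' w => by
      rw [← hX, ← hX, show mv h' w - w = (B hE w u * ν') • a - (ν' * B hE w a) • u by
        rw [hz']; simp [hab.1, smul_smul]; module, mv_sub, hk, hk, hz a, hz u]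
      simp [hu, hab.1, haP.1, B_comm hE u a]
    simp only [hF₂, hF₁, map_sub, hzero _ _ _ _ hk₃ hz₃' hz₂', hzero _ _ _ _ hk₃ hz₃' hz₁',
      hzero _ _ _ _ hk₂ hz₂' hz₁', hzero _ _ _ _ hk₂ hz₂' hz₃', hzero _ _ _ _ hk₁ hz₁' hz₂',
      hzero _ _ _ _ hk₁ hz₁' hz₃', map_zero, sub_zero, zero_sub, neg_zero, sub_self, map_neg]
  obtain ⟨hAM, hAf, hAi⟩ := hA
  have hiso := M_iso hE hM hAM
  have hfa : ∀ c : K, mv A (c • a) = c • a := fun c => hAf _ (haT c)
  have hfu : ∀ c : K, mv A (c • u) = c • u := by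
    have hBa : B hE (mv A b) a = 1 := eq_of_ell hE fun c => by
      rw [ell_B, hE.sa]
      conv_lhs => arg 3; rw [← hfa c]
      rw [pol_mv hE.quad hiso, ← hE.sa, ← ell_B hE, B_comm hE b a, hab.2.2]
    have hform : ∀ ν : K, mv A (ν • u) = ν • u - (ν * B hE (mv A b) u) • a := fun ν => by
      obtain ⟨h, hhM, hk, hz⟩ := exists_rho_mem hE hM (by omega) hu (y := ν • a) (by simp [B_comm hE u a, haP.1])
      have h1 := hAc ν h hhM hk hz b
      have e1 : mv h b - b = -(ν • u) := by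
        rw [hz]; simp [hb.1.2, B_comm hE b a, hab.2.2, hab.1, show B hE b u = 0 from hb.1.2]
      have e2 : mv h (mv A b) - mv A b = (ν * B hE (mv A b) u) • a - ν • u := by
        rw [hz]
        simp [hab.1, hBa]
        module
      rw [e1, e2, mv_neg] at h1
      linear_combination (norm := module) -h1
    obtain ⟨w, hw, hw0⟩ : ∃ w ∈ line K u ⊓ img K g u, w ≠ 0 := Submodule.exists_mem_ne_zero_of_ne_bot fun h => by
      have := hmax.pos
      unfold meet at this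
      rw [h, finrank_bot] at this
      omega
    obtain ⟨c₀, rfl⟩ := mem_line.1 hw.1
    have h1 := hform c₀
    rw [hAf _ (himgT _ hw.2), eq_comm, sub_eq_self, smul_eq_zero, mul_eq_zero] at h1
    have hc : B hE (mv A b) u = 0 := (h1.resolve_right ha0).resolve_left fun h => hw0 (by rw [h, zero_smul])
    intro c
    rw [hform c, hc, mul_zero, zero_smul, sub_zero]
  refine eq_omega_of_slot hE hM hn hr hd' hfr hAM hfu hfa fun hlin => hA1 ?_
  have hu1 : mv A u = u := by simpa using hfu 1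
  have ha1 : mv A a = a := by simpa using hfa 1
  have hf1 : mv A f = f := by
    have e := hAf _ (himgT _ hz₁)
    rw [hfr.dec hE hd' z₁, hza z₁ hz₁, zero_smul, add_zero, mv_add, mv_add, hlin, hlin, hlin, hu1, ha1,
      add_left_inj, add_right_inj] at e
    exact smul_right_injective (ι → F) hz₁u e
  have hBK : ∀ x y, B hE (mv A x) (mv A y) = B hE x y := B_mv hE hlin hiso
  have hb1 : mv A b = b := by
    obtain ⟨⟨haa, hbb, habb⟩, hbu, hbf⟩ := And.intro hab (And.intro (show B hE b u = 0 from hb.1.2) (show B hE b f = 0 from hb.2))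
    have e1 : B hE (mv A b) u = 0 := by rw [← hu1, hBK, hbu]
    have e2 : B hE (mv A b) f = 0 := by rw [← hf1, hBK, hbf]
    have e3 : B hE (mv A b) a = 1 := by rw [← ha1, hBK, B_comm, habb]
    have hd'' := hfr.dec hE hd' (mv A b)
    rw [e1, e2, e3, zero_smul, zero_smul, zero_add, zero_add, one_smul] at hd''
    have e4 := hBK b b
    rw [hd''] at e4
    simp only [map_add, map_smul, LinearMap.add_apply, LinearMap.smul_apply, smul_eq_mul, haa, hbb, habb,
      B_comm hE b a, mul_zero, mul_one, zero_add, add_zero, ← two_mul] at e4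
    rw [hd'', (mul_eq_zero.1 e4).resolve_left (two' hE), zero_smul, zero_add]
  refine ext_mv fun z => ?_
  rw [mv_one, hfr.dec hE hd' z, mv_add, mv_add, mv_add, hlin, hlin, hlin, hlin, hu1, hf1, ha1, hb1]

end Cfsg.Agent.OrthFieldExt
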