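/-
A Siegel element from two lines meeting in a hyperplane.
-/
import Cfsg.Agent.Lib.OrthFieldExt.Rank
import Cfsg.Agent.Lib.OrthFieldExt.Base

set_option autoImplicit false
set_option linter.all false
set_option maxHeartbeats 1000000

namespace Cfsg.Agent.OrthFieldExt

open scoped Matrix
open Matrix Cfsg.Agent.Transvec Cfsg.Agent.Transvec.Orth

variable {ι : Type} [Fintype ι] [DecidableEq ι] {F : Type*} [Field F] {Q : (ι → F) → F}
variable {K : Type*} [Field K] [Algebra F K] [Module K (ι → F)] [IsScalarTower F K (ι → F)] [FiniteDimensional F K]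

/-- The Siegel map. -/
def sg (hQ : Geo.IsNondegenerateQuadraticForm Q) (e y : ι → F) : (ι → F) →ₗ[F] ι → F :=
  LinearMap.id + (formQ hQ e).smulRight y - (formQ hQ y + Q y • formQ hQ e).smulRight e

theorem sg_apply (hQ : Geo.IsNondegenerateQuadraticForm Q) (e y z : ι → F) :
    sg hQ e y z = z + pol Q z e • y - (pol Q z y + Q y * pol Q z e) • e := by
  simp [sg, formQ_apply]

/-- Orthogonal to a subspace. -/
def Perp (Q : (ι → F) → F) (W : Submodule F (ι → F)) (z : ι → F) : Prop := ∀ w ∈ W, pol Q z w = 0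

/-- An isometry fixing a subspace pointwise acting on its perpendicular, modulo it, as the given map. -/
def Act (Q : (ι → F) → F) (W : Submodule F (ι → F)) (h : GL ι F) (S : (ι → F) → ι → F) : Prop :=
  (∀ w ∈ W, mv h w = w) ∧ ∀ z, Perp Q W z → mv h z - S z ∈ W

theorem Act.mul {W : Submodule F (ι → F)} {g h : GL ι F} {S T : (ι → F) → ι → F} (hg : Act Q W g S)
    (hh : Act Q W h T) (hT : ∀ z, Perp Q W z → Perp Q W (T z)) : Act Q W (g * h) (fun z => S (T z)) := by
  refine ⟨fun w hw => by rw [mv_mul, hh.1 w hw, hg.1 w hw], fun z hz => ?_⟩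
  have h1 := W.add_mem (hh.2 z hz) (hg.2 _ (hT z hz))
  convert h1 using 1
  have h2 := hg.1 _ (hh.2 z hz)
  rw [mv_sub] at h2
  rw [mv_mul]
  linear_combination (norm := module) h2

theorem Act.inv {W : Submodule F (ι → F)} {g : GL ι F} {S S' : (ι → F) → ι → F} (hg : Act Q W g S)
    (hS : ∀ z, Perp Q W z → S (S' z) = z) (hS' : ∀ z, Perp Q W z → Perp Q W (S' z)) : Act Q W g⁻¹ S' := by
  refine ⟨fun w hw => mv_inj g (by rw [mv_mv_inv, hg.1 w hw]), fun z hz => ?_⟩
  have h1 := hg.2 _ (hS' z hz)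
  rw [hS z hz] at h1
  have h2 := hg.1 _ h1
  have h3 : mv g⁻¹ z - S' z = -(mv g (S' z) - z) := mv_inj g (by
    rw [mv_sub, mv_mv_inv, mv_neg, h2]
    abel)
  rw [h3]
  exact W.neg_mem h1

variable {ℓ : Module.Dual F K} (hE : Ext Q ℓ) {M : Subgroup (GL ι F)}
include hE

theorem B_perp {W : Submodule F (ι → F)} {u e z₀ : ι → F} {β : K} (hu : B hE u u = 0)
    (hdec : ∀ l ∈ line K u, l - pol Q l z₀ • e ∈ W) (hWz : ∀ w ∈ W, pol Q w z₀ = 0) (hez : pol Q e z₀ = 1)
    (hβ : β = B hE z₀ u) (he : e ∈ line K u) {z : ι → F} (hz : Perp Q W z) : B hE z u = pol Q z e • β := by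
  subst hβ
  refine eq_of_ell hE fun a => ?_
  rw [mul_smul_comm, map_smul, smul_eq_mul, ell_B, ell_B, hE.sa, hE.sa]
  have h1 := hz _ (hdec _ (mem_line.2 ⟨a, rfl⟩))
  rw [pol_sub_right hE.quad, pol_smul_right hE.quad] at h1
  rw [pol_comm z₀ (a • u)]
  linear_combination h1

variable (hM : Over Q K M)
include hM

/-- The data of two lines meeting in a hyperplane. -/
structure Side (g : GL ι F) (u e z₀ : ι → F) : Prop where
  mem : g ∈ M
  sing : B hE u u = 0
  eL : e ∈ line K u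
  zL : z₀ ∈ img K g u
  one : pol Q e z₀ = 1
  ne : B hE z₀ u ≠ 0
  decL : ∀ l ∈ line K u, l - pol Q l z₀ • e ∈ line K u ⊓ img K g u
  decI : ∀ l ∈ img K g u, l - pol Q l e • z₀ ∈ line K u ⊓ img K g u

theorem pol_line {u x y : ι → F} (hu : B hE u u = 0) (hx : x ∈ line K u) (hy : y ∈ line K u) : pol Q x y = 0 := by
  obtain ⟨a, rfl⟩ := mem_line.1 hx
  obtain ⟨b, rfl⟩ := mem_line.1 hy
  rw [← ell_B_one hE]
  simp [hu]

theorem Side.symm {g : GL ι F} {u e z₀ : ι → F} (hs : Side hE (M := M) g u e z₀) :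
    Side hE (M := M) g⁻¹ u (mv g⁻¹ z₀) (mv g⁻¹ e) := by
  have hiso := M_iso hE hM (M.inv_mem hs.mem)
  have hpre : ∀ l ∈ img K g u, mv g⁻¹ l ∈ line K u := fun l hl => by
    obtain ⟨a, rfl⟩ := mem_img.1 hl
    rw [mv_inv_mv]
    exact mem_line.2 ⟨a, rfl⟩
  have himg : ∀ l ∈ line K u, mv g⁻¹ l ∈ img K g⁻¹ u := fun l hl => by
    obtain ⟨a, rfl⟩ := mem_line.1 hl
    exact mem_img.2 ⟨a, rfl⟩
  refine ⟨M.inv_mem hs.mem, hs.sing, hpre _ hs.zL, himg _ hs.eL, ?_, fun h0 => ?_, fun l hl => ?_, fun l hl => ?_⟩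
  · rw [pol_mv hE.quad hiso, pol_comm, hs.one]
  · have h1 : pol Q (mv g⁻¹ e) (mv g⁻¹ z₀) = 0 := by
      obtain ⟨a, ha⟩ := mem_line.1 (hpre _ hs.zL)
      rw [← ha, ← ell_B_one hE, map_smul, h0, smul_zero, map_zero]
    rw [pol_mv hE.quad hiso, hs.one] at h1
    exact one_ne_zero h1
  · obtain ⟨a, rfl⟩ := mem_line.1 hl
    have hmem := hs.decI _ (mem_img.2 ⟨a, rfl⟩)
    refine ⟨Submodule.sub_mem _ hl (Submodule.smul_mem _ _ (hpre _ hs.zL)), ?_⟩
    have h1 : pol Q (a • u) (mv g⁻¹ e) = pol Q (mv g (a • u)) e := by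
      rw [← pol_mv hE.quad (M_iso hE hM hs.mem), mv_mv_inv]
    rw [h1]
    have := himg _ hmem.1
    rwa [mv_sub, mv_smul, mv_inv_mv] at this
  · obtain ⟨a, rfl⟩ := mem_img.1 hl
    have hmem := hs.decL _ (mem_line.2 ⟨a, rfl⟩)
    rw [pol_mv hE.quad hiso]
    refine ⟨?_, Submodule.sub_mem _ hl (Submodule.smul_mem _ _ (himg _ hs.eL))⟩
    have := hpre _ hmem.2
    rwa [mv_sub, mv_smul] at this

theorem Side.perp_e {g : GL ι F} {u e z₀ : ι → F} (hs : Side hE (M := M) g u e z₀) :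
    ∀ w ∈ line K u ⊓ img K g u, pol Q w e = 0 ∧ pol Q w z₀ = 0 := fun w hw =>
  ⟨pol_line hE hM hs.sing hw.1 hs.eL, img_pol hE hM hs.mem hs.sing hw.2 hs.zL⟩

theorem Side.act_rho [Finite F] {g : GL ι F} {u e z₀ f : ι → F} (hs : Side hE (M := M) g u e z₀) (hh : IsHyp hE u f)
    (hPz : ∀ p, InP hE u f p → B hE p z₀ = 0) {x : ι → F} (hx : InP hE u f x) {h : GL ι F} (hk : KLin K h)
    (hhz : IsRho hE h u x) : Act Q (line K u ⊓ img K g u) h (sg hE.quad e (B hE z₀ u • x)) := by
  set W := line K u ⊓ img K g u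
  set β := B hE z₀ u
  refine ⟨fun w hw => ?_, fun z hz => ?_⟩
  · obtain ⟨c, rfl⟩ := mem_line.1 hw.1
    rw [hk, hhz]
    simp [hh.1, B_comm hE u x, hx.1]
  have hBz := B_perp hE hs.sing hs.decL (fun w hw => (hs.perp_e hE hM w hw).2) hs.one rfl hs.eL hz
  set c := B hE z x + B hE x x / 2 * B hE z u with hc
  have hcu := hs.decL _ (mem_line.2 ⟨c, rfl⟩)
  have hcoef : pol Q (c • u) z₀ = pol Q z (β • x) + Q (β • x) * pol Q z e := by
    have e1 : 2 * Q (β • x) = ℓ (β * β * B hE x x) := by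
      rw [q_eq hE]; congr 1; simp; ring
    have e2 : (2 : F) • (c * β) = (2 : F) • (β * B hE z x) + pol Q z e • (β * β * B hE x x) := by
      have h2 := two' hE
      rw [hc, hBz]
      simp only [Algebra.smul_def, map_ofNat]
      field_simp
      ring
    have e3 := congrArg ℓ e2
    rw [map_add, map_smul, map_smul, map_smul, smul_eq_mul, smul_eq_mul, smul_eq_mul] at e3
    apply mul_left_cancel₀ hE.two
    rw [← ell_B_one hE (c • u), map_smul (B hE), LinearMap.smul_apply, smul_eq_mul, B_comm hE u z₀,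
      ← ell_B_one hE z (β • x), map_smul (B hE z), smul_eq_mul]
    change 2 * ℓ (c * β) = _
    linear_combination e3 - pol Q z e * e1
  have h1 := W.neg_mem hcu
  convert h1 using 1
  rw [hhz, sg_apply, hcoef, ← hc, hBz, smul_assoc]
  module

theorem Side.act_left [Finite F] (hd : 4 ≤ Module.finrank K (ι → F)) {g : GL ι F} {u e z₀ f : ι → F}
    (hs : Side hE (M := M) g u e z₀) (hh : IsHyp hE u f) (hPz : ∀ p, InP hE u f p → B hE p z₀ = 0) {y : ι → F}
    (hy : InP hE u f y) : ∃ h ∈ M, Act Q (line K u ⊓ img K g u) h (sg hE.quad e y) := by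
  obtain ⟨h, hhM, hk, hhz⟩ := exists_rho_mem hE hM (by omega) hs.sing (y := (B hE z₀ u)⁻¹ • y)
    (by simp [B_comm hE u y, hy.1])
  refine ⟨h, hhM, ?_⟩
  have := hs.act_rho hE hM hh hPz (hy.smul hE _) hk hhz
  rwa [smul_smul, mul_inv_cancel₀ hs.ne, one_smul] at this

theorem Side.act_right [Finite F] (hd : 4 ≤ Module.finrank K (ι → F)) {g : GL ι F} {u e z₀ : ι → F}
    (hs : Side hE (M := M) g u e z₀) {y : ι → F} (hyW : Perp Q (line K u ⊓ img K g u) y) (hye : pol Q y e = 0)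
    (hyz : pol Q y z₀ = 0) : ∃ h ∈ M, Act Q (line K u ⊓ img K g u) h (sg hE.quad z₀ y) := by
  set W := line K u ⊓ img K g u with hWdef
  have hs' := hs.symm hE hM
  set W' := line K u ⊓ img K g⁻¹ u with hW'def
  obtain ⟨f, hh, hPz, -⟩ := exists_plane hE hM hs.sing hs'.ne
  have hiso := M_iso hE hM hs.mem
  have hmapW : ∀ w' ∈ W', mv g w' ∈ W := by
    intro w' hw'
    obtain ⟨a, ha⟩ := mem_line.1 hw'.1
    obtain ⟨b, hb⟩ := mem_img.1 hw'.2
    exact ⟨by rw [← hb, mv_mv_inv]; exact mem_line.2 ⟨b, rfl⟩, mem_img.2 ⟨a, by rw [ha]⟩⟩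
  have hmapW' : ∀ w ∈ W, mv g⁻¹ w ∈ W' := by
    intro w hw
    obtain ⟨a, ha⟩ := mem_line.1 hw.1
    obtain ⟨b, hb⟩ := mem_img.1 hw.2
    exact ⟨by rw [← hb, mv_inv_mv]; exact mem_line.2 ⟨b, rfl⟩, mem_img.2 ⟨a, by rw [ha]⟩⟩
  set x := mv g⁻¹ y with hx
  have hxy : mv g x = y := mv_mv_inv g y
  have hxW : Perp Q W' x := fun w' hw' => by
    rw [← pol_mv hE.quad hiso, hxy]; exact hyW _ (hmapW w' hw')
  have hxe : pol Q x (mv g⁻¹ e) = 0 := by rw [← pol_mv hE.quad hiso, hxy, mv_mv_inv, hye]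
  have hxz : pol Q x (mv g⁻¹ z₀) = 0 := by rw [← pol_mv hE.quad hiso, hxy, mv_mv_inv, hyz]
  have hxu : B hE x u = 0 := by
    rw [B_perp hE hs'.sing hs'.decL (fun w hw => (hs'.perp_e hE hM w hw).2) hs'.one rfl hs'.eL hxW, hxz, zero_smul]
  set p := x - B hE x f • u with hp
  have hpP : InP hE u f p := by
    constructor
    · simp [hp, hxu, hs.sing]
    · simp [hp, hh.2.2]
  have hcu : B hE x f • u ∈ W' := by
    have h1 := hs'.decL _ (mem_line.2 ⟨B hE x f, rfl⟩)
    have h3 : pol Q p (mv g⁻¹ e) = 0 := by rw [← ell_B_one hE, hPz p hpP, map_zero]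
    rw [hp, pol_sub_left hE.quad, hxe, zero_sub, neg_eq_zero] at h3
    rwa [h3, zero_smul, sub_zero] at h1
  obtain ⟨h, hhM, hfix, hact⟩ := hs'.act_left hE hM hd hh hPz hpP
  refine ⟨g * h * g⁻¹, M.mul_mem (M.mul_mem hs.mem hhM) (M.inv_mem hs.mem), fun w hw => ?_, fun z hz => ?_⟩
  · rw [mv_mul, mv_mul, hfix _ (hmapW' w hw), mv_mv_inv]
  have hz' : Perp Q W' (mv g⁻¹ z) := fun w' hw' => by
    rw [← pol_mv hE.quad hiso, mv_mv_inv]; exact hz _ (hmapW w' hw')
  have h1 := hmapW _ (hact _ hz')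
  have hw0 : mv g (B hE x f • u) ∈ W := hmapW _ hcu
  have hpy : mv g p = y - mv g (B hE x f • u) := by rw [hp, mv_sub, hxy]
  rw [sg_apply, mv_sub, mv_sub, mv_add, mv_smul, mv_smul, mv_mv_inv, mv_mv_inv, hpy, ← mv_mul, ← mv_mul,
    ← pol_mv hE.quad hiso (mv g⁻¹ z), mv_mv_inv, mv_mv_inv, ← pol_mv hE.quad hiso (mv g⁻¹ z) p,
    mv_mv_inv, hpy, ← mem_isometry.1 hiso p, hpy, pol_sub_right hE.quad, hz _ hw0, q_sub hE.quad, hyW _ hw0,
    q_zero_of hE (x := mv g (B hE x f • u)) ?_] at h1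
  · rw [sg_apply]
    have h2 := W.sub_mem h1 (W.smul_mem (pol Q z z₀) hw0)
    convert h2 using 1
    rw [sub_zero, sub_zero, add_zero]
    module
  · obtain ⟨c, hc⟩ := mem_line.1 hw0.1
    rw [← hc]; simp [hs.sing]

/-- Two lines meeting in a hyperplane force the whole group. -/
theorem eq_omega_of_hyperplane [Finite F] (hn : 7 ≤ Fintype.card ι) (hd : 4 ≤ Module.finrank K (ι → F))
    (hr : 2 ≤ Module.finrank F K)
    {g : GL ι F} {u e z₀ : ι → F} (hW0 : line K u ⊓ img K g u ≠ ⊥) (hs : Side hE (M := M) g u e z₀) :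
    M = Geo.omegaGL Q := by
  classical
  haveI : Module.Finite K (ι → F) := Module.Finite.of_restrictScalars_finite F K _
  have hq := hE.quad
  have h2 := two' hE
  set W := line K u ⊓ img K g u with hWdef
  obtain ⟨f, hh, hPz, -⟩ := exists_plane hE hM hs.sing hs.ne
  have hu0 : u ≠ 0 := hh.ne_left
  set β := B hE z₀ u with hβ
  have hWe : ∀ w ∈ W, pol Q w e = 0 := fun w hw => (hs.perp_e hE hM w hw).1
  have hWz : ∀ w ∈ W, pol Q w z₀ = 0 := fun w hw => (hs.perp_e hE hM w hw).2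
  have hQe : Q e = 0 := by
    obtain ⟨c, hc⟩ := mem_line.1 hs.eL
    exact q_zero_of hE (by rw [← hc]; simp [hs.sing])
  have hQz : Q z₀ = 0 := by
    obtain ⟨c, hc⟩ := mem_img.1 hs.zL
    rw [← hc, mem_isometry.1 (M_iso hE hM hs.mem), q_zero_of hE]
    simp [hs.sing]
  have hee : pol Q e e = 0 := by rw [pol_self hq, hQe, mul_zero]
  have hzz : pol Q z₀ z₀ = 0 := by rw [pol_self hq, hQz, mul_zero]
  have hze : pol Q z₀ e = 1 := by rw [pol_comm, hs.one]
  -- the perpendicular of the plane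
  have hP : ∀ p, InP hE u f p → Perp Q W p ∧ pol Q p e = 0 ∧ pol Q p z₀ = 0 := by
    intro p hp
    have hl : ∀ l ∈ line K u, pol Q p l = 0 := fun l hl => by
      obtain ⟨c, rfl⟩ := mem_line.1 hl
      rw [← ell_B_one hE]; simp [hp.1]
    exact ⟨fun w hw => hl w hw.1, hl e hs.eL, by rw [← ell_B_one hE, hPz p hp, map_zero]⟩
  have hsgPerp : ∀ c y z, Perp Q W c → Perp Q W y → Perp Q W z → Perp Q W (sg hq c y z) := by
    intro c y z hc hy hz w hw
    rw [sg_apply, pol_sub_left hq, pol_add_left hq, pol_smul_left hq, pol_smul_left hq, hc w hw, hy w hw, hz w hw]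
    ring
  have heW : Perp Q W e := fun w hw => by rw [pol_comm]; exact hWe w hw
  have hzW : Perp Q W z₀ := fun w hw => by rw [pol_comm]; exact hWz w hw
  -- reduction of a kernel element
  suffices hD : ∃ D ∈ M, (∀ w ∈ W, mv D w = w) ∧ (∀ z, Perp Q W z → mv D z - z ∈ W) ∧
      ∃ z, Perp Q W z ∧ mv D z ≠ z by
    obtain ⟨D₀, hD₀, hD₀W, hD₀z, hD₀ne⟩ := hD
    have step : ∀ D ∈ M, (∀ w ∈ W, mv D w = w) → (∀ z, Perp Q W z → mv D z - z ∈ W) → ∀ y, InP hE u f y →
        ∃ D' ∈ M, (∀ w ∈ W, mv D' w = w) ∧ ∀ z, Perp Q W z →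
          mv D' z = z - pol Q z e • (mv D y - y) + (pol Q z y - Q y * pol Q z e) • (mv D e - e) := by
      intro D hDM hDW hDz y hy
      obtain ⟨hyW, hye, hyz⟩ := hP y hy
      obtain ⟨h, hhM, hA⟩ := hs.act_left hE hM hd hh hPz hy
      have hinv : Act Q W h⁻¹ (sg hq e (-y)) := hA.inv
        (fun z hz => by
          simp only [sg_apply, pol_add_left hq, pol_sub_left hq, pol_smul_left hq, pol_neg_right hq, pol_neg_left hq,
            q_neg hq, pol_comm e y, hye, hee, pol_self hq y]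
          module)
        fun z hz => hsgPerp _ _ _ heW (fun w hw => by rw [pol_neg_left hq, hyW w hw, neg_zero]) hz
      refine ⟨h * D * h⁻¹ * D⁻¹, M.mul_mem (M.mul_mem (M.mul_mem hhM hDM) (M.inv_mem hhM)) (M.inv_mem hDM),
        fun w hw => ?_, fun z hz => ?_⟩
      · rw [mv_mul, mv_mul, mv_mul, (mv_eq_iff D (y := w)).1 (hDW w hw) |>.symm, hinv.1 w hw, hDW w hw, hA.1 w hw]
      have hDi : mv D⁻¹ z = z - (mv D z - z) := mv_inj D (by
        rw [mv_mv_inv, mv_sub, hDW _ (hDz z hz)]; abel)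
      set z' := sg hq e (-y) z with hz'
      have hz'W : Perp Q W z' := hsgPerp _ _ _ heW (fun w hw => by rw [pol_neg_left hq, hyW w hw, neg_zero]) hz
      have hw1 := hinv.2 z hz
      have e1 : mv h⁻¹ z = z' + (mv h⁻¹ z - z') := (add_sub_cancel _ _).symm
      rw [mv_mul, mv_mul, mv_mul, hDi, mv_sub h⁻¹, hinv.1 _ (hDz z hz), mv_sub D, hDW _ (hDz z hz), e1, mv_add D,
        hDW _ hw1, show mv D z' = z' + (mv D z' - z') from (add_sub_cancel _ _).symm,
        show z' + (mv D z' - z') + (mv h⁻¹ z - z') - (mv D z - z) =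
          (z' + (mv h⁻¹ z - z')) + ((mv D z' - z') - (mv D z - z)) by abel,
        ← e1, mv_add h, mv_mv_inv, hA.1 _ (W.sub_mem (hDz _ hz'W) (hDz _ hz))]
      rw [hz', sg_apply, pol_neg_right hq, q_neg hq, mv_sub D, mv_add D, mv_smul D, mv_smul D, mv_neg D]
      module
    obtain ⟨D, hDM, hDW, w, hw, hw0, hDz⟩ : ∃ D ∈ M, (∀ w ∈ W, mv D w = w) ∧ ∃ w ∈ W, w ≠ 0 ∧
        ∀ z, Perp Q W z → mv D z = z + pol Q z e • w := by
      by_cases hle : mv D₀ e = e
      swap
      · obtain ⟨η, hη⟩ := exists_ell hE (1 : F)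
        obtain ⟨y, hy, hyy⟩ := exists_value hE hh hd η
        have hQy : pol Q y y = 1 := by rw [← ell_B_one hE, hyy, hη]
        obtain ⟨hyW, hye, hyz⟩ := hP y hy
        obtain ⟨D₁, hD₁, hD₁W, hD₁z⟩ := step D₀ hD₀ hD₀W hD₀z y hy
        have hD₁mem : ∀ z, Perp Q W z → mv D₁ z - z ∈ W := fun z hz => by
          rw [hD₁z z hz]
          convert W.add_mem (W.smul_mem (-pol Q z e) (hD₀z y hyW))
            (W.smul_mem (pol Q z y - Q y * pol Q z e) (hD₀z e heW)) using 1
          module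
        obtain ⟨D₂, hD₂, hD₂W, hD₂z⟩ := step D₁ hD₁ hD₁W hD₁mem y hy
        refine ⟨D₂, hD₂, hD₂W, -(mv D₀ e - e), W.neg_mem (hD₀z e heW), neg_ne_zero.2 (sub_ne_zero.2 hle),
          fun z hz => ?_⟩
        rw [hD₂z z hz, hD₁z y hyW, hD₁z e heW, hye, hee, hQy, pol_comm e y, hye]
        module
      by_cases hly : ∀ y, InP hE u f y → mv D₀ y = y
      · obtain ⟨z₁, hz₁, hne⟩ := hD₀ne
        have hlam : ∀ z, Perp Q W z → mv D₀ z - z = pol Q z e • (mv D₀ z₀ - z₀) := by
          intro z hz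
          set x := z - pol Q z e • z₀ - pol Q z z₀ • e with hx
          have hxW : Perp Q W x := fun w hw => by
            simp [hx, pol_sub_left hq, pol_smul_left hq, hz w hw, heW w hw, hzW w hw]
          have hxe : pol Q x e = 0 := by simp [hx, pol_sub_left hq, pol_smul_left hq, hze, hee]
          have hxz : pol Q x z₀ = 0 := by simp [hx, pol_sub_left hq, pol_smul_left hq, hs.one, hzz]
          have hxu : B hE x u = 0 := by
            rw [B_perp hE hs.sing hs.decL hWz hs.one rfl hs.eL hxW, hxe, zero_smul]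
          have hp := proj_hyp hE hh x
          rw [hxu, zero_smul, sub_zero] at hp
          have hcW : B hE x f • u ∈ W := by
            have h1 := hs.decL _ (mem_line.2 ⟨B hE x f, rfl⟩)
            have h3 := (hP _ hp).2.2
            rw [pol_sub_left hq, hxz, zero_sub, neg_eq_zero] at h3
            rwa [h3, zero_smul, sub_zero] at h1
          have hfixx : mv D₀ x = x := by
            have := hly _ hp
            rwa [mv_sub, hD₀W _ hcW, sub_left_inj] at this
          rw [show z = x + pol Q z e • z₀ + pol Q z z₀ • e by rw [hx]; abel]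
          simp only [mv_add, mv_smul, hfixx, hle, pol_add_left hq, pol_smul_left hq, hxe, hze, hee]
          module
        refine ⟨D₀, hD₀, hD₀W, mv D₀ z₀ - z₀, hD₀z z₀ hzW, fun h0 => hne ?_, fun z hz => ?_⟩
        · rw [← sub_eq_zero, hlam z₁ hz₁, h0, smul_zero]
        · rw [← hlam z hz, add_sub_cancel]
      push Not at hly
      obtain ⟨y, hy, hyne⟩ := hly
      obtain ⟨D₁, hD₁, hD₁W, hD₁z⟩ := step D₀ hD₀ hD₀W hD₀z y hy
      exact ⟨D₁, hD₁, hD₁W, -(mv D₀ y - y), W.neg_mem (hD₀z y (hP y hy).1),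
        neg_ne_zero.2 (sub_ne_zero.2 hyne), fun z hz => by rw [hD₁z z hz, hle]; module⟩
    -- the commutator with the other root group
    obtain ⟨k, hk⟩ := mem_line.1 hw.1
    have hk0 : k ≠ 0 := fun h => hw0 (by rw [← hk, h, zero_smul])
    have hQw : Q w = 0 := q_zero_of hE (by rw [← hk]; simp [hs.sing])
    have hwe : pol Q w (-e) = 0 := by rw [pol_neg_right hq, hWe w hw, neg_zero]
    obtain ⟨S, hS, hSz⟩ := exists_siegel hq hQw hwe
    obtain ⟨Si, -, hSiz⟩ := exists_siegel hq (y := e) hQw (hWe w hw)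
    have hSi : S⁻¹ = Si := inv_eq_of_mul_eq_one_right (isSiegel_unique (isSiegel_mul hq hQw hwe (hWe w hw) hSz hSiz)
      (by rw [neg_add_cancel]; exact isSiegel_zero hq w))
    have hSperp : ∀ z, Perp Q W z → mv S z = z + pol Q z e • w := fun z hz => by
      rw [hSz, hz w hw, pol_neg_right hq]; module
    have hSW : ∀ x ∈ W, mv S x = x := fun x hx => by
      rw [hSperp x (fun w' hw' => pol_line hE hM hs.sing hx.1 hw'.1), hWe x hx, zero_smul, add_zero]
    set N := S⁻¹ * D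
    have hDiso := M_iso hE hM hDM
    have hN : N ∈ isometryGroup F Q := Subgroup.mul_mem _ (Subgroup.inv_mem _ hS) hDiso
    have hNfix : ∀ z, Perp Q W z → mv N z = z := fun z hz => by
      rw [mv_mul, hDz z hz, ← hSperp z hz, mv_inv_mv]
    have hNW : ∀ z, mv N z - z ∈ W := by
      intro z
      set n := mv N z - z with hn'
      have hn : ∀ x, Perp Q W x → pol Q n x = 0 := fun x hx => by
        rw [hn', pol_sub_left hq, sub_eq_zero]
        conv_lhs => arg 3; rw [← hNfix x hx]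
        exact pol_mv hq hN z x
      have hlineW : ∀ a : K, Perp Q W (a • u) := fun a w' hw' => pol_line hE hM hs.sing (mem_line.2 ⟨a, rfl⟩) hw'.1
      have hnu : B hE n u = 0 := eq_of_ell hE fun a => by
        rw [mul_zero, map_zero, ell_B, hE.sa]; exact hn _ (hlineW a)
      obtain ⟨hp1, hp2⟩ := proj_hyp hE hh n
      set p := n - B hE n f • u - B hE n u • f with hp
      have hp0 : p = 0 := eq_zero_of_B hE fun y => eq_of_ell hE fun a => by
        have hyP := (proj_hyp hE hh y).smul hE a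
        rw [mul_zero, map_zero]
        have e0 : a * B hE p y = B hE p (a • (y - B hE y f • u - B hE y u • f)) := by simp [hp1, hp2]
        rw [e0, ell_B_one hE, hp, hnu, zero_smul, sub_zero, pol_sub_left hq, hn _ (hP _ hyP).1, zero_sub,
          neg_eq_zero, ← ell_B_one hE]
        simp only [map_smul, LinearMap.smul_apply, B_comm hE u (y - _ - _), (proj_hyp hE hh y).1, smul_zero, map_zero]
      rw [hp, hnu, zero_smul, sub_zero, sub_eq_zero] at hp0
      have h1 := hs.decL _ (mem_line.2 ⟨B hE n f, hp0.symm⟩)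
      rwa [hn z₀ hzW, zero_smul, sub_zero] at h1
    have hshift : ∀ y, InP hE u f y → ∃ w' ∈ W, ∃ h ∈ M, IsSiegel Q h w (-y + Q y • z₀ + w') := by
      intro y hy
      obtain ⟨hyW, hye, hyz⟩ := hP y hy
      obtain ⟨h, hhM, hA⟩ := hs.act_right hE hM hd hyW hye hyz
      have hiso := M_iso hE hM hhM
      have hhW' : ∀ z, Perp Q W (mv h z - z) := fun z x hx => by
        rw [pol_sub_left hq, sub_eq_zero]
        conv_lhs => arg 3; rw [← hA.1 x hx]
        exact pol_mv hq hiso z x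
      have hcomm : h * N = N * h := ext_mv fun z => by
        have e1 : mv N (mv h z) = mv N z + (mv h z - z) := by
          conv_lhs => rw [show mv h z = z + (mv h z - z) by abel]
          rw [mv_add, hNfix _ (hhW' z)]
        have e2 : mv h (mv N z) = mv h z + (mv N z - z) := by
          conv_lhs => rw [show mv N z = z + (mv N z - z) by abel]
          rw [mv_add, hA.1 _ (hNW z)]
        rw [mv_mul h N, mv_mul N h, e1, e2]
        abel
      have hDeq : D = S * N := (mul_inv_cancel_left S D).symm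
      refine ⟨-(mv h e - sg hq z₀ y e), W.neg_mem (hA.2 e heW), h * D * h⁻¹ * D⁻¹,
        M.mul_mem (M.mul_mem (M.mul_mem hhM hDM) (M.inv_mem hhM)) (M.inv_mem hDM), ?_⟩
      have hconj := isSiegel_conj hq hiso hSz
      rw [hA.1 w hw, mv_neg] at hconj
      have hpe : pol Q w (mv h e) = 0 := by
        conv_lhs => arg 2; rw [← hA.1 w hw]
        rw [pol_mv hq hiso, hWe w hw]
      have hprod := isSiegel_mul hq hQw (by rw [pol_neg_right hq, hpe, neg_zero]) (hWe w hw) hconj hSiz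
      have heq : h * D * h⁻¹ * D⁻¹ = h * S * h⁻¹ * Si := by
        have e3 : h * N * h⁻¹ * N⁻¹ = 1 := by rw [hcomm, mul_inv_cancel_right, mul_inv_cancel]
        rw [← hSi, hDeq]
        calc h * (S * N) * h⁻¹ * (S * N)⁻¹ = h * S * h⁻¹ * (h * N * h⁻¹ * N⁻¹) * S⁻¹ := by group
          _ = h * S * h⁻¹ * S⁻¹ := by rw [e3, mul_one]
      rw [heq]
      convert hprod using 1
      rw [sg_apply, pol_comm e y, hye, hs.one]
      module
    have hh' : IsHyp hE w (k⁻¹ • f) := by
      refine ⟨by rw [← hk]; simp [hs.sing], by simp [hh.2.1], ?_⟩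
      rw [← hk]; simp [hh.2.2, hk0]
    refine eq_omega_of_base hE hM hn hd hh' fun y₀ hy₀ => ?_
    have hyP : InP hE u f y₀ := by
      obtain ⟨h1, h3⟩ := hy₀
      rw [← hk] at h1
      simpa [InP, hk0] using And.intro h1 h3
    have hy2 : InP hE u f ((2 : F)⁻¹ • y₀) := by
      rw [← algebraMap_smul K]
      exact hyP.smul hE _
    obtain ⟨w₁, hw₁, g₁, hg₁, hs₁⟩ := hshift _ hy2
    obtain ⟨w₂, hw₂, g₂, hg₂, hs₂⟩ := hshift (-((2 : F)⁻¹ • y₀)) (by have := hy2.smul hE (-1); rwa [neg_one_smul] at this)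
    have hp : ∀ w' ∈ W, ∀ t : F, ∀ y, InP hE u f y → pol Q w (y + t • z₀ + w') = 0 := fun w' hw' t y hy => by
      rw [pol_add_right hq, pol_add_right hq, pol_smul_right hq, hWz w hw, pol_line hE hM hs.sing hw.1 hw'.1,
        pol_comm, (hP y hy).1 w hw]
      ring
    have hy2n : InP hE u f (-((2 : F)⁻¹ • y₀)) := by have := hy2.smul hE (-1); rwa [neg_one_smul] at this
    rw [neg_neg, q_neg hq] at hs₂
    obtain ⟨g₃, -, hs₃⟩ := exists_siegel hq hQw (y := -(-((2 : F)⁻¹ • y₀) + Q ((2 : F)⁻¹ • y₀) • z₀ + w₁))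
      (by rw [pol_neg_right hq, hp w₁ hw₁ _ _ hy2n, neg_zero])
    have hg₃ : g₁⁻¹ = g₃ := inv_eq_of_mul_eq_one_right (isSiegel_unique
      (isSiegel_mul hq hQw (hp w₁ hw₁ _ _ hy2n) (by rw [pol_neg_right hq, hp w₁ hw₁ _ _ hy2n, neg_zero]) hs₁ hs₃)
      (by rw [add_neg_cancel]; exact isSiegel_zero hq w))
    have hprod := isSiegel_mul hq hQw (hp w₂ hw₂ _ _ hy2)
      (by rw [pol_neg_right hq, hp w₁ hw₁ _ _ hy2n, neg_zero]) hs₂ hs₃
    obtain ⟨c, hc⟩ := mem_line.1 (W.sub_mem hw₂ hw₁).1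
    refine ⟨c * k⁻¹, g₂ * g₃, M.mul_mem hg₂ (hg₃ ▸ M.inv_mem hg₁), ?_⟩
    convert hprod using 1
    rw [← hk, smul_smul, mul_assoc, inv_mul_cancel₀ hk0, mul_one, hc]
    have e4 : y₀ = (2 : F)⁻¹ • y₀ + (2 : F)⁻¹ • y₀ := by
      rw [← add_smul, ← two_mul, mul_inv_cancel₀ hE.two, one_smul]
    conv_lhs => arg 1; rw [e4]
    module
  -- a kernel element
  set PF : Submodule F (ι → F) := (perp hE ![u, f]).restrictScalars F with hPF
  have hmemP : ∀ p, p ∈ PF ↔ InP hE u f p := fun p => by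
    simp [hPF, mem_perp, InP, Fin.forall_fin_two]
  have hPn : Nondeg Q PF := by
    intro p hp hpd
    by_contra hp0
    have hpP := (hmemP p).1 hp
    obtain ⟨y, hy⟩ := exists_B_ne hE hp0
    obtain ⟨c, hc⟩ := exists_ell_mul hE hy
    refine hc ?_
    have hyP := (proj_hyp hE hh y).smul hE c
    have := hpd _ ((hmemP _).2 hyP)
    rw [pol_comm, ← ell_B_one hE] at this
    simpa [hpP.1, hpP.2] using this
  have hPdim : 4 ≤ Module.finrank F PF := by
    have d1 := finrank_inf_ker (F := F) (⊤ : Submodule K (ι → F)) ((B hE).flip u)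
    have d2 := finrank_inf_ker (F := F) (⊤ ⊓ LinearMap.ker ((B hE).flip u)) ((B hE).flip f)
    rw [finrank_top] at d1
    have hsame : ⊤ ⊓ LinearMap.ker ((B hE).flip u) ⊓ LinearMap.ker ((B hE).flip f) = perp hE ![u, f] := by
      ext p
      simp [mem_perp, Fin.forall_fin_two]
    rw [hsame] at d2
    have h3 : Module.finrank F K * Module.finrank K ↥(perp hE ![u, f]) = Module.finrank F PF :=
      Module.finrank_mul_finrank F K ↥(perp hE ![u, f])
    rw [← h3]
    calc 4 = 2 * 2 := by norm_num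
      _ ≤ _ := Nat.mul_le_mul hr (by omega)
  obtain ⟨c, hc⟩ : ∃ c : K, c ∉ F ∙ (1 : K) := by
    by_contra h
    push Not at h
    have h1 := Submodule.eq_top_iff'.2 h
    have h3 : Module.finrank F ↥(F ∙ (1 : K)) ≤ 1 := (finrank_span_le_card _).trans (by simp)
    rw [h1, finrank_top] at h3
    omega
  obtain ⟨a, haP, ha0, haa⟩ := Orth.exists_singular hq (X := PF) (by omega)
  obtain ⟨a', ha'P, ha'a', haa'⟩ := Orth.exists_partner hq hPn haP ha0 haa
  obtain ⟨hpn, hp2⟩ := nondeg_pair hq haa ha'a' haa'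
  set X := PF ⊓ orth hq (Submodule.span F {a, a'}) with hX
  have hle : Submodule.span F ({a, a'} : Set (ι → F)) ≤ PF :=
    Submodule.span_le.2 (by rintro v (rfl | rfl) <;> assumption)
  have hXn : Nondeg Q X := nondeg_inf_orth hq hpn hPn hle
  have hXd := finrank_inf_orth_add hq hpn hle
  rw [hp2, ← hX] at hXd
  have hXmem : ∀ x ∈ X, pol Q a x = 0 ∧ pol Q a' x = 0 := fun x hx =>
    ⟨hx.2 a (Submodule.subset_span (Set.mem_insert _ _)), hx.2 a' (Submodule.subset_span (Set.mem_insert_of_mem _ rfl))⟩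
  have hline : ∀ {v : ι → F}, Q v ≠ 0 → Nondeg Q (Submodule.span F {v}) := fun {v} hv x hx h => by
    obtain ⟨k, rfl⟩ := Submodule.mem_span_singleton.1 hx
    have := h v (Submodule.mem_span_singleton_self v)
    rw [pol_smul_right hq, pol_self hq, mul_eq_zero, or_iff_left (mul_ne_zero hE.two hv)] at this
    rw [this, zero_smul]
  obtain ⟨b, hb, hbb, hnot⟩ : ∃ b ∈ X, Q b ≠ 0 ∧ c • a ∉ Submodule.span F ({a, b} : Set (ι → F)) := by
    obtain ⟨b₁, hb₁, hb₁b⟩ := Orth.exists_anisotropic hq hXn (fun h => by rw [h, finrank_bot] at hXd; omega)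
    have hl1 : Submodule.span F {b₁} ≤ X := (Submodule.span_singleton_le_iff_mem _ _).2 hb₁
    have hd1 := finrank_inf_orth_add hq (hline hb₁b) hl1
    rw [finrank_span_singleton (fun h => hb₁b (by rw [h, Orth.q_zero hq]))] at hd1
    obtain ⟨b₂, hb₂, hb₂b⟩ := Orth.exists_anisotropic hq (nondeg_inf_orth hq (hline hb₁b) hXn hl1)
      (fun h => by rw [h, finrank_bot] at hd1; omega)
    by_contra hcon
    push Not at hcon
    obtain ⟨p, q, hpq⟩ := Submodule.mem_span_pair.1 (hcon b₁ hb₁ hb₁b)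
    obtain ⟨p', q', hpq'⟩ := Submodule.mem_span_pair.1 (hcon b₂ hb₂.1 hb₂b)
    have e1 := congrArg (fun v => pol Q v b₁) (hpq.trans hpq'.symm)
    have h21 : pol Q b₂ b₁ = 0 := (pol_comm _ _).trans (hb₂.2 b₁ (Submodule.mem_span_singleton_self b₁))
    simp [pol_add_left hq, pol_smul_left hq, (hXmem b₁ hb₁).1, h21, pol_self hq b₁, hE.two, hb₁b] at e1
    rw [e1, zero_smul, add_zero, ← one_smul K a, smul_smul, ← smul_assoc, mul_one] at hpq
    exact hc (Submodule.mem_span_singleton.2 ⟨p, smul_left_injective K ha0 hpq⟩)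
  have h2b : 2 * Q b ≠ 0 := mul_ne_zero hE.two hbb
  set bd := (2 * Q b)⁻¹ • b with hbddef
  have hbd : bd ∈ X := X.smul_mem _ hb
  have hbbd : pol Q b bd = 1 := by
    rw [hbddef, pol_smul_right hq, pol_self hq, inv_mul_cancel₀ h2b]
  have haI := (hmemP a).1 haP
  have hbI := (hmemP b).1 hb.1
  have hab : pol Q a b = 0 := (hXmem b hb).1
  have hba : pol Q b a = 0 := by rw [pol_comm]; exact hab
  obtain ⟨haW, hae, haz⟩ := hP a haI
  obtain ⟨hbW, hbe, hbz⟩ := hP b hbI
  obtain ⟨hA, hAM, actA⟩ := hs.act_left hE hM hd hh hPz haI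
  obtain ⟨hB, hBM, actB⟩ := hs.act_right hE hM hd hbW hbe hbz
  have haW' : Perp Q W (-a) := fun w hw => by rw [pol_neg_left hq, haW w hw, neg_zero]
  have hbW' : Perp Q W (-b) := fun w hw => by rw [pol_neg_left hq, hbW w hw, neg_zero]
  have actAi : Act Q W hA⁻¹ (sg hq e (-a)) := actA.inv
    (fun z hz => by
      simp only [sg_apply, pol_add_left hq, pol_sub_left hq, pol_smul_left hq, pol_neg_right hq, pol_neg_left hq,
        q_neg hq, pol_comm e a, hae, hee, pol_self hq a]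
      module)
    fun z hz => hsgPerp _ _ _ heW haW' hz
  have actBi : Act Q W hB⁻¹ (sg hq z₀ (-b)) := actB.inv
    (fun z hz => by
      simp only [sg_apply, pol_add_left hq, pol_sub_left hq, pol_smul_left hq, pol_neg_right hq, pol_neg_left hq,
        q_neg hq, pol_comm z₀ b, hbz, hzz, pol_self hq b]
      module)
    fun z hz => hsgPerp _ _ _ hzW hbW' hz
  obtain ⟨σ, hσ⟩ : ∃ σ : (ι → F) → ι → F,
      ∀ z, σ z = z + pol Q z a • b - (pol Q z b + Q b * pol Q z a) • a := ⟨_, fun z => rfl⟩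
  -- correct the commutator by a root element
  have hca' : Perp Q W ((-Q b) • a) := fun w hw => by rw [pol_smul_left hq, haW w hw, mul_zero]
  obtain ⟨hC, hCM, actC⟩ := hs.act_right hE hM hd (y := (-Q b) • a) hca'
    (by rw [pol_smul_left hq, hae, mul_zero]) (by rw [pol_smul_left hq, haz, mul_zero])
  set m := hC * (hA * hB * hA⁻¹ * hB⁻¹) with hm
  have hmM : m ∈ M := M.mul_mem hCM (M.mul_mem (M.mul_mem (M.mul_mem hAM hBM) (M.inv_mem hAM)) (M.inv_mem hBM))
  have actm : Act Q W m σ := by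
    have hac := actC.mul ((((actA.mul actB fun z hz => hsgPerp _ _ _ hzW hbW hz).mul actAi
      fun z hz => hsgPerp _ _ _ heW haW' hz).mul actBi fun z hz => hsgPerp _ _ _ hzW hbW' hz))
      fun z hz => hsgPerp _ _ _ heW haW (hsgPerp _ _ _ hzW hbW (hsgPerp _ _ _ heW haW' (hsgPerp _ _ _ hzW hbW' hz)))
    refine ⟨hac.1, fun z hz => ?_⟩
    have h1 := hac.2 z hz
    convert h1 using 1
    rw [hσ, hm]
    simp only [sg_apply, pol_add_left hq, pol_sub_left hq, pol_smul_left hq, pol_smul_right hq, pol_neg_right hq,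
      pol_neg_left hq, q_neg hq, q_smul hq, haa, hee, hzz, hze, hs.one, hae, haz, hbe, hbz, hab, hba, pol_comm e a,
      pol_comm z₀ a, pol_comm e b, pol_comm z₀ b, pol_self hq a, pol_self hq b, mul_zero]
    module
  have hσiso : ∀ z z', pol Q (σ z) (σ z') = pol Q z z' := fun z z' => by
    simp only [hσ, pol_add_left hq, pol_add_right hq, pol_sub_left hq, pol_sub_right hq, pol_smul_left hq,
      pol_smul_right hq, pol_self hq a, pol_self hq b, haa, hab, hba, pol_comm a z', pol_comm b z']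
    ring
  have hσadd : ∀ z z' (t : F), σ (z + t • z') = σ z + t • σ z' := fun z z' t => by
    simp only [hσ, pol_add_left hq, pol_smul_left hq]; module
  have hσP : ∀ z, InP hE u f z → InP hE u f (σ z) := fun z hz => (hmemP _).1 (by
    rw [hσ]; exact PF.sub_mem (PF.add_mem ((hmemP z).2 hz) (PF.smul_mem _ hb.1)) (PF.smul_mem _ haP))
  have hσe : σ e = e := by rw [hσ, pol_comm e a, hae, pol_comm e b, hbe]; module
  have hσW : ∀ z, Perp Q W z → Perp Q W (σ z) := fun z hz w hw => by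
    rw [hσ, pol_sub_left hq, pol_add_left hq, pol_smul_left hq, pol_smul_left hq, hz w hw, haW w hw, hbW w hw]
    ring
  by_contra hcon
  push Not at hcon
  -- every discrepancy is trivial
  have hcommute : ∀ x, InP hE u f x → ∀ (hx hx' : GL ι F), hx ∈ M → hx' ∈ M → KLin K hx → KLin K hx' →
      IsRho hE hx u x → IsRho hE hx' u (β⁻¹ • σ (β • x)) → ∀ z, Perp Q W z → mv m (mv hx z) = mv hx' (mv m z) := by
    intro x hx h h' hhM hh'M hk hk' hρ hρ' z hz
    set v := β • x with hv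
    have hvP : InP hE u f v := hx.smul hE β
    have act1 : Act Q W h (sg hq e v) := hs.act_rho hE hM hh hPz hx hk hρ
    have act2 : Act Q W h' (sg hq e (σ v)) := by
      have := hs.act_rho hE hM hh hPz ((hσP v hvP).smul hE β⁻¹) hk' hρ'
      rwa [← hβ, smul_smul, mul_inv_cancel₀ hs.ne, one_smul] at this
    have hvW := (hP v hvP).1
    have hσvW : Perp Q W (σ v) := hσW v hvW
    have hkey : ∀ z, σ (sg hq e v z) = sg hq e (σ v) (σ z) := fun z => by
      rw [sg_apply, sg_apply, sub_eq_add_neg, ← neg_smul, hσadd, hσadd, hσe, hσiso,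
        show pol Q (σ z) e = pol Q z e by conv_lhs => rw [← hσe, hσiso],
        show Q (σ v) = Q v from mul_left_cancel₀ hE.two (by rw [← pol_self hq, ← pol_self hq, hσiso])]
      module
    have hboth := (act1 : Act Q W h (sg hq e v))
    have k1 := (actm.mul act1 fun z hz => hsgPerp _ _ _ heW hvW hz).2 z hz
    have k2 := (act2.mul actm fun z hz => hσW z hz).2 z hz
    have hd0 : mv (m * h) z - mv (h' * m) z ∈ W := by
      have := W.sub_mem k1 k2
      simp only at this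
      rwa [hkey, sub_sub_sub_cancel_right] at this
    set D := m * h * (h' * m)⁻¹ with hD
    have hfixhm : ∀ w ∈ W, mv (h' * m) w = w := (act2.mul actm fun z hz => hσW z hz).1
    have hfixmh : ∀ w ∈ W, mv (m * h) w = w := (actm.mul act1 fun z hz => hsgPerp _ _ _ heW hvW hz).1
    have hDW : ∀ w ∈ W, mv D w = w := fun w hw => by
      rw [hD, mv_mul, ← (mv_eq_iff (h' * m)).1 (hfixhm w hw), hfixmh w hw]
    have hisoM := M_iso hE hM (M.mul_mem hh'M hmM)
    have hpre : ∀ y, Perp Q W y → Perp Q W (mv (h' * m)⁻¹ y) := fun y hy w hw => by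
      rw [← pol_mv hq hisoM, mv_mv_inv, hfixhm w hw]; exact hy w hw
    have hDz : ∀ y, Perp Q W y → mv D y - y ∈ W := by
      intro y hy
      have hy' := hpre y hy
      have k1 := (actm.mul act1 fun z hz => hsgPerp _ _ _ heW hvW hz).2 _ hy'
      have k2 := (act2.mul actm fun z hz => hσW z hz).2 _ hy'
      have := W.sub_mem k1 k2
      simp only at this
      rw [hkey, sub_sub_sub_cancel_right, mv_mv_inv, ← mv_mul] at this
      exact this
    have hz1 := hcon D (M.mul_mem (M.mul_mem hmM hhM) (M.inv_mem (M.mul_mem hh'M hmM))) hDW hDz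
      (mv (h' * m) z) (fun w hw => by rw [← hfixhm w hw, pol_mv hq hisoM]; exact hz w hw)
    rw [hD, mv_mul (m * h), mv_inv_mv, mv_mul m h, mv_mul h' m] at hz1
    exact hz1
  have hkeyK : ∀ z x, InP hE u f z → σ z = z → InP hE u f x →
      mv m (B hE z x • u) = B hE z (β⁻¹ • σ (β • x)) • u := by
    intro z x hz hfixz hx
    obtain ⟨h, hhM, hk, hρ⟩ := exists_rho_mem hE hM (by omega) hs.sing (y := x) (by rw [B_comm]; exact hx.1)
    obtain ⟨h', hh'M, hk', hρ'⟩ := exists_rho_mem hE hM (by omega) hs.sing (y := β⁻¹ • σ (β • x))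
      (by rw [B_comm]; exact ((hσP _ (hx.smul hE β)).smul hE β⁻¹).1)
    have hzW := (hP z hz).1
    have := hcommute x hx h h' hhM hh'M hk hk' hρ hρ' z hzW
    have hw1 := actm.2 z hzW
    rw [hfixz] at hw1
    rw [show mv m z = z + (mv m z - z) by abel, mv_add h'] at this
    rw [hρ, hρ' z, hz.1] at this
    obtain ⟨t, ht⟩ := mem_line.1 hw1.1
    have hfw : mv h' (mv m z - z) = mv m z - z := by
      rw [← ht, hk', hρ']
      simp [hs.sing, B_comm hE u (σ _), (hσP _ (hx.smul hE β)).1]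
    rw [hfw] at this
    simp only [mul_zero, add_zero, zero_smul] at this
    rw [mv_sub] at this
    linear_combination (norm := module) -this
  set Z := X ⊓ orth hq (Submodule.span F {b}) with hZ
  have hle2 : Submodule.span F {b} ≤ X := (Submodule.span_singleton_le_iff_mem _ _).2 hb
  have hZn : Nondeg Q Z := nondeg_inf_orth hq (hline hbb) hXn hle2
  have hZd := finrank_inf_orth_add hq (hline hbb) hle2
  rw [finrank_span_singleton (fun h => hbb (by rw [h, Orth.q_zero hq])), ← hZ] at hZd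
  obtain ⟨z, hz, hzQ⟩ := Orth.exists_anisotropic hq hZn (fun h0 => by rw [h0, finrank_bot] at hZd; omega)
  have hzI := (hmemP z).1 hz.1.1
  have hfixz : σ z = z := by
    rw [hσ, pol_comm z a, (hXmem z hz.1).1, pol_comm z b, hz.2 b (Submodule.mem_span_singleton_self b)]
    module
  have hmline : ∀ l ∈ line K u, mv m l = l := by
    have h1 := hkeyK z (β⁻¹ • z) hzI hfixz (hzI.smul hE _)
    rw [smul_smul β, mul_inv_cancel₀ hs.ne, one_smul, hfixz] at h1
    set l₀ := B hE z (β⁻¹ • z) • u with hl₀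
    have hdec := hs.decL l₀ (mem_line.2 ⟨_, rfl⟩)
    have hne : pol Q l₀ z₀ ≠ 0 := by
      have hb0 : β ≠ 0 := hs.ne
      have e5 : B hE l₀ z₀ = B hE z z := by
        rw [hl₀, map_smul, map_smul, LinearMap.smul_apply, B_comm hE u z₀, ← hβ, smul_eq_mul, smul_eq_mul]
        field_simp
      rw [← ell_B_one hE, e5]
      rw [ell_B_one, pol_self hq]
      exact mul_ne_zero hE.two hzQ
    have he' : mv m e = e := by
      have h3 := actm.1 _ hdec
      rw [mv_sub, mv_smul, h1, sub_right_inj] at h3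
      exact smul_right_injective (ι → F) hne h3
    intro l hl
    have h3 := actm.1 _ (hs.decL l hl)
    rwa [mv_sub, mv_smul, he', sub_left_inj] at h3
  have hbdI := (hmemP bd).1 hbd.1
  have horthK : ∀ z, InP hE u f z → σ z = z → B hE z a = 0 := by
    intro z hz hfixz
    have h1 := hkeyK z (β⁻¹ • (-bd)) hz hfixz ((by constructor <;> simp [hbdI.1, hbdI.2] : InP hE u f (-bd)).smul hE _)
    rw [hmline _ (mem_line.2 ⟨_, rfl⟩), smul_smul β, mul_inv_cancel₀ hs.ne, one_smul] at h1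
    have h3 : σ (-bd) = -bd + a := by
      rw [hσ, pol_neg_left hq, pol_neg_left hq, pol_comm bd a, (hXmem bd hbd).1, pol_comm bd b, hbbd]; module
    have h4 := smul_left_injective K hu0 h1
    rw [h3] at h4
    simpa [(show β ≠ 0 from hs.ne)] using h4
  apply hnot
  have hcaI : InP hE u f (c • a) := haI.smul hE c
  have key : c • a - pol Q (c • a) a' • a - pol Q (c • a) bd • b = 0 := by
    refine hPn _ (PF.sub_mem (PF.sub_mem ((hmemP _).2 hcaI) (PF.smul_mem _ haP)) (PF.smul_mem _ hb.1)) fun y hy => ?_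
    have hba' : pol Q b a' = 0 := by rw [pol_comm]; exact (hXmem b hb).2
    set y' := y - pol Q y a • a' - pol Q y b • bd with hy'
    have hy'I : InP hE u f y' := (hmemP _).1 (PF.sub_mem (PF.sub_mem hy (PF.smul_mem _ ha'P)) (PF.smul_mem _ hbd.1))
    have ea : pol Q y' a = 0 := by
      simp [hy', pol_sub_left hq, pol_smul_left hq, pol_comm a' a, haa', pol_comm bd a, (hXmem bd hbd).1]
    have eb : pol Q y' b = 0 := by
      simp [hy', pol_sub_left hq, pol_smul_left hq, pol_comm a' b, hba', pol_comm bd b, hbbd]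
    have hfy : σ y' = y' := by rw [hσ, ea, eb]; module
    have h1 : pol Q y' (c • a) = 0 := by
      rw [← ell_B_one hE, map_smul, horthK y' hy'I hfy, smul_zero, map_zero]
    rw [show y = y' + pol Q y a • a' + pol Q y b • bd by rw [hy']; abel]
    simp only [pol_sub_right hq, pol_add_left hq, pol_smul_left hq, pol_smul_right hq, h1, ea, eb, pol_comm a' (c • a),
      pol_comm bd (c • a), pol_comm a' a, haa', pol_comm a' b, hba', pol_comm bd a, (hXmem bd hbd).1, pol_comm bd b, hbbd]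
    ring
  rw [sub_sub, sub_eq_zero] at key
  exact Submodule.mem_span_pair.2 ⟨_, _, key.symm⟩

end Cfsg.Agent.OrthFieldExt
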