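/-
Three dimensions over the field: the group fixing a singular line pointwise.
-/
import Cfsg.Agent.Lib.OrthFieldExt.Rank

set_option autoImplicit false
set_option linter.all false
set_option maxHeartbeats 1000000

namespace Cfsg.Agent.OrthFieldExt

open scoped Matrix
open Matrix Cfsg.Agent.Transvec Cfsg.Agent.Transvec.Orth

variable {ι : Type} [Fintype ι] [DecidableEq ι] {F : Type*} [Field F] {Q : (ι → F) → F}
variable {K : Type*} [Field K] [Algebra F K] [Module K (ι → F)] [IsScalarTower F K (ι → F)] [FiniteDimensional F K]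
variable {ℓ : Module.Dual F K} (hE : Ext Q ℓ)
include hE

/-- A frame in three dimensions: a hyperbolic pair and a vector orthogonal to it. -/
structure Fr (u f b : ι → F) : Prop where
  hyp : IsHyp hE u f
  perp : InP hE u f b
  ne : B hE b b ≠ 0
  dim : Module.finrank K (ι → F) = 3

theorem exists_fr [Finite F] (hd : Module.finrank K (ι → F) = 3) {u : ι → F} (hu0 : u ≠ 0) (hu : B hE u u = 0) :
    ∃ f b, Fr hE u f b := by
  obtain ⟨f, hff, huf⟩ := exists_partner hE hu0 hu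
  obtain ⟨b, hb, hbb⟩ := exists_perp_aniso hE (⟨hu, hff, huf⟩ : IsHyp hE u f) hd.ge
  exact ⟨f, b, ⟨hu, hff, huf⟩, hb, hbb, hd⟩

variable {u f b : ι → F} (hfr : Fr hE u f b)
include hfr

theorem Fr.rules : B hE u u = 0 ∧ B hE f f = 0 ∧ B hE u f = 1 ∧ B hE f u = 1 ∧ B hE b u = 0 ∧ B hE b f = 0 ∧
    B hE u b = 0 ∧ B hE f b = 0 :=
  ⟨hfr.hyp.1, hfr.hyp.2.1, hfr.hyp.2.2, by rw [B_comm]; exact hfr.hyp.2.2, hfr.perp.1, hfr.perp.2,
    by rw [B_comm]; exact hfr.perp.1, by rw [B_comm]; exact hfr.perp.2⟩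

theorem Fr.dec [Finite F] (z : ι → F) :
    z = B hE z f • u + B hE z u • f + (B hE z b / B hE b b) • b := by
  haveI : Module.Finite K (ι → F) := Module.Finite.of_restrictScalars_finite F K _
  obtain ⟨huu, hff, huf, hfu, hbu, hbf, hub, hfb⟩ := hfr.rules hE
  have hbb := hfr.ne
  let φ : (ι → F) →ₗ[K] Fin 3 → K := LinearMap.pi fun i => (B hE).flip (![u, f, b] i)
  have hsurj : Function.Surjective φ := by
    intro c
    refine ⟨c 0 • f + c 1 • u + (c 2 / B hE b b) • b, funext fun i => ?_⟩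
    fin_cases i <;> simp [φ, huu, hff, huf, hfu, hbu, hbf, hub, hfb, hbb]
  refine (LinearMap.injective_iff_surjective_of_finrank_eq_finrank
    (by rw [hfr.dim, Module.finrank_pi, Fintype.card_fin])).2 hsurj (funext fun i => ?_)
  fin_cases i <;> simp [φ, huu, hff, huf, hfu, hbu, hbf, hub, hfb, hbb]

/-- The vectors orthogonal to the centre. -/
theorem Fr.dec_perp [Finite F] {z : ι → F} (hz : B hE z u = 0) :
    z = B hE z f • u + (B hE z b / B hE b b) • b := by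
  conv_lhs => rw [hfr.dec hE z]
  rw [hz, zero_smul, add_zero]

/-! ### Maps fixing a singular line pointwise -/

omit hfr in
/-- The shape of a map fixing the line pointwise. -/
def UForm (A : GL ι F) (u b : ι → F) (θ φ Φ : K →ₗ[F] K) : Prop :=
  ∀ z, mv A z = z + (θ (B hE z u) + φ (B hE z b)) • u + Φ (B hE z u) • b

omit hfr in
/-- The middle parts. -/
def JJ (M : Subgroup (GL ι F)) (u b : ι → F) (Φ : K →ₗ[F] K) : Prop :=
  ∃ A ∈ M, ∃ θ φ : K →ₗ[F] K, UForm hE A u b θ φ Φ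

omit hfr in
/-- The corner parts. -/
def El (M : Subgroup (GL ι F)) (u : ι → F) (Θ : K →ₗ[F] K) : Prop :=
  ∃ A ∈ M, ∀ z, mv A z = z + Θ (B hE z u) • u

omit hfr in
theorem B_mv_fix {A : GL ι F} (hA : A ∈ isometryGroup F Q) {w : ι → F} (hw : ∀ c : K, mv A (c • w) = c • w)
    (z : ι → F) : B hE (mv A z) w = B hE z w := eq_of_ell hE fun c => by
  rw [ell_B, ell_B, hE.sa, hE.sa]
  conv_lhs => arg 3; rw [← hw c]
  exact pol_mv hE.quad hA z _

theorem Fr.uform_of [Finite F] {A : GL ι F} (hA : A ∈ isometryGroup F Q) (hfix : ∀ t : K, mv A (t • u) = t • u)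
    (hperp : ∀ z, B hE z u = 0 → mv A z - z ∈ line K u) : ∃ θ φ Φ : K →ₗ[F] K, UForm hE A u b θ φ Φ := by
  obtain ⟨huu, hff, huf, hfu, hbu, hbf, hub, hfb⟩ := hfr.rules hE
  let mk : (ι → F) → (ι → F) → K → K →ₗ[F] K := fun p q c =>
    { toFun := fun t => c * B hE (mv A (t • p) - t • p) q
      map_add' := fun t s => by rw [add_smul, mv_add, add_sub_add_comm, map_add, LinearMap.add_apply, mul_add]
      map_smul' := fun a t => by
        rw [smul_assoc, mv_smul, ← smul_sub, LinearMap.map_smul_of_tower, LinearMap.smul_apply, RingHom.id_apply,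
          mul_smul_comm] }
  refine ⟨mk f f 1, mk ((B hE b b)⁻¹ • b) f 1, mk f b (B hE b b)⁻¹, fun z => ?_⟩
  have hn : mv A z - z = mv A (B hE z u • f) - B hE z u • f +
      (mv A ((B hE z b / B hE b b) • b) - (B hE z b / B hE b b) • b) := by
    conv_lhs => rw [hfr.dec hE z]
    rw [mv_add, mv_add, hfix]
    abel
  have h1 := hfr.dec hE (mv A (B hE z u • f) - B hE z u • f)
  rw [map_sub, LinearMap.sub_apply, LinearMap.sub_apply, LinearMap.sub_apply, B_mv_fix hE hA hfix, sub_self,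
    zero_smul, add_zero] at h1
  obtain ⟨t, ht⟩ := mem_line.1 (hperp ((B hE z b / B hE b b) • b) (by simp [hbu]))
  have h3 : t = B hE (mv A ((B hE z b / B hE b b) • b) - (B hE z b / B hE b b) • b) f := by
    rw [← ht]; simp [huf]
  rw [← ht, h3, h1] at hn
  rw [eq_add_of_sub_eq hn]
  simp only [mk, LinearMap.coe_mk, AddHom.coe_mk, one_mul, smul_smul, map_sub, LinearMap.sub_apply, div_eq_mul_inv]
  module

theorem Fr.uform_adjoint {A : GL ι F} (hA : A ∈ isometryGroup F Q) {θ φ Φ : K →ₗ[F] K}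
    (h : UForm hE A u b θ φ Φ) (t s : K) :
    ℓ (t * φ s) = -ℓ (Φ t * s) ∧ ℓ (θ t * s + θ s * t + B hE b b * Φ t * Φ s) = 0 := by
  obtain ⟨huu, hff, huf, hfu, hbu, hbf, hub, hfb⟩ := hfr.rules hE
  constructor
  · have e := pol_mv hE.quad hA (t • f) ((s / B hE b b) • b)
    rw [← ell_B_one hE, ← ell_B_one hE, h, h] at e
    simp only [map_add, map_smul, LinearMap.add_apply, LinearMap.smul_apply, smul_eq_mul, huu, hff, huf, hfu, hbu,
      hbf, hub, hfb, mul_zero, zero_mul, mul_one, add_zero, zero_add, map_zero] at e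
    have hne := hfr.ne
    rw [eq_neg_iff_add_eq_zero, ← map_add, ← e, ← map_add]
    congr 1
    field_simp
    ring
  · have e := pol_mv hE.quad hA (t • f) (s • f)
    rw [← ell_B_one hE, ← ell_B_one hE, h, h] at e
    simp only [map_add, map_smul, LinearMap.add_apply, LinearMap.smul_apply, smul_eq_mul, huu, hff, huf, hfu, hbu,
      hbf, hub, hfb, mul_zero, mul_one, add_zero, zero_add, map_zero] at e
    rw [← e, ← map_add, ← map_add]
    congr 1
    ring

theorem Fr.uform_mul {A A' : GL ι F} {θ φ Φ θ' φ' Φ' : K →ₗ[F] K} (h : UForm hE A u b θ φ Φ)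
    (h' : UForm hE A' u b θ' φ' Φ') :
    UForm hE (A * A') u b (θ + θ' + φ.comp ((LinearMap.mulLeft F (B hE b b)).comp Φ')) (φ + φ') (Φ + Φ') := by
  obtain ⟨huu, hff, huf, hfu, hbu, hbf, hub, hfb⟩ := hfr.rules hE
  intro z
  rw [mv_mul, h', h]
  simp only [map_add, map_smul, LinearMap.add_apply, LinearMap.smul_apply, smul_eq_mul, huu, hbu, hub, mul_zero,
    add_zero, LinearMap.comp_apply, LinearMap.mulLeft_apply, mul_comm (Φ' _) (B hE b b)]
  module

theorem Fr.uform_inv {A : GL ι F} {θ φ Φ : K →ₗ[F] K} (h : UForm hE A u b θ φ Φ) :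
    UForm hE A⁻¹ u b (-θ + φ.comp ((LinearMap.mulLeft F (B hE b b)).comp Φ)) (-φ) (-Φ) := by
  obtain ⟨huu, hff, huf, hfu, hbu, hbf, hub, hfb⟩ := hfr.rules hE
  intro z
  refine mv_inj A ?_
  rw [mv_mv_inv, h]
  simp only [map_add, map_smul, map_neg, LinearMap.add_apply, LinearMap.smul_apply, LinearMap.neg_apply, smul_eq_mul,
    huu, hbu, hub, mul_zero, add_zero, neg_zero, LinearMap.comp_apply, LinearMap.mulLeft_apply,
    mul_comm (Φ _) (B hE b b), neg_mul, mul_neg]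
  module

theorem Fr.uform_phi_zero {A : GL ι F} (hA : A ∈ isometryGroup F Q) {θ φ : K →ₗ[F] K}
    (h : UForm hE A u b θ φ 0) : φ = 0 := LinearMap.ext fun s => eq_of_ell hE fun t => by
  rw [(hfr.uform_adjoint hE hA h t s).1]
  simp

variable {M : Subgroup (GL ι F)} (hM : Over Q K M)
include hM

theorem Fr.el_of_uform {A : GL ι F} (hA : A ∈ M) {θ φ : K →ₗ[F] K} (h : UForm hE A u b θ φ 0) : El hE M u θ := by
  refine ⟨A, hA, fun z => ?_⟩
  rw [h, hfr.uform_phi_zero hE (M_iso hE hM hA) h]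
  simp

theorem Fr.el_uform {Θ : K →ₗ[F] K} (h : El hE M u Θ) : ∃ A ∈ M, UForm hE A u b Θ 0 0 := by
  obtain ⟨A, hA, hz⟩ := h
  exact ⟨A, hA, fun z => by rw [hz]; simp⟩

theorem Fr.el_add {Θ Θ' : K →ₗ[F] K} (h : El hE M u Θ) (h' : El hE M u Θ') : El hE M u (Θ + Θ') := by
  obtain ⟨A, hA, hz⟩ := hfr.el_uform hE hM h
  obtain ⟨A', hA', hz'⟩ := hfr.el_uform hE hM h'
  exact hfr.el_of_uform hE hM (M.mul_mem hA hA') (by simpa using hfr.uform_mul hE hz hz')

theorem Fr.el_neg {Θ : K →ₗ[F] K} (h : El hE M u Θ) : El hE M u (-Θ) := by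
  obtain ⟨A, hA, hz⟩ := hfr.el_uform hE hM h
  exact hfr.el_of_uform hE hM (M.inv_mem hA) (by simpa using hfr.uform_inv hE hz)

theorem Fr.el_skew {Θ : K →ₗ[F] K} (h : El hE M u Θ) (t s : K) : ℓ (Θ t * s) = -ℓ (Θ s * t) := by
  obtain ⟨A, hA, hz⟩ := hfr.el_uform hE hM h
  rw [eq_neg_iff_add_eq_zero, ← map_add]
  simpa using (hfr.uform_adjoint hE (M_iso hE hM hA) hz t s).2

theorem Fr.el_singular (hr : Odd (Module.finrank F K)) {Θ : K →ₗ[F] K} (h : El hE M u Θ) :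
    ∃ t : K, t ≠ 0 ∧ Θ t = 0 := by
  classical
  set bs := Module.finBasis F K
  set N : Matrix (Fin (Module.finrank F K)) (Fin (Module.finrank F K)) F :=
    Matrix.of fun i j => ℓ (Θ (bs i) * bs j) with hN
  have hT : N.transpose = -N := by
    ext i j
    simp [hN, hfr.el_skew hE hM h (bs j) (bs i)]
  have hdet : N.det = 0 := by
    have e := N.det_transpose
    rw [hT, Matrix.det_neg, Fintype.card_fin, hr.neg_one_pow, neg_one_mul] at e
    exact (mul_eq_zero.1 (show 2 * N.det = 0 by linear_combination -e)).resolve_left hE.two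
  obtain ⟨v, hv0, hv⟩ := Matrix.exists_vecMul_eq_zero_iff.2 hdet
  refine ⟨∑ i, v i • bs i, fun h0 => hv0 (funext fun i => ?_), eq_of_ell hE fun a => ?_⟩
  · exact Fintype.linearIndependent_iff.1 bs.linearIndependent v h0 i
  have key : ∀ j, ℓ (Θ (∑ i, v i • bs i) * bs j) = 0 := fun j => by
    have := congrFun hv j
    simpa [Matrix.vecMul, dotProduct, hN, Finset.sum_mul, smul_mul_assoc] using this
  rw [mul_zero, map_zero, mul_comm, ← bs.sum_repr a, Finset.mul_sum, map_sum]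
  exact Finset.sum_eq_zero fun j _ => by rw [mul_smul_comm, map_smul, key, smul_zero]

theorem Fr.jj_add {Φ Φ' : K →ₗ[F] K} (h : JJ hE M u b Φ) (h' : JJ hE M u b Φ') : JJ hE M u b (Φ + Φ') := by
  obtain ⟨A, hA, θ, φ, hz⟩ := h
  obtain ⟨A', hA', θ', φ', hz'⟩ := h'
  exact ⟨A * A', M.mul_mem hA hA', _, _, hfr.uform_mul hE hz hz'⟩

theorem Fr.jj_neg {Φ : K →ₗ[F] K} (h : JJ hE M u b Φ) : JJ hE M u b (-Φ) := by
  obtain ⟨A, hA, θ, φ, hz⟩ := h
  exact ⟨A⁻¹, M.inv_mem hA, _, _, hfr.uform_inv hE hz⟩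

/-- The commutator of two of these maps lies in the corner. -/
theorem Fr.comm_el {A A' : GL ι F} (hA : A ∈ M) (hA' : A' ∈ M) {θ φ Φ θ' φ' Φ' : K →ₗ[F] K}
    (h : UForm hE A u b θ φ Φ) (h' : UForm hE A' u b θ' φ' Φ') :
    El hE M u (φ.comp ((LinearMap.mulLeft F (B hE b b)).comp Φ') -
      φ'.comp ((LinearMap.mulLeft F (B hE b b)).comp Φ)) := by
  have h3 := hfr.uform_mul hE (hfr.uform_mul hE h h') (hfr.uform_inv hE (hfr.uform_mul hE h' h))
  rw [show Φ + Φ' + -(Φ' + Φ) = 0 by abel] at h3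
  have h4 := hfr.el_of_uform hE hM (M.mul_mem (M.mul_mem hA hA') (M.inv_mem (M.mul_mem hA' hA))) h3
  convert h4 using 1
  ext t
  simp only [LinearMap.add_apply, LinearMap.sub_apply, LinearMap.neg_apply, LinearMap.comp_apply,
    LinearMap.mulLeft_apply, map_add, map_neg, mul_add, mul_neg]
  abel

variable [Finite F]

/-- The unipotent elements linear over the field. -/
theorem Fr.exists_rho (ν : K) : ∃ A ∈ M, KLin K A ∧ IsRho hE A u (ν • b) ∧
    UForm hE A u b (LinearMap.mulLeft F (-(ν * ν * B hE b b / 2))) (LinearMap.mulLeft F (-ν)) (LinearMap.mulLeft F ν) := by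
  obtain ⟨A, hA, hk, hz⟩ := exists_rho_mem hE hM hfr.dim.ge hfr.hyp.1 (y := ν • b)
    (by simp [(hfr.rules hE).2.2.2.2.2.2.1])
  refine ⟨A, hA, hk, hz, fun z => ?_⟩
  rw [hz]
  simp only [map_smul, LinearMap.smul_apply, smul_eq_mul, LinearMap.mulLeft_apply]
  module

/-- Exchanging the two singular lines of the frame. -/
theorem Fr.exists_swap : ∃ h ∈ M, KLin K h ∧ mv h u = (-B hE b b / 2) • f ∧ mv h f = (-B hE b b / 2)⁻¹ • u ∧
    mv h b = -b := by
  obtain ⟨huu, hff, huf, hfu, hbu, hbf, hub, hfb⟩ := hfr.rules hE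
  have h2 := two' hE
  have hc := hfr.ne
  set c := -B hE b b / 2 with hcd
  have haa : B hE (u - c • f) (u - c • f) = B hE b b := by
    simp [huu, hff, huf, hfu, hcd]; field_simp; ring
  obtain ⟨h, hh, hk, -, hz⟩ := exists_double hE hM (a := u - c • f) (b := b) haa (by rw [haa]; exact hc)
    (by simp [hub, hfb])
  refine ⟨h, hh, hk, ?_, ?_, ?_⟩ <;> rw [hz, haa] <;>
    simp only [map_sub, map_smul, smul_eq_mul, huu, hff, huf, hfu, hbu, hbf, hub, hfb, hcd] <;>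
    match_scalars <;> field_simp <;> ring

/-- The torus. -/
theorem Fr.exists_torus {ζ : K} (hζ : ζ ≠ 0) : ∃ τ ∈ M, KLin K τ ∧ mv τ u = (ζ * ζ) • u ∧ mv τ b = b ∧
    mv τ f = (ζ * ζ)⁻¹ • f := by
  obtain ⟨huu, hff, huf, hfu, hbu, hbf, hub, hfb⟩ := hfr.rules hE
  have h2 := two' hE
  have h1 : B hE (u - f) (u - f) = -2 := by simp [huu, hff, huf, hfu]; ring
  have h3 : B hE (u - ζ • f) (u - ζ • f) = -2 * ζ := by simp [huu, hff, huf, hfu]; ring
  obtain ⟨r, hr, hrk, hri, hrz⟩ := exists_refK hE (c := u - f) (by rw [h1]; exact neg_ne_zero.2 h2)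
  obtain ⟨s, hs, hsk, hsi, hsz⟩ := exists_refK hE (c := u - ζ • f) (by rw [h3]; exact mul_ne_zero (neg_ne_zero.2 h2) hζ)
  have hsu : mv s u = ζ • f := by
    rw [hsz, h3]; simp only [map_sub, map_smul, smul_eq_mul, huu, huf]; match_scalars <;> field_simp <;> ring
  have hsf : mv s f = ζ⁻¹ • u := by
    rw [hsz, h3]; simp only [map_sub, map_smul, smul_eq_mul, hff, hfu]; match_scalars <;> field_simp <;> ring
  have hru : mv r u = f := by
    rw [hrz, h1]; simp only [map_sub, smul_eq_mul, huu, huf]; match_scalars <;> field_simp <;> ring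
  have hrf : mv r f = u := by
    rw [hrz, h1]; simp only [map_sub, smul_eq_mul, hff, hfu]; match_scalars <;> field_simp <;> ring
  have hsb : mv s b = b := by rw [hsz]; simp [hbu, hbf]
  have hrb : mv r b = b := by rw [hrz]; simp [hbu, hbf]
  refine ⟨r * s * r⁻¹ * s⁻¹, comm_mem hM hr hs hrk hsk, ((hrk.mul hsk).mul hrk.inv).mul hsk.inv, ?_, ?_, ?_⟩ <;>
    rw [hri, hsi, mv_mul, mv_mul, mv_mul]
  · rw [hsu, hrk, hrf, hsk, hsu, smul_smul, hrk, hrf]
  · rw [hsb, hrb, hsb, hrb]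
  · rw [hsf, hrk, hru, hsk, hsf, smul_smul, hrk, hru, mul_inv]

theorem Fr.conj_torus {A : GL ι F} (hA : A ∈ M) {θ φ Φ : K →ₗ[F] K} (h : UForm hE A u b θ φ Φ) {ζ : K} (hζ : ζ ≠ 0) :
    ∃ A' ∈ M, UForm hE A' u b ((LinearMap.mulLeft F (ζ * ζ)).comp (θ.comp (LinearMap.mulLeft F (ζ * ζ))))
      ((LinearMap.mulLeft F (ζ * ζ)).comp φ) (Φ.comp (LinearMap.mulLeft F (ζ * ζ))) := by
  obtain ⟨τ, hτ, hk, hτu, hτb, -⟩ := hfr.exists_torus hE hM hζ
  refine ⟨τ * A * τ⁻¹, M.mul_mem (M.mul_mem hτ hA) (M.inv_mem hτ), fun z => ?_⟩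
  have hiso := M_iso hE hM hτ
  have e1 : B hE (mv τ⁻¹ z) u = ζ * ζ * B hE z u := by
    rw [← B_mv hE hk hiso, mv_mv_inv, hτu, map_smul, smul_eq_mul]
  have e2 : B hE (mv τ⁻¹ z) b = B hE z b := by rw [← B_mv hE hk hiso, mv_mv_inv, hτb]
  rw [mv_mul, mv_mul, h, mv_add, mv_add, hk, hk, mv_mv_inv, hτu, hτb, e1, e2]
  simp only [LinearMap.comp_apply, LinearMap.mulLeft_apply, smul_smul, mul_add, add_mul]
  module

theorem Fr.jj_mul {Φ : K →ₗ[F] K} (h : JJ hE M u b Φ) (c : K) : JJ hE M u b (Φ.comp (LinearMap.mulLeft F c)) := by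
  have hsq : ∀ ζ : K, JJ hE M u b (Φ.comp (LinearMap.mulLeft F (ζ * ζ))) := by
    intro ζ
    rcases eq_or_ne ζ 0 with rfl | hζ
    · refine ⟨1, M.one_mem, 0, 0, fun z => ?_⟩
      simp [mv_one]
    obtain ⟨A, hA, θ, φ, hz⟩ := h
    obtain ⟨A', hA', hz'⟩ := hfr.conj_torus hE hM hA hz hζ
    exact ⟨A', hA', _, _, hz'⟩
  have h2 := two' hE
  have := hfr.jj_add hE hM (hsq (c / 4 + 1)) (hfr.jj_neg hE hM (hsq (c / 4 - 1)))
  convert this using 1
  ext t
  simp only [LinearMap.add_apply, LinearMap.neg_apply, LinearMap.comp_apply, LinearMap.mulLeft_apply, ← map_neg,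
    ← map_add]
  congr 1
  have h4 : (4 : K) ≠ 0 := by rw [show (4 : K) = 2 * 2 by norm_num]; exact mul_ne_zero h2 h2
  field_simp
  ring

theorem Fr.el_torus {Θ : K →ₗ[F] K} (h : El hE M u Θ) {ζ : K} (hζ : ζ ≠ 0) :
    El hE M u ((LinearMap.mulLeft F (ζ * ζ)).comp (Θ.comp (LinearMap.mulLeft F (ζ * ζ)))) := by
  obtain ⟨A, hA, hz⟩ := hfr.el_uform hE hM h
  obtain ⟨A', hA', hz'⟩ := hfr.conj_torus hE hM hA hz hζ
  exact hfr.el_of_uform hE hM hA' (by simpa using hz')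

end Cfsg.Agent.OrthFieldExt
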