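/-
Three dimensions over the field: an element stabilising a singular line without being linear on it gives everything.
-/
import Cfsg.Agent.Lib.OrthFieldExt.ThreeBase
import Cfsg.Agent.Lib.OrthFieldExt.Slot

set_option autoImplicit false
set_option linter.all false
set_option maxHeartbeats 1000000

namespace Cfsg.Agent.OrthFieldExt

open scoped Matrix
open Matrix Cfsg.Agent.Transvec Cfsg.Agent.Transvec.Orth

variable {ι : Type} [Fintype ι] [DecidableEq ι] {F : Type*} [Field F] {Q : (ι → F) → F}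
variable {K : Type*} [Field K] [Algebra F K] [Module K (ι → F)] [IsScalarTower F K (ι → F)] [FiniteDimensional F K]
variable {ℓ : Module.Dual F K} (hE : Ext Q ℓ)
include hE
variable {u f b : ι → F} (hfr : Fr hE u f b) {M : Subgroup (GL ι F)} (hM : Over Q K M) [Finite F]
include hfr hM

theorem Fr.eq_omega_of_full (hn : 7 ≤ Fintype.card ι)
    (hfull : ∀ (y : ι → F) (k : K), B hE y u = 0 → ∃ g ∈ M, IsSiegel Q g (k • u) y) : M = Geo.omegaGL Q := by
  obtain ⟨huu, hff, huf, hfu, hbu, hbf, hub, hfb⟩ := hfr.rules hE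
  have h2 := two' hE
  obtain ⟨h, hh, hk, hu', hf', -⟩ := hfr.exists_swap hE hM
  set c₁ := -B hE b b / 2 with hc₁
  have hc₁0 : c₁ ≠ 0 := div_ne_zero (neg_ne_zero.2 hfr.ne) h2
  have hiso := M_iso hE hM hh
  obtain ⟨s, hs⟩ := exists_ell_sq_ne hE hfr.ne
  have hpy : pol Q (s • b) (s • b) ≠ 0 := by
    rw [← ell_B_one hE]
    simpa [mul_assoc] using hs
  have key : ∀ k : K, k • u ∈ qFull Q M := by
    intro k
    have hQk : Q (k • u) = 0 := q_zero_of hE (by simp [huu])
    set U := shifts hE M hQk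
    have hperp : ∀ z, B hE z u = 0 → z ∈ U := fun z hz =>
      ⟨by rw [← ell_B_one hE]; simp [B_comm hE u z, hz], hfull z k hz⟩
    have hcf : ∀ c : K, ℓ (k * c) = 0 → c • f ∈ U := by
      intro c₀ hc₀
      set c := (-pol Q (s • b) (s • b))⁻¹ • c₀ with hcd
      have hc : ℓ (k * c) = 0 := by rw [hcd, mul_smul_comm, map_smul, hc₀, smul_zero]
      have hpre : B hE (mv h⁻¹ (s • b)) u = 0 := by
        rw [← B_mv hE hk hiso, mv_mv_inv, hu']
        simp [hbf]
      obtain ⟨g, hg, hgs⟩ := hfull _ (c / c₁) hpre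
      have hgs' := isSiegel_conj hE.quad hiso hgs
      rw [mv_mv_inv, hk, hu', smul_smul, div_mul_cancel₀ _ hc₁0] at hgs'
      have hfix : mv (h * g * h⁻¹) (k • u) = k • u := isSiegel_fix hE.quad hgs'
        (by rw [← ell_B_one hE]; simp [huf, mul_comm c k, hc]) (by rw [← ell_B_one hE]; simp [hub])
      have hy := hperp (s • b) (by simp [hbu])
      have := U.sub_mem (shifts_mv hE hM hQk (M.mul_mem (M.mul_mem hh hg) (M.inv_mem hh)) hfix hy) hy
      convert this using 1
      rw [hgs', show pol Q (s • b) (c • f) = 0 by rw [← ell_B_one hE]; simp [hbf]]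
      rw [hcd, smul_assoc]
      simp [smul_smul, inv_neg, mul_inv_cancel₀ hpy]
    refine ⟨hQk, fun z hz => ?_⟩
    have hz' : ℓ (k * B hE z u) = 0 := by
      rw [← ell_B_one hE] at hz
      simpa [B_comm hE u z] using hz
    have := U.add_mem (hperp (z - B hE z u • f) (by simp [hfu])) (hcf _ hz')
    rw [sub_add_cancel] at this
    exact this.2
  obtain ⟨c, hc⟩ := exists_ell hE (1 : F)
  have hu1 : u ∈ qFull Q M := by simpa using key 1
  have hcf : mv h ((c / c₁) • u) = c • f := by rw [hk, hu', smul_smul, div_mul_cancel₀ _ hc₁0]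
  exact eq_omega_of_pair hE.quad hn hM.le hu1
    (hcf ▸ qFull_mv hE.quad (hM.le.trans (omega_le_isometry hE.quad)) hh (key _))
    (by rw [← ell_B_one hE]; simp [huf, hc])

theorem Fr.el_of_skew (hall : ∀ Φ : K →ₗ[F] K, JJ hE M u b Φ) {Θ : K →ₗ[F] K}
    (hΘ : ∀ t s, ℓ (Θ t * s) = -ℓ (Θ s * t)) : El hE M u Θ := by
  obtain ⟨A, hA, θ, φ, hz⟩ := hall ((2 : F)⁻¹ • (LinearMap.mulLeft F (B hE b b)⁻¹).comp Θ)
  obtain ⟨R, hR, -, -, hRz⟩ := hfr.exists_rho hE hM 1
  convert hfr.comm_el hE hM hA hR hz hRz using 1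
  ext t
  have hc := hfr.ne
  have e : φ (B hE b b * t) = (2 : F)⁻¹ • Θ t := eq_of_ell hE fun a => by
    rw [(hfr.uform_adjoint hE (M_iso hE hM hA) hz a (B hE b b * t)).1]
    simp only [LinearMap.smul_apply, LinearMap.comp_apply, LinearMap.mulLeft_apply, smul_mul_assoc, mul_smul_comm,
      map_smul, smul_eq_mul]
    rw [show (B hE b b)⁻¹ * Θ a * (B hE b b * t) = Θ a * t by field_simp, hΘ a t, mul_comm (Θ t) a]
    ring
  simp only [LinearMap.sub_apply, LinearMap.comp_apply, LinearMap.mulLeft_apply, LinearMap.smul_apply, one_mul, e,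
    mul_smul_comm]
  rw [show B hE b b * ((B hE b b)⁻¹ * Θ t) = Θ t by field_simp]
  simp only [neg_one_mul, smul_neg, sub_neg_eq_add]
  rw [← add_smul, ← two_mul, mul_inv_cancel₀ hE.two, one_smul]

theorem Fr.eq_omega_of_jj (hn : 7 ≤ Fintype.card ι) (hall : ∀ Φ : K →ₗ[F] K, JJ hE M u b Φ) :
    M = Geo.omegaGL Q := by
  obtain ⟨huu, hff, huf, hfu, hbu, hbf, hub, hfb⟩ := hfr.rules hE
  refine hfr.eq_omega_of_full hE hM hn fun y k hy => ?_
  have hQk : Q (k • u) = 0 := q_zero_of hE (by simp [huu])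
  obtain ⟨g, hg, hgs⟩ := exists_siegel hE.quad hQk (y := y) (by rw [← ell_B_one hE]; simp [B_comm hE u y, hy])
  refine ⟨g, ?_, hgs⟩
  have hfix : ∀ t : K, mv g (t • u) = t • u := fun t => isSiegel_fix hE.quad hgs
    (by rw [← ell_B_one hE]; simp [huu]) (by rw [← ell_B_one hE]; simp [B_comm hE u y, hy])
  obtain ⟨θ, φ, Φ, hgz⟩ := hfr.uform_of hE hg hfix fun z hz => by
    have h0 : pol Q z (k • u) = 0 := by rw [← ell_B_one hE]; simp [hz]
    rw [hgs, h0, mul_zero, add_zero, zero_smul, add_zero, sub_sub_cancel_left]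
    exact Submodule.neg_mem _ (Submodule.smul_mem _ _ (mem_line.2 ⟨k, rfl⟩))
  obtain ⟨A, hA, θ', φ', hAz⟩ := hall Φ
  have hWiso : g * A⁻¹ ∈ isometryGroup F Q := Subgroup.mul_mem _ hg (Subgroup.inv_mem _ (M_iso hE hM hA))
  have hW := hfr.uform_mul hE hgz (hfr.uform_inv hE hAz)
  rw [add_neg_cancel] at hW
  have hφ := hfr.uform_phi_zero hE hWiso hW
  rw [hφ] at hW
  obtain ⟨θ'', hW⟩ : ∃ θ'', UForm hE (g * A⁻¹) u b θ'' 0 0 := ⟨_, hW⟩
  obtain ⟨Y, hY, hYz⟩ := hfr.el_uform hE hM (hfr.el_of_skew hE hM hall fun t s => by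
    rw [eq_neg_iff_add_eq_zero, ← map_add]
    simpa using (hfr.uform_adjoint hE hWiso hW t s).2)
  have hWY : g * A⁻¹ = Y := ext_mv fun z => by rw [hW z, hYz z]
  rw [show g = Y * A by rw [← hWY, inv_mul_cancel_right]]
  exact M.mul_mem hY hA

/-- An element stabilising the line, trivial modulo it on its perpendicular, fixing some vector of it but not all. -/
theorem Fr.eq_omega_of_fin (hn : 7 ≤ Fintype.card ι) (hr : (Module.finrank F K).Prime) {A : GL ι F} (hA : A ∈ M)
    (hL : ∀ t : K, mv A (t • u) ∈ line K u) (hperp : ∀ z, B hE z u = 0 → mv A z - z ∈ line K u) {t₀ : K}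
    (ht₀ : t₀ ≠ 0) (hfix : mv A (t₀ • u) = t₀ • u) (hmove : ∃ t : K, mv A (t • u) ≠ t • u) :
    M = Geo.omegaGL Q := by
  obtain ⟨huu, hff, huf, hfu, hbu, hbf, hub, hfb⟩ := hfr.rules hE
  have hu0 := hfr.hyp.ne_left hE
  have hiso := M_iso hE hM hA
  -- the restriction to the line and its transpose
  let α : K →ₗ[F] K :=
    { toFun := fun t => B hE (mv A (t • u)) f
      map_add' := fun t s => by rw [add_smul, mv_add, map_add, LinearMap.add_apply]
      map_smul' := fun a t => by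
        rw [smul_assoc, mv_smul, LinearMap.map_smul_of_tower, LinearMap.smul_apply, RingHom.id_apply] }
  have hα : ∀ t : K, mv A (t • u) = α t • u := fun t => by
    obtain ⟨a, ha⟩ := mem_line.1 (hL t)
    show mv A (t • u) = B hE (mv A (t • u)) f • u
    rw [← ha]; simp [huf]
  let τ' : K →ₗ[F] K :=
    { toFun := fun t => B hE (mv A⁻¹ (t • f)) u
      map_add' := fun t s => by rw [add_smul, mv_add, map_add, LinearMap.add_apply]
      map_smul' := fun a t => by
        rw [smul_assoc, mv_smul, LinearMap.map_smul_of_tower, LinearMap.smul_apply, RingHom.id_apply] }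
  have hτ : ∀ s t, ℓ (τ' t * s) = ℓ (t * α s) := fun s t => by
    have e : pol Q (mv A⁻¹ (t • f)) (s • u) = pol Q (t • f) (α s • u) := by
      rw [← pol_mv hE.quad hiso, mv_mv_inv, hα]
    rw [← ell_B_one hE, ← ell_B_one hE] at e
    simp [hfu] at e
    show ℓ (B hE (mv A⁻¹ (t • f)) u * s) = _
    rw [mul_comm _ s, e, mul_comm]
  have hτne : ∀ c : K, τ' ≠ LinearMap.mulLeft F c := by
    intro c hc
    obtain ⟨t, ht⟩ := hmove
    have hall : ∀ s, α s = c * s := fun s => eq_of_ell hE fun a => by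
      rw [← hτ, hc, LinearMap.mulLeft_apply, mul_comm c a, mul_assoc]
    have hc1 : c = 1 := by
      have e := hα t₀
      rw [hfix, hall] at e
      exact mul_right_cancel₀ ht₀ (by rw [one_mul]; exact (smul_left_injective K hu0 e).symm)
    exact ht (by rw [hα, hall, hc1, one_mul])
  -- the inverse on the line
  have hinjα : Function.Injective α := fun s t hst => smul_left_injective K hu0 (mv_inj A (by
    show mv A (s • u) = mv A (t • u); rw [hα, hα, hst]))
  have hsurjα := LinearMap.injective_iff_surjective.1 hinjα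
  have hLinv : ∀ t : K, mv A⁻¹ (t • u) ∈ line K u := fun t => by
    obtain ⟨s, hs⟩ := hsurjα t
    rw [← hs, ← hα, mv_inv_mv]
    exact mem_line.2 ⟨s, rfl⟩
  have hperp' : ∀ z, B hE z u = 0 → B hE (mv A⁻¹ z) u = 0 := fun z hz => eq_of_ell hE fun a => by
    rw [mul_zero, map_zero, ell_B, hE.sa, ← pol_mv hE.quad hiso, mv_mv_inv, hα, ← ell_B_one hE]
    simp [hz]
  let S : Subring (Module.End F K) :=
    { carrier := {Y | ∀ Φ, JJ hE M u b Φ → JJ hE M u b (Φ.comp Y)}
      one_mem' := fun Φ h => h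
      mul_mem' := fun {p q} hp hq Φ h => hq _ (hp Φ h)
      zero_mem' := fun Φ _ => by
        rw [LinearMap.comp_zero]
        exact ⟨1, M.one_mem, 0, 0, fun z => by simp [mv_one]⟩
      add_mem' := fun {p q} hp hq Φ h => by rw [LinearMap.comp_add]; exact hfr.jj_add hE hM (hp Φ h) (hq Φ h)
      neg_mem' := fun {p} hp Φ h => by rw [LinearMap.comp_neg]; exact hfr.jj_neg hE hM (hp Φ h) }
  have hS : τ' ∈ S := by
    rintro Φ ⟨X, hX, θ, φ, hXz⟩
    have hC : A * X * A⁻¹ ∈ M := M.mul_mem (M.mul_mem hA hX) (M.inv_mem hA)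
    have hCfix : ∀ t : K, mv (A * X * A⁻¹) (t • u) = t • u := fun t => by
      obtain ⟨s, hs⟩ := mem_line.1 (hLinv t)
      rw [mv_mul, mv_mul, ← hs, hXz]
      simp only [map_smul, LinearMap.smul_apply, smul_eq_mul, huu, hub, mul_zero, map_zero, add_zero, zero_smul]
      rw [hs, mv_mv_inv]
    obtain ⟨θ', φ', Φ', hC'⟩ := hfr.uform_of hE (M_iso hE hM hC) hCfix fun z hz => by
      have hw := hperp' z hz
      rw [mv_mul, mv_mul, hXz, hw, map_zero, map_zero, zero_add, zero_smul, add_zero, mv_add, mv_mv_inv,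
        add_sub_cancel_left]
      exact hL _
    refine ⟨A * X * A⁻¹, hC, θ', φ', ?_⟩
    convert hC' using 1
    ext t
    have e := congrArg (fun v => B hE v b) (hC' (t • f))
    rw [mv_mul, mv_mul, hXz, mv_add, mv_add, mv_mv_inv, hα] at e
    obtain ⟨a, ha⟩ := mem_line.1 (hperp (Φ (τ' t) • b) (by simp [hbu]))
    rw [show B hE (mv A⁻¹ (t • f)) u = τ' t from rfl, eq_add_of_sub_eq ha.symm] at e
    simp only [map_add, map_smul, LinearMap.add_apply, LinearMap.smul_apply, smul_eq_mul, hub, hfb, hfu, mul_zero,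
      mul_one, zero_add, add_zero] at e
    rw [LinearMap.comp_apply]
    exact mul_right_cancel₀ hfr.ne e
  refine hfr.eq_omega_of_jj hE hM hn fun L => ?_
  obtain ⟨R, hR, -, -, hRz⟩ := hfr.exists_rho hE hM 1
  have := dense hr hτne S (fun c Φ h => hfr.jj_mul hE hM h c) hS L _ ⟨R, hR, _, _, hRz⟩
  rwa [show (LinearMap.mulLeft F (1 : K)).comp L = L by ext t; simp] at this

end Cfsg.Agent.OrthFieldExt
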