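/-
Small facts on subspaces, field automorphisms and orbits used in three dimensions over the field.
-/
import Cfsg.Agent.Lib.OrthFieldExt.Rank

set_option autoImplicit false
set_option linter.all false
set_option maxHeartbeats 1000000

namespace Cfsg.Agent.OrthFieldExt

open scoped Matrix
open Matrix Cfsg.Agent.Transvec Cfsg.Agent.Transvec.Orth

variable {ι : Type} [Fintype ι] [DecidableEq ι] {F : Type*} [Field F] {Q : (ι → F) → F}
variable {K : Type*} [Field K] [Algebra F K] [Module K (ι → F)] [IsScalarTower F K (ι → F)] [FiniteDimensional F K]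

theorem mvLin_eq (g : GL ι F) (x : ι → F) : mvLin g x = mv g x := Matrix.toLin'_apply _ _

theorem mvLin_inj (g : GL ι F) : Function.Injective (mvLin g) := fun x y h => mv_inj g (by
  rwa [mvLin_eq, mvLin_eq] at h)

theorem map_mv_mul (g h : GL ι F) (S : Submodule F (ι → F)) :
    S.map (mvLin (g * h)) = (S.map (mvLin h)).map (mvLin g) := by
  rw [← Submodule.map_comp]
  congr 1
  exact LinearMap.ext fun x => by rw [LinearMap.comp_apply, mvLin_eq, mvLin_eq, mvLin_eq, mv_mul]

theorem map_mv_one (S : Submodule F (ι → F)) : S.map (mvLin (1 : GL ι F)) = S := by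
  rw [show mvLin (1 : GL ι F) = LinearMap.id from LinearMap.ext fun x => by
    rw [LinearMap.id_apply, mvLin_eq, mv_one], Submodule.map_id]

theorem mem_map_mv {g : GL ι F} {S : Submodule F (ι → F)} {x : ι → F} :
    x ∈ S.map (mvLin g) ↔ mv g⁻¹ x ∈ S := by
  constructor
  · rintro ⟨y, hy, rfl⟩
    rwa [mvLin_eq, mv_inv_mv]
  · exact fun h => ⟨mv g⁻¹ x, h, by rw [mvLin_eq, mv_mv_inv]⟩

theorem mv_mem_map (g : GL ι F) {S : Submodule F (ι → F)} {x : ι → F} (h : x ∈ S) : mv g x ∈ S.map (mvLin g) :=
  ⟨x, h, mvLin_eq g x⟩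

theorem eq_top_of_closed [Finite F] (hr : (Module.finrank F K).Prime) {P : Submodule F K} (h1 : (1 : K) ∈ P)
    (hmul : ∀ a ∈ P, ∀ b ∈ P, a * b ∈ P) {x : K} (hx : x ∈ P) (hxF : x ∉ F ∙ (1 : K)) : P = ⊤ :=
  (closed_cases hr P (fun h => by rw [h, Submodule.mem_bot] at h1; exact one_ne_zero h1) hmul).resolve_left
    fun h => hxF (h ▸ hx)

/-- A subspace is stable only under the ground field. -/
theorem mem_ground_of_stable [Finite F] (hr : (Module.finrank F K).Prime) {W : Submodule F K} (hW : W ≠ ⊥)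
    (hW' : W ≠ ⊤) {m : K} (hm : ∀ w ∈ W, m * w ∈ W) : m ∈ F ∙ (1 : K) := by
  let C : Submodule F K :=
    { carrier := {x | ∀ w ∈ W, x * w ∈ W}
      add_mem' := fun {p q} hp hq w hw => by rw [add_mul]; exact W.add_mem (hp w hw) (hq w hw)
      zero_mem' := fun w _ => by rw [zero_mul]; exact W.zero_mem
      smul_mem' := fun c x hx w hw => by rw [smul_mul_assoc]; exact W.smul_mem c (hx w hw) }
  by_contra hmF
  have htop := eq_top_of_closed hr (P := C) (fun w hw => by rwa [one_mul])
    (fun a ha b hb w hw => by rw [mul_assoc]; exact ha _ (hb w hw)) hm hmF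
  obtain ⟨w, hw, hw0⟩ := W.ne_bot_iff.1 hW
  refine hW' (Submodule.eq_top_iff'.2 fun y => ?_)
  have : y / w ∈ C := htop ▸ Submodule.mem_top
  have := this w hw
  rwa [div_mul_cancel₀ y hw0] at this

/-- The fixed elements of a nontrivial automorphism. -/
theorem mem_ground_of_fixed [Finite F] (hr : (Module.finrank F K).Prime) {σ : K ≃ₐ[F] K} (hσ : σ ≠ 1) {x : K}
    (hx : σ x = x) : x ∈ F ∙ (1 : K) := by
  let P : Submodule F K :=
    { carrier := {y | σ y = y}
      add_mem' := fun {p q} (hp : σ p = p) (hq : σ q = q) => by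
        show σ (p + q) = p + q
        rw [map_add, hp, hq]
      zero_mem' := map_zero σ
      smul_mem' := fun c y (hy : σ y = y) => by
        show σ (c • y) = c • y
        rw [map_smul, hy] }
  by_contra hxF
  have htop := eq_top_of_closed hr (P := P) (map_one σ) (fun a ha b hb => by
    show σ (a * b) = a * b
    rw [map_mul, ha, hb]) hx hxF
  exact hσ (AlgEquiv.ext fun y => (htop ▸ Submodule.mem_top : y ∈ P))

theorem aut_pow [Finite F] (σ : K ≃ₐ[F] K) : σ ^ Module.finrank F K = 1 := by
  haveI : Finite K := Module.finite_of_finite F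
  rw [← IsGalois.card_aut_eq_finrank F K]
  exact pow_card_eq_one'

/-- A map commuting with a scalar up to inversion. -/
theorem sign_of_twist [Finite F] (hr : (Module.finrank F K).Prime) (hr2 : Odd (Module.finrank F K)) {Θ : K →ₗ[F] K}
    (hΘ : Θ ≠ 0) {s : K} (hs : ∀ t, s * Θ (s * t) = Θ t) : s = 1 ∨ s = -1 := by
  haveI : Finite K := Module.finite_of_finite F
  obtain ⟨t₀, ht₀⟩ : ∃ t, Θ t ≠ 0 := by
    by_contra h
    push Not at h
    exact hΘ (LinearMap.ext h)
  have hs0 : s ≠ 0 := fun h => ht₀ (by rw [← hs, h, zero_mul])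
  suffices h : s * s = 1 from mul_self_eq_one_iff.1 h
  let P : Submodule F K :=
    { carrier := {x | ∃ x', ∀ t, Θ (x * t) = x' * Θ t}
      add_mem' := fun {p q} ⟨p', hp⟩ ⟨q', hq⟩ => ⟨p' + q', fun t => by rw [add_mul, map_add, hp, hq, add_mul]⟩
      zero_mem' := ⟨0, fun t => by simp⟩
      smul_mem' := fun c x ⟨x', hx⟩ => ⟨c • x', fun t => by rw [smul_mul_assoc, map_smul, hx, smul_mul_assoc]⟩ }
  have hsP : ∀ t, Θ (s * t) = s⁻¹ * Θ t := fun t => by
    rw [← hs t, ← mul_assoc, inv_mul_cancel₀ hs0, one_mul]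
  by_cases hsF : s ∈ F ∙ (1 : K)
  · obtain ⟨c, hc⟩ := Submodule.mem_span_singleton.1 hsF
    have e := hs t₀
    rw [← hc, smul_mul_assoc, smul_mul_assoc, one_mul, one_mul, map_smul] at e
    rw [← hc]
    refine mul_right_cancel₀ ht₀ ?_
    rw [one_mul, smul_mul_assoc, one_mul, smul_mul_assoc, smul_mul_assoc, one_mul]
    exact e
  have htop := eq_top_of_closed hr (P := P) ⟨1, fun t => by simp⟩
    (fun a ⟨a', ha⟩ b ⟨b', hb⟩ => ⟨a' * b', fun t => by rw [mul_assoc, ha, hb, mul_assoc]⟩) ⟨_, hsP⟩ hsF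
  choose σ hσ using fun x : K => (htop ▸ Submodule.mem_top : x ∈ P)
  have uniq : ∀ x y, (∀ t, Θ (x * t) = y * Θ t) → σ x = y := fun x y h => mul_right_cancel₀ ht₀ (by
    rw [← hσ, h])
  let σ' : K →ₐ[F] K :=
    { toFun := σ
      map_one' := uniq _ _ fun t => by simp
      map_mul' := fun a b => uniq _ _ fun t => by rw [mul_assoc, hσ, hσ, mul_assoc]
      map_zero' := uniq _ _ fun t => by simp
      map_add' := fun a b => uniq _ _ fun t => by rw [add_mul, map_add, hσ, hσ, add_mul]
      commutes' := fun c => uniq _ _ fun t => by rw [← Algebra.smul_def, map_smul, Algebra.smul_def] }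
  let e : K ≃ₐ[F] K := AlgEquiv.ofBijective σ' (Finite.injective_iff_bijective.1 σ'.toRingHom.injective)
  have he : e s = s⁻¹ := uniq _ _ hsP
  have he2 : ∀ k : ℕ, (e ^ (2 * k)) s = s := by
    intro k
    induction k with
    | zero => simp
    | succ k ih =>
      rw [Nat.mul_succ, pow_add, AlgEquiv.mul_apply, show (e ^ 2) s = s by
        rw [pow_two, AlgEquiv.mul_apply, he, map_inv₀, he, inv_inv], ih]
  obtain ⟨k, hk⟩ := hr2
  have h1 := congrArg (fun φ : K ≃ₐ[F] K => φ s) (aut_pow e)
  simp only [hk, pow_succ', AlgEquiv.mul_apply, he2, AlgEquiv.one_apply, he] at h1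
  calc s * s = s * s⁻¹ := by rw [h1]
    _ = 1 := mul_inv_cancel₀ hs0

variable {ℓ : Module.Dual F K} (hE : Ext Q ℓ)
include hE

/-- The annihilator of a subspace for the functional. -/
def ann (ℓ : Module.Dual F K) (W : Submodule F K) : Submodule F K where
  carrier := {β | ∀ w ∈ W, ℓ (w * β) = 0}
  add_mem' := fun {p q} hp hq w hw => by rw [mul_add, map_add, hp w hw, hq w hw, add_zero]
  zero_mem' := fun w _ => by rw [mul_zero, map_zero]
  smul_mem' := fun c x hx w hw => by rw [mul_smul_comm, map_smul, hx w hw, smul_zero]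

theorem finrank_ann (W : Submodule F K) :
    Module.finrank F W + Module.finrank F (ann ℓ W) = Module.finrank F K := by
  let Λ : K →ₗ[F] Module.Dual F K :=
    { toFun := fun c => ℓ.comp (LinearMap.mulRight F c)
      map_add' := fun a b => LinearMap.ext fun x => by simp [mul_add]
      map_smul' := fun t a => LinearMap.ext fun x => by simp }
  have hinj : Function.Injective Λ := fun a b h => eq_of_ell hE fun x => LinearMap.congr_fun h x
  have hmap : (ann ℓ W).map Λ = W.dualAnnihilator := by
    ext φ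
    rw [Submodule.mem_dualAnnihilator]
    constructor
    · rintro ⟨c, hc, rfl⟩ w hw
      exact hc w hw
    · intro hφ
      obtain ⟨c, hc⟩ := exists_rep hE φ
      exact ⟨c, fun w hw => by rw [hc]; exact hφ w hw, LinearMap.ext hc⟩
  rw [(Submodule.equivMapOfInjective Λ hinj (ann ℓ W)).finrank_eq, hmap]
  exact Subspace.finrank_add_finrank_dualAnnihilator_eq W

end Cfsg.Agent.OrthFieldExt

namespace Cfsg.Agent.OrthFieldExt

/-- Counting points by orbits. -/
theorem dvd_of_orbits {H X : Type*} [Group H] [MulAction H X] [Finite X] {m c : ℕ} (P : Set X)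
    (hP : ∀ x ∈ P, ∀ h : H, h • x = x) (hdvd : ∀ x ∉ P, m ∣ c * Nat.card (MulAction.orbit H x)) :
    (c * Nat.card X : ZMod m) = (c * Nat.card P : ZMod m) := by
  classical
  haveI : Fintype X := Fintype.ofFinite X
  have key : ∀ ω : Quotient (MulAction.orbitRel H X), (c * Nat.card {x : X // Quotient.mk'' x = ω} : ZMod m) =
      (c * Nat.card {x : P // Quotient.mk'' x.1 = ω} : ZMod m) := by
    intro ω
    induction ω using Quotient.inductionOn' with
    | h x =>
      by_cases hx : x ∈ P
      · congr 2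
        refine Nat.card_congr ⟨fun y => ⟨⟨y.1, ?_⟩, y.2⟩, fun y => ⟨y.1.1, y.2⟩, fun y => rfl, fun y => rfl⟩
        obtain ⟨g, hg⟩ := Quotient.exact' y.2
        rw [← hg]
        simp only [hP x hx g]
        exact hx
      · haveI : IsEmpty {y : P // Quotient.mk'' y.1 = (Quotient.mk'' x : Quotient (MulAction.orbitRel H X))} := by
          refine ⟨fun ⟨⟨y, hy⟩, e⟩ => hx ?_⟩
          obtain ⟨g, hg⟩ := Quotient.exact' e
          simp only at hg
          rw [← inv_smul_smul g x, show g • x = y from hg, hP y hy g⁻¹]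
          exact hy
        rw [show Nat.card {y : P // Quotient.mk'' y.1 = (Quotient.mk'' x : Quotient (MulAction.orbitRel H X))} = 0 from
          Nat.card_of_isEmpty, Nat.cast_zero, mul_zero, ← Nat.cast_mul, ZMod.natCast_eq_zero_iff]
        convert hdvd x hx using 2
        exact Nat.card_congr (Equiv.subtypeEquivRight fun y => Quotient.eq'')
  haveI : Fintype (Quotient (MulAction.orbitRel H X)) := Fintype.ofFinite _
  rw [← Nat.card_congr (Equiv.sigmaFiberEquiv fun x : X => (Quotient.mk'' x : Quotient (MulAction.orbitRel H X))),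
    ← Nat.card_congr (Equiv.sigmaFiberEquiv fun x : P => (Quotient.mk'' x.1 : Quotient (MulAction.orbitRel H X))),
    Nat.card_sigma, Nat.card_sigma, Nat.cast_sum, Nat.cast_sum, Finset.mul_sum, Finset.mul_sum]
  exact Finset.sum_congr rfl fun ω _ => key ω

/-- A nilpotent map of index three on a space with a small kernel. -/
theorem finrank_le_three_mul {F V : Type*} [Field F] [AddCommGroup V] [Module F V] [FiniteDimensional F V]
    (N : V →ₗ[F] V) (hN : ∀ v, N (N (N v)) = 0) :
    Module.finrank F V ≤ 3 * Module.finrank F (LinearMap.ker N) := by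
  have h1 := LinearMap.finrank_range_add_finrank_ker N
  have h2 := LinearMap.finrank_range_add_finrank_ker (N.domRestrict (LinearMap.range N))
  have h3 : LinearMap.range (N.domRestrict (LinearMap.range N)) ≤ LinearMap.ker N := by
    rintro _ ⟨⟨_, v, rfl⟩, rfl⟩
    exact hN v
  have h4 : (LinearMap.ker (N.domRestrict (LinearMap.range N))).map (LinearMap.range N).subtype ≤ LinearMap.ker N := by
    rintro _ ⟨v, hv, rfl⟩
    exact hv
  have h5 := Submodule.finrank_mono h3
  have h6 := Submodule.finrank_mono h4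
  rw [Submodule.finrank_map_subtype_eq] at h6
  omega

end Cfsg.Agent.OrthFieldExt
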