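/-
Three dimensions over the field, no corner elements: stabilisers of singular lines are semilinear.
-/
import Cfsg.Agent.Lib.OrthFieldExt.ThreeFin
import Cfsg.Agent.Lib.OrthFieldExt.ThreeTools

set_option autoImplicit false
set_option linter.all false
set_option maxHeartbeats 1000000

namespace Cfsg.Agent.OrthFieldExt

open scoped Matrix
open Matrix Cfsg.Agent.Transvec Cfsg.Agent.Transvec.Orth

variable {ι : Type} [Fintype ι] [DecidableEq ι] {F : Type*} [Field F] {Q : (ι → F) → F}
variable {K : Type*} [Field K] [Algebra F K] [Module K (ι → F)] [IsScalarTower F K (ι → F)] [FiniteDimensional F K]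

/-- The fixed space. -/
def fixS (A : GL ι F) : Submodule F (ι → F) := LinearMap.ker (mvLin A - LinearMap.id)

theorem mem_fixS {A : GL ι F} {z : ι → F} : z ∈ fixS A ↔ mv A z = z := by
  rw [fixS, LinearMap.mem_ker, LinearMap.sub_apply, LinearMap.id_apply, sub_eq_zero, mvLin_eq]

theorem finrank_semi_fixed [Finite F] (hr : (Module.finrank F K).Prime) {σ : K ≃ₐ[F] K} (hσ : σ ≠ 1) {a : K}
    (P : Submodule F K) (hP : ∀ x ∈ P, a * σ x = x) : Module.finrank F P ≤ 1 := by
  by_cases h0 : P = ⊥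
  · rw [h0, finrank_bot]; omega
  obtain ⟨x, hx, hx0⟩ := P.ne_bot_iff.1 h0
  refine (Submodule.finrank_mono (show P ≤ F ∙ x from fun y hy => ?_)).trans
    ((finrank_span_le_card _).trans (by simp))
  have ha0 : a ≠ 0 := fun h => hx0 (by rw [← hP x hx, h, zero_mul])
  have hfix : σ (y / x) = y / x := by
    conv_rhs => rw [← hP y hy, ← hP x hx]
    rw [map_div₀, mul_div_mul_left _ _ ha0]
  obtain ⟨c, hc⟩ := Submodule.mem_span_singleton.1 (mem_ground_of_fixed hr hσ hfix)
  exact Submodule.mem_span_singleton.2 ⟨c, by rw [← div_mul_cancel₀ y hx0, ← hc, smul_mul_assoc, one_mul]⟩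

variable {ℓ : Module.Dual F K} (hE : Ext Q ℓ)
include hE

theorem det_omega {x : GL ι F} (hx : x ∈ Geo.omegaGL Q) : (x : Matrix ι ι F).det = 1 := by
  obtain ⟨g, hg, rfl⟩ := hx
  have := Abelianization.commutator_subset_ker
    ((Matrix.GeneralLinearGroup.det).comp (Cfsg.isometryGroup F Q).subtype) hg
  rw [MonoidHom.mem_ker] at this
  exact congrArg Units.val this

/-- No elements in the corner. -/
def Rigid (M : Subgroup (GL ι F)) (u : ι → F) : Prop := ∀ Θ : K →ₗ[F] K, El hE M u Θ → Θ = 0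

/-- The effect on a singular line of an element stabilising it. -/
def StabAct (A : GL ι F) (u b : ι → F) (σ : K ≃ₐ[F] K) (a p : K) : Prop :=
  a ≠ 0 ∧ (∀ t : K, mv A (t • u) = (a * σ t) • u) ∧ (∀ z, B hE z u = 0 → B hE (mv A z) u = 0) ∧
    ∀ μ : K, B hE (mv A (μ • b)) b = p * σ μ * B hE b b

variable {u f b : ι → F} (hfr : Fr hE u f b) {M : Subgroup (GL ι F)} (hM : Over Q K M) [Finite F]
  (hR : Rigid hE M u)
include hfr hM

omit [Finite F] in
theorem isRho_unique {A A' : GL ι F} {ν : K} (h : IsRho hE A u (ν • b)) (h' : IsRho hE A' u (ν • b)) : A = A' :=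
  ext_mv fun z => by rw [h, h']

theorem card_odd (hr : Odd (Module.finrank F K)) : Odd (Fintype.card ι) := by
  have e := Module.finrank_mul_finrank F K (ι → F)
  rw [hfr.dim, Module.finrank_pi] at e
  rw [← e]
  exact hr.mul (by decide)

theorem det_refl (hr : Odd (Module.finrank F K)) {R : GL ι F} (hk : KLin K R) (hz : IsRefK hE R b) :
    (R : Matrix ι ι F).det = -1 := by
  obtain ⟨huu, hff, huf, hfu, hbu, hbf, hub, hfb⟩ := hfr.rules hE
  have h2 := two' hE
  have hbb := hfr.ne
  let c : (ι → F) →ₗ[K] ι → F := LinearMap.id - (2 : K) • ((B hE).flip u).smulRight f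
  have hc : ∀ z, c z = z - (2 * B hE z u) • f := fun z => by simp [c, smul_smul]
  have hcc : ∀ z, c (c z) = z := fun z => by
    rw [hc, hc]
    simp [hfu]
    module
  obtain ⟨C, hCk, hCz⟩ := exists_gl c c hcc hcc
  have hCC : C * C = 1 := ext_mv fun z => by rw [mv_mul, hCz, hCz, hcc, mv_one]
  have h1 : B hE (u - f) (u - f) = -2 := by simp [huu, hff, huf, hfu]; ring
  obtain ⟨S, hS, hSk, hSi, hSz⟩ := exists_refK hE (c := u - f) (by rw [h1]; exact neg_ne_zero.2 h2)
  have hSS : S * S = 1 := by conv_lhs => arg 1; rw [← hSi]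
                             exact inv_mul_cancel S
  have hprod : (-(R : Matrix ι ι F)) = ((C * S * C * S : GL ι F) : Matrix ι ι F) := by
    refine Matrix.ext_of_mulVec_single fun i => ?_
    rw [Matrix.neg_mulVec]
    show -mv R (Pi.single i 1) = mv (C * S * C * S) (Pi.single i 1)
    have hCu : mv C u = u := by rw [hCz, hc]; simp [huu]
    have hCf : mv C f = -f := by rw [hCz, hc]; simp [hfu]; module
    have hCb : mv C b = b := by rw [hCz, hc]; simp [hbu]
    have hSu : mv S u = f := by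
      rw [hSz, h1]; simp only [map_sub, smul_eq_mul, huu, huf]; match_scalars <;> field_simp <;> ring
    have hSf : mv S f = u := by
      rw [hSz, h1]; simp only [map_sub, smul_eq_mul, hff, hfu]; match_scalars <;> field_simp <;> ring
    have hSb : mv S b = b := by rw [hSz]; simp [hbu, hbf]
    have hPu : mv (C * S * C * S) u = -u := by
      rw [mv_mul, mv_mul, mv_mul, hSu, hCf, mv_neg, hSf, mv_neg, hCu]
    have hPf : mv (C * S * C * S) f = -f := by rw [mv_mul, mv_mul, mv_mul, hSf, hCu, hSu, hCf]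
    have hPb : mv (C * S * C * S) b = b := by rw [mv_mul, mv_mul, mv_mul, hSb, hCb, hSb, hCb]
    have hPk : KLin K (C * S * C * S) := ((hCk.mul hSk).mul hCk).mul hSk
    generalize (Pi.single i 1 : ι → F) = z
    conv_rhs => rw [hfr.dec hE z]
    rw [mv_add, mv_add, hPk, hPk, hPk, hPu, hPf, hPb, hz]
    conv_lhs => rw [hfr.dec hE z]
    simp only [map_add, map_smul, LinearMap.add_apply, LinearMap.smul_apply, smul_eq_mul, hub, hfb, mul_zero,
      zero_add, add_zero, div_mul_cancel₀ _ hbb]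
    match_scalars <;> field_simp <;> ring
  have e := congrArg Matrix.det hprod
  rw [Matrix.det_neg, (card_odd hE hfr hM hr).neg_one_pow] at e
  have eC := congrArg (fun g : GL ι F => (g : Matrix ι ι F).det) hCC
  have eS := congrArg (fun g : GL ι F => (g : Matrix ι ι F).det) hSS
  simp only [Units.val_mul, Units.val_one, Matrix.det_mul, Matrix.det_one] at e eC eS
  linear_combination -e - (S : Matrix ι ι F).det * (S : Matrix ι ι F).det * eC - eS

theorem det_uform {U : GL ι F} {θ φ Φ : K →ₗ[F] K} (h : UForm hE U u b θ φ Φ) : (U : Matrix ι ι F).det = 1 := by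
  obtain ⟨huu, hff, huf, hfu, hbu, hbf, hub, hfb⟩ := hfr.rules hE
  haveI : Nonempty ι := not_isEmpty_iff.1 fun he => by
    haveI := he
    exact hfr.hyp.ne_left hE (Subsingleton.elim _ _)
  set N : Matrix ι ι F := (U : Matrix ι ι F) - 1 with hN
  have hNv : ∀ z, N *ᵥ z = (θ (B hE z u) + φ (B hE z b)) • u + Φ (B hE z u) • b := fun z => by
    rw [hN, Matrix.sub_mulVec, Matrix.one_mulVec]
    show mv U z - z = _
    rw [h]; abel
  have hN3 : N ^ 3 = 0 := Matrix.ext_of_mulVec_single fun i => by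
    rw [pow_three, ← Matrix.mulVec_mulVec, ← Matrix.mulVec_mulVec, hNv, hNv, hNv, Matrix.zero_mulVec]
    simp [huu, hbu, hub]
  haveI : Fintype F := Fintype.ofFinite F
  obtain ⟨p, hp⟩ := CharP.exists F
  haveI : Fact p.Prime := ⟨CharP.char_is_prime F p⟩
  haveI : CharP (Matrix ι ι F) p := inferInstance
  have h1 : (1 + N) ^ p ^ 3 = 1 := by
    rw [add_pow_char_pow_of_commute _ _ (Commute.one_left N), one_pow,
      pow_eq_zero_of_le (Nat.lt_pow_self (Fact.out : p.Prime).one_lt).le hN3, add_zero]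
  have h3 := congrArg Matrix.det h1
  rw [hN, add_sub_cancel, Matrix.det_pow, Matrix.det_one] at h3
  haveI : ExpChar F p := ExpChar.prime Fact.out
  exact (iterateFrobenius_inj F p 3) (by simpa [iterateFrobenius_def] using h3)

include hR

theorem Fr.jj_linear {Φ : K →ₗ[F] K} (h : JJ hE M u b Φ) : ∃ ν : K, Φ = LinearMap.mulLeft F ν := by
  obtain ⟨A, hA, θ, φ, hz⟩ := h
  have key : ∀ ν t : K, φ (B hE b b * (ν * t)) + ν * (B hE b b * Φ t) = 0 := fun ν t => by
    obtain ⟨P, hP, -, -, hPz⟩ := hfr.exists_rho hE hM ν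
    have e := LinearMap.congr_fun (hR _ (hfr.comm_el hE hM hA hP hz hPz)) t
    simpa [sub_neg_eq_add, neg_mul] using e
  refine ⟨Φ 1, LinearMap.ext fun t => mul_left_cancel₀ hfr.ne ?_⟩
  have e1 := key t 1
  have e2 := key 1 t
  rw [mul_one] at e1
  rw [one_mul, one_mul] at e2
  rw [LinearMap.mulLeft_apply]
  linear_combination e2 - e1

theorem Fr.fixer_eq_rho {A : GL ι F} (hA : A ∈ M) (hfix : ∀ t : K, mv A (t • u) = t • u)
    (hperp : ∀ z, B hE z u = 0 → mv A z - z ∈ line K u) : ∃ ν : K, IsRho hE A u (ν • b) := by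
  obtain ⟨θ, φ, Φ, hz⟩ := hfr.uform_of hE (M_iso hE hM hA) hfix hperp
  obtain ⟨ν, hν⟩ := hfr.jj_linear hE hM hR ⟨A, hA, θ, φ, hz⟩
  obtain ⟨P, hP, -, hPr, hPz⟩ := hfr.exists_rho hE hM ν
  have hW := hfr.uform_mul hE hz (hfr.uform_inv hE hPz)
  rw [← hν, add_neg_cancel] at hW
  obtain ⟨Y, hY, hYz⟩ := hfr.el_uform hE hM (hfr.el_of_uform hE hM (M.mul_mem hA (M.inv_mem hP)) hW)
  have hθ := hR _ (hfr.el_of_uform hE hM (M.mul_mem hA (M.inv_mem hP)) hW)
  have hAP : A * P⁻¹ = 1 := ext_mv fun z => by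
    rw [mv_one, hW, hθ, hfr.uform_phi_zero hE (M_iso hE hM (M.mul_mem hA (M.inv_mem hP))) hW]
    simp
  exact ⟨ν, by rw [mul_inv_eq_one.1 hAP]; exact hPr⟩

theorem Fr.stab_data {A : GL ι F} (hA : A ∈ M) (hL : ∀ t : K, mv A (t • u) ∈ line K u) :
    ∃ σ a p, StabAct hE A u b σ a p := by
  obtain ⟨huu, hff, huf, hfu, hbu, hbf, hub, hfb⟩ := hfr.rules hE
  have hu0 := hfr.hyp.ne_left hE
  have hc := hfr.ne
  have hiso := M_iso hE hM hA
  let α : K →ₗ[F] K :=
    { toFun := fun t => B hE (mv A (t • u)) f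
      map_add' := fun t s => by rw [add_smul, mv_add, map_add, LinearMap.add_apply]
      map_smul' := fun a t => by
        rw [smul_assoc, mv_smul, LinearMap.map_smul_of_tower, LinearMap.smul_apply, RingHom.id_apply] }
  have hα : ∀ t : K, mv A (t • u) = α t • u := fun t => by
    obtain ⟨a, ha⟩ := mem_line.1 (hL t)
    show mv A (t • u) = B hE (mv A (t • u)) f • u
    rw [← ha]; simp [huf]
  have hinj : Function.Injective α := fun s t hst => smul_left_injective K hu0 (mv_inj A (by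
    show mv A (s • u) = mv A (t • u); rw [hα, hα, hst]))
  have hsurj := LinearMap.injective_iff_surjective.1 hinj
  have hLinv : ∀ t : K, ∃ s : K, mv A⁻¹ (t • u) = s • u := fun t => by
    obtain ⟨s, hs⟩ := hsurj t
    exact ⟨s, by rw [← hs, ← hα, mv_inv_mv]⟩
  have hperpA : ∀ z, B hE z u = 0 → B hE (mv A z) u = 0 := fun z hz => eq_of_ell hE fun c => by
    obtain ⟨s, hs⟩ := hLinv c
    rw [mul_zero, map_zero, ell_B, hE.sa, ← pol_mv hE.quad (M_iso hE hM (M.inv_mem hA)), mv_inv_mv, hs,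
      ← ell_B_one hE]
    simp [hz]
  have hperpA' : ∀ z, B hE z u = 0 → B hE (mv A⁻¹ z) u = 0 := fun z hz => eq_of_ell hE fun c => by
    rw [mul_zero, map_zero, ell_B, hE.sa, ← pol_mv hE.quad hiso, mv_mv_inv, hα, ← ell_B_one hE]
    simp [hz]
  let pm : K → K := fun μ => B hE (mv A (μ • b)) b / B hE b b
  have hkey : ∀ x : K, ∃ ν' : K, ∀ μ, α (x * μ) = ν' * pm μ := by
    intro x
    obtain ⟨P, hP, -, hPr, -⟩ := hfr.exists_rho hE hM (x / B hE b b)
    have hC : A * P * A⁻¹ ∈ M := M.mul_mem (M.mul_mem hA hP) (M.inv_mem hA)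
    obtain ⟨ν, hν⟩ := hfr.fixer_eq_rho hE hM hR hC (fun t => by
      obtain ⟨s, hs⟩ := hLinv t
      rw [mv_mul, mv_mul, hs, hPr]
      simp [huu, hub]
      rw [← hs, mv_mv_inv]) fun z hz => by
        rw [mv_mul, mv_mul, hPr, hperpA' z hz]
        simp only [zero_smul, add_zero, mul_zero, mv_sub, mv_mv_inv, sub_sub_cancel_left]
        exact Submodule.neg_mem _ (hL _)
    refine ⟨ν * B hE b b, fun μ => ?_⟩
    have e1 : mv (A * P * A⁻¹) (mv A (μ • b)) = mv A (μ • b) - (α (x * μ)) • u := by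
      rw [mv_mul, mv_mul, mv_inv_mv, hPr, ← hα, ← mv_sub]
      congr 1
      simp [hbu]
      congr 1
      field_simp
    rw [hν, hperpA _ (by simp [hbu])] at e1
    simp only [zero_smul, add_zero, mul_zero, map_smul, smul_eq_mul, sub_right_inj] at e1
    rw [← smul_left_injective K hu0 e1]
    simp only [pm]
    field_simp
  have hα1 : α 1 ≠ 0 := fun h => one_ne_zero (hinj (h.trans α.map_zero.symm))
  have hp1 : pm 1 ≠ 0 := fun h => hα1 (by
    obtain ⟨ν, hν⟩ := hkey 1
    have := hν 1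
    rwa [h, mul_zero, mul_one] at this)
  have hmul : ∀ x μ, α (x * μ) * α 1 = α x * α μ := by
    intro x μ
    obtain ⟨ν, hν⟩ := hkey x
    obtain ⟨ν₁, hν₁⟩ := hkey 1
    have e1 := hν 1
    have e2 := hν₁ 1
    have e3 := hν₁ μ
    rw [mul_one] at e1 e2
    rw [one_mul] at e3
    rw [hν μ, e1, e2, e3]
    ring
  let σ' : K →ₐ[F] K :=
    { toFun := fun x => α x / α 1
      map_one' := div_self hα1
      map_mul' := fun x y => by
        field_simp
        linear_combination hmul x y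
      map_zero' := by simp
      map_add' := fun x y => by rw [map_add, add_div]
      commutes' := fun c => by
        rw [Algebra.algebraMap_eq_smul_one, map_smul, smul_div_assoc, div_self hα1] }
  haveI : Finite K := Module.finite_of_finite F
  let σ : K ≃ₐ[F] K := AlgEquiv.ofBijective σ' (Finite.injective_iff_bijective.1 σ'.toRingHom.injective)
  have hσ : ∀ x, σ x = α x / α 1 := fun x => rfl
  refine ⟨σ, α 1, pm 1, hα1, fun t => ?_, hperpA, fun μ => ?_⟩
  · rw [hα, hσ, mul_div_cancel₀ _ hα1]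
  · obtain ⟨ν, hν⟩ := hkey 1
    have e1 := hν μ
    have e2 := hν 1
    rw [one_mul] at e1 e2
    have hν0 : ν ≠ 0 := fun h => hα1 (by rw [e2, h, zero_mul])
    rw [hσ, e1, e2, mul_div_mul_left _ _ hν0]
    obtain ⟨h1, h3⟩ := div_ne_zero_iff.1 hp1
    simp only [pm]
    field_simp

theorem Fr.stab_trivial (hr : Odd (Module.finrank F K)) {A : GL ι F} (hA : A ∈ M) {σ : K ≃ₐ[F] K} {a p : K}
    (h : StabAct hE A u b σ a p) (hσ : σ = 1) {t₀ : K} (ht₀ : t₀ ≠ 0) (hfix : mv A (t₀ • u) = t₀ • u) :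
    ∃ ν : K, IsRho hE A u (ν • b) := by
  obtain ⟨huu, hff, huf, hfu, hbu, hbf, hub, hfb⟩ := hfr.rules hE
  obtain ⟨ha0, hAu, hperp, hpb⟩ := h
  have hu0 := hfr.hyp.ne_left hE
  have hiso := M_iso hE hM hA
  subst hσ
  have ha1 : a = 1 := by
    have e := hAu t₀
    rw [hfix, AlgEquiv.one_apply] at e
    exact mul_right_cancel₀ ht₀ (by rw [one_mul]; exact (smul_left_injective K hu0 e).symm)
  have hfixL : ∀ t : K, mv A (t • u) = t • u := fun t => by rw [hAu, ha1, one_mul, AlgEquiv.one_apply]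
  have hdecA : ∀ μ : K, mv A (μ • b) = B hE (mv A (μ • b)) f • u + (p * μ) • b := fun μ => by
    conv_lhs => rw [hfr.dec_perp hE (hperp _ (by simp [hbu] : B hE (μ • b) u = 0)), hpb,
      mul_div_cancel_right₀ _ hfr.ne, AlgEquiv.one_apply]
  have hp : p = 1 ∨ p = -1 := by
    refine mul_self_eq_one_iff.1 (sub_eq_zero.1 (by_contra fun hne => ?_))
    obtain ⟨s, hs⟩ := exists_ell_sq_ne hE (mul_ne_zero hne hfr.ne)
    refine hs ?_
    have e := pol_mv hE.quad hiso (s • b) (s • b)
    rw [← ell_B_one hE, ← ell_B_one hE, hdecA] at e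
    simp [huu, hbu, hub] at e
    rw [← sub_eq_zero, ← map_sub] at e
    rw [← e]
    congr 1
    ring
  rcases hp with hp | hp
  · refine hfr.fixer_eq_rho hE hM hR hA hfixL fun z hz => ?_
    rw [hfr.dec_perp hE hz, mv_add, hfixL, hdecA, hp, one_mul, add_sub_add_left_eq_sub, add_sub_cancel_right]
    exact mem_line.2 ⟨_, rfl⟩
  · exfalso
    obtain ⟨S, hS, hSk, -, hSz⟩ := exists_refK hE hfr.ne
    have hSu : ∀ t : K, mv S (t • u) = t • u := fun t => by rw [hSk, hSz]; simp [hub]
    have hU : A * S ∈ isometryGroup F Q := Subgroup.mul_mem _ hiso hS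
    obtain ⟨θ, φ, Φ, hUz⟩ := hfr.uform_of hE hU (fun t => by rw [mv_mul, hSu, hfixL]) fun z hz => by
      have e : mv S z = B hE z f • u + (-(B hE z b / B hE b b)) • b := by
        have hbb := hfr.ne
        conv_lhs => rw [hSz]
        conv_lhs => arg 1; rw [hfr.dec_perp hE hz]
        rw [show 2 * B hE z b / B hE b b = 2 * (B hE z b / B hE b b) by ring]
        module
      rw [mv_mul, e, mv_add, hfixL, hdecA, hp]
      rw [show (-1 : K) * -(B hE z b / B hE b b) = B hE z b / B hE b b by ring]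
      have hzd := hfr.dec_perp hE hz
      refine mem_line.2 ⟨B hE (mv A ((-(B hE z b / B hE b b)) • b)) f, ?_⟩
      linear_combination (norm := module) hzd
    have e1 := det_uform hE hfr hM hUz
    rw [Units.val_mul, Matrix.det_mul, det_omega hE (hM.le hA), det_refl hE hfr hM hr hSk hSz, one_mul] at e1
    exact hE.two (by linear_combination -e1)

theorem Fr.stab_of_two (hr : (Module.finrank F K).Prime) (hodd : Odd (Module.finrank F K)) {A : GL ι F} (hA : A ∈ M)
    (hL : ∀ t : K, mv A (t • u) ∈ line K u) {P : Submodule F (ι → F)} (hP : P ≤ line K u ⊓ fixS A)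
    (h2 : 2 ≤ Module.finrank F P) : ∃ ν : K, IsRho hE A u (ν • b) := by
  have hu0 := hfr.hyp.ne_left hE
  obtain ⟨σ, a, p, h⟩ := hfr.stab_data hE hM hR hA hL
  obtain ⟨x, hx, hx0⟩ := P.ne_bot_iff.1 fun h => by rw [h, finrank_bot] at h2; omega
  obtain ⟨t₀, rfl⟩ := mem_line.1 (hP hx).1
  refine hfr.stab_trivial hE hM hR hodd hA h ?_ (fun h => hx0 (by rw [h, zero_smul])) (mem_fixS.1 (hP hx).2)
  by_contra hσ
  set L := ((LinearMap.toSpanSingleton K (ι → F) u).restrictScalars F)
  have h1 := finrank_semi_fixed hr hσ (a := a) (P.comap L) fun t ht => smul_left_injective K hu0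
    ((h.2.1 t).symm.trans (mem_fixS.1 (hP ht).2))
  have hmap : (P.comap L).map L = P := Submodule.map_comap_eq_self fun z hz => by
    obtain ⟨t, rfl⟩ := mem_line.1 (hP hz).1
    exact ⟨t, rfl⟩
  rw [(Submodule.equivMapOfInjective L (smul_left_injective K hu0) (P.comap L)).finrank_eq, hmap] at h1
  omega

theorem Fr.stab_of_four (hr : (Module.finrank F K).Prime) (hodd : Odd (Module.finrank F K)) {A : GL ι F} (hA : A ∈ M)
    (hL : ∀ t : K, mv A (t • u) ∈ line K u) {t₀ : K} (ht₀ : t₀ ≠ 0) (hfix : mv A (t₀ • u) = t₀ • u)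
    (h4 : 4 ≤ Module.finrank F (fixS A)) : ∃ ν : K, IsRho hE A u (ν • b) := by
  obtain ⟨huu, hff, huf, hfu, hbu, hbf, hub, hfb⟩ := hfr.rules hE
  have hu0 := hfr.hyp.ne_left hE
  have hc := hfr.ne
  obtain ⟨σ, a, p, h⟩ := hfr.stab_data hE hM hR hA hL
  refine hfr.stab_trivial hE hM hR hodd hA h ?_ ht₀ hfix
  by_contra hσ
  obtain ⟨ha0, hAu, hperp, hpb⟩ := h
  let β : fixS A →ₗ[F] K := (((B hE).flip u).restrictScalars F).domRestrict (fixS A)
  let m : LinearMap.ker β →ₗ[F] K :=
    ((LinearMap.mulRight F (B hE b b)⁻¹).comp (((B hE).flip b).restrictScalars F)).comp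
      ((fixS A).subtype.comp (LinearMap.ker β).subtype)
  have hm : ∀ y : LinearMap.ker β, m y = B hE y.1.1 b / B hE b b := fun y => by
    show B hE y.1.1 b * (B hE b b)⁻¹ = _
    rw [div_eq_mul_inv]
  let L : K →ₗ[F] K :=
    { toFun := fun t => a * σ t - t
      map_add' := fun s t => by rw [map_add, mul_add]; ring
      map_smul' := fun c t => by rw [map_smul, mul_smul_comm, RingHom.id_apply, smul_sub] }
  have hker : Module.finrank F (LinearMap.ker L) ≤ 1 :=
    finrank_semi_fixed hr hσ (a := a) _ fun x hx => sub_eq_zero.1 (LinearMap.mem_ker.1 hx)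
  have hβ : Module.finrank F (LinearMap.range β) ≤ 1 := by
    have hle : LinearMap.range β ≤ ann ℓ (LinearMap.range L) := by
      rintro _ ⟨⟨y, hy⟩, rfl⟩ _ ⟨t, rfl⟩
      show ℓ ((a * σ t - t) * B hE y u) = 0
      have e := pol_mv hE.quad (M_iso hE hM hA) (t • u) y
      rw [hAu, mem_fixS.1 hy, ← ell_B_one hE, ← ell_B_one hE] at e
      simp only [map_smul, LinearMap.smul_apply, smul_eq_mul, B_comm hE u y] at e
      rw [sub_mul, map_sub, e, sub_self]
    have h1 := Submodule.finrank_mono hle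
    have h2 := finrank_ann hE (LinearMap.range L)
    have h3 := LinearMap.finrank_range_add_finrank_ker L
    omega
  have hmr : Module.finrank F (LinearMap.range m) ≤ 1 := by
    refine finrank_semi_fixed hr hσ (a := p) _ ?_
    rintro _ ⟨⟨⟨y, hy⟩, hy0⟩, rfl⟩
    rw [hm]
    have hy0' : B hE y u = 0 := hy0
    have e := mem_fixS.1 hy
    conv at e => lhs; rw [hfr.dec_perp hE hy0', mv_add, hAu]
    have e2 := congrArg (fun v => B hE v b) e
    simp only [map_add, LinearMap.add_apply, map_smul, LinearMap.smul_apply, hub, smul_zero, zero_add, hpb] at e2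
    rw [← mul_div_cancel_right₀ (p * σ (B hE y b / B hE b b)) hc, e2]
  have hker2 : (LinearMap.ker m).map ((fixS A).subtype.comp (LinearMap.ker β).subtype) ≤
      (LinearMap.ker L).map ((LinearMap.toSpanSingleton K (ι → F) u).restrictScalars F) := by
    rintro _ ⟨⟨⟨y, hy⟩, hy0⟩, hym, rfl⟩
    have hy0' : B hE y u = 0 := hy0
    have e1 := hfr.dec_perp hE hy0'
    have hym' : B hE y b / B hE b b = 0 := by rw [← hm ⟨⟨y, hy⟩, hy0⟩]; exact hym
    rw [hym', zero_smul, add_zero] at e1
    refine ⟨B hE y f, ?_, e1.symm⟩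
    have e := mem_fixS.1 hy
    rw [e1, hAu] at e
    show a * σ (B hE y f) - B hE y f = 0
    rw [sub_eq_zero]
    exact smul_left_injective K hu0 e
  have h1 := Submodule.finrank_mono hker2
  rw [← (Submodule.equivMapOfInjective ((fixS A).subtype.comp (LinearMap.ker β).subtype)
    (fun x y h => Subtype.ext (Subtype.ext h)) (LinearMap.ker m)).finrank_eq,
    ← (Submodule.equivMapOfInjective _ (smul_left_injective K hu0) (LinearMap.ker L)).finrank_eq] at h1
  have h2 := LinearMap.finrank_range_add_finrank_ker (K := F) (V := ↥(LinearMap.ker β)) m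
  have h3 := LinearMap.finrank_range_add_finrank_ker β
  omega

end Cfsg.Agent.OrthFieldExt
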