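/-
Three dimensions over the field, no corner elements: two different conjugate lines share at most one dimension.
-/
import Cfsg.Agent.Lib.OrthFieldExt.ThreeSemi
import Cfsg.Agent.Lib.FiniteGroup.CyclicPGroup
import Mathlib.GroupTheory.Transfer

set_option autoImplicit false
set_option linter.all false
set_option maxHeartbeats 1000000

namespace Cfsg.Agent.OrthFieldExt

open scoped Matrix
open Matrix Cfsg.Agent.Transvec Cfsg.Agent.Transvec.Orth

variable {ι : Type} [Fintype ι] [DecidableEq ι] {F : Type*} [Field F] {Q : (ι → F) → F}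
variable {K : Type*} [Field K] [Algebra F K] [Module K (ι → F)] [IsScalarTower F K (ι → F)] [FiniteDimensional F K]

/-- The pointwise fixer of a set of vectors. -/
def fixSub (S : Submodule F (ι → F)) : Subgroup (GL ι F) where
  carrier := {A | ∀ z ∈ S, mv A z = z}
  one_mem' := fun z _ => mv_one z
  mul_mem' := fun {a b} ha hb z hz => by rw [mv_mul, hb z hz, ha z hz]
  inv_mem' := fun {a} ha z hz => mv_inj a (by rw [mv_mv_inv, ha z hz])

variable {ℓ : Module.Dual F K} (hE : Ext Q ℓ)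
include hE
variable {u f b : ι → F} (hfr : Fr hE u f b) {M : Subgroup (GL ι F)} (hM : Over Q K M) [Finite F]
include hfr hM

theorem Fr.rho_fix_line {A : GL ι F} {ν : K} (h : IsRho hE A u (ν • b)) (t : K) : mv A (t • u) = t • u := by
  obtain ⟨huu, hff, huf, hfu, hbu, hbf, hub, hfb⟩ := hfr.rules hE
  rw [h]; simp [huu, hub]

theorem Fr.rho_fixed {A : GL ι F} {ν : K} (h : IsRho hE A u (ν • b)) (hν : ν ≠ 0) {z : ι → F}
    (hz : mv A z = z) : z ∈ line K u := by
  obtain ⟨huu, hff, huf, hfu, hbu, hbf, hub, hfb⟩ := hfr.rules hE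
  have e := congrArg (fun v => B hE v b) hz
  simp [h z, hub, hν, hfr.ne] at e
  have e2 := congrArg (fun v => B hE v f) hz
  simp [h z, huf, hbf, e, hν] at e2
  refine mem_line.2 ⟨B hE z f, ?_⟩
  conv_rhs => rw [hfr.dec_perp hE e, e2, zero_div, zero_smul, add_zero]

theorem Fr.rho_ne_one {A : GL ι F} {ν : K} (h : IsRho hE A u (ν • b)) (hν : ν ≠ 0) : A ≠ 1 := fun h1 => by
  obtain ⟨huu, hff, huf, hfu, hbu, hbf, hub, hfb⟩ := hfr.rules hE
  obtain ⟨t, ht⟩ := mem_line.1 (hfr.rho_fixed hE hM h hν (z := f) (by rw [h1, mv_one]))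
  have e := congrArg (fun v => B hE v f) ht
  have e2 := congrArg (fun v => B hE v u) ht
  simp [huu, hfu] at e2

theorem Fr.exists_rhoHom : ∃ ρ : Multiplicative K →* GL ι F, Function.Injective ρ ∧ (∀ ν, ρ ν ∈ M) ∧
    ∀ ν, IsRho hE (ρ ν) u (ν.toAdd • b) := by
  choose g hg hk hz hU using fun ν : K => hfr.exists_rho hE hM ν
  obtain ⟨huu, hff, huf, hfu, hbu, hbf, hub, hfb⟩ := hfr.rules hE
  have h1 : g 0 = 1 := ext_mv fun z => by rw [hz, mv_one]; simp
  let ρ : Multiplicative K →* GL ι F :=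
    { toFun := fun ν => g ν.toAdd
      map_one' := h1
      map_mul' := fun x y => isRho_unique hE hfr hM (hz _) (by
        have := isRho_mul hE huu (by simp [hub]) (by simp [hub]) (hz x.toAdd) (hz y.toAdd)
        rwa [← add_smul] at this) }
  refine ⟨ρ, (injective_iff_map_eq_one ρ).2 fun x hx => ?_, fun ν => hg _, fun ν => hz _⟩
  by_contra hne
  exact hfr.rho_ne_one hE hM (hz x.toAdd) (fun h => hne h) hx

omit hfr hM in
theorem isPGroup_range {H : Type*} [Group H] (p : ℕ) [CharP K p] (ρ : Multiplicative K →* H) :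
    IsPGroup p ρ.range := by
  rintro ⟨_, x, rfl⟩
  refine ⟨1, Subtype.ext ?_⟩
  rw [pow_one, SubgroupClass.coe_pow, Subgroup.coe_one, ← map_pow]
  rw [show x ^ p = 1 from Multiplicative.toAdd.injective (by
    rw [toAdd_pow, nsmul_eq_mul, CharP.cast_eq_zero, zero_mul, toAdd_one]), map_one]

variable (hR : Rigid hE M u)
include hR

theorem Fr.meet_le_one (hr : (Module.finrank F K).Prime) (hr5 : 3 ≤ Module.finrank F K) {g : GL ι F} (hg : g ∈ M)
    (hne : img K g u ≠ line K u) : meet K g u ≤ 1 := by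
  classical
  by_contra hlt
  push Not at hlt
  have hu0 := hfr.hyp.ne_left hE
  have hodd : Odd (Module.finrank F K) := hr.odd_of_ne_two (by omega)
  haveI : Finite K := Module.finite_of_finite F
  haveI : Fintype K := Fintype.ofFinite K
  set D := line K u ⊓ img K g u
  have hD : 2 ≤ Module.finrank F D := hlt
  set G : Subgroup (GL ι F) := M ⊓ fixSub D with hG
  obtain ⟨p, hp⟩ := CharP.exists K
  haveI hpF : Fact p.Prime := ⟨CharP.char_is_prime K p⟩
  have hp2 : p ≠ 2 := fun h => two' hE (by subst h; exact CharP.cast_eq_zero K 2)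
  obtain ⟨ρ, hρinj, hρM, hρz⟩ := hfr.exists_rhoHom hE hM
  have hρG : ∀ ν, ρ ν ∈ G := fun ν => ⟨hρM ν, fun z hz => by
    obtain ⟨t, rfl⟩ := mem_line.1 hz.1
    exact hfr.rho_fix_line hE hM (hρz ν) t⟩
  let ρ' : Multiplicative K →* G := ρ.codRestrict G hρG
  have hρ'inj : Function.Injective ρ' := fun x y h => hρinj (congrArg Subtype.val h)
  set R := ρ'.range with hRdef
  have hRp : IsPGroup p R := isPGroup_range hE p ρ'
  have hRcard : Nat.card R = Nat.card K := by
    rw [hRdef, ← Nat.card_congr (MonoidHom.ofInjective hρ'inj).toEquiv]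
    rfl
  have hstab : ∀ A : G, (∀ t : K, mv (A : GL ι F) (t • u) ∈ line K u) → A ∈ R := by
    intro A hA
    obtain ⟨ν, hν⟩ := hfr.stab_of_two hE hM hR hr hodd A.2.1 hA (P := D)
      (le_inf inf_le_left fun z hz => mem_fixS.2 (A.2.2 z hz)) hD
    exact ⟨Multiplicative.ofAdd ν, Subtype.ext (isRho_unique hE hfr hM (hρz _) hν)⟩
  have hfixR : ∀ a ∈ R, ∀ t : K, mv (a : GL ι F) (t • u) = t • u := by
    rintro _ ⟨ν, rfl⟩ t
    exact hfr.rho_fix_line hE hM (hρz ν) t
  have hfixed : ∀ a ∈ R, a ≠ 1 → ∀ z, mv (a : GL ι F) z = z → z ∈ line K u := by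
    rintro _ ⟨ν, rfl⟩ hne z hz
    refine hfr.rho_fixed hE hM (hρz ν) (fun h => hne ?_) hz
    rw [show ν = 1 from h, map_one]
  have hcent : ∀ a ∈ R, a ≠ 1 → ∀ A : G, A⁻¹ * a * A ∈ R → A ∈ R := by
    intro a ha ha1 A hA
    refine hstab A fun t => hfixed a ha ha1 _ ?_
    have e := hfixR _ hA t
    rw [Subgroup.coe_mul, Subgroup.coe_mul, Subgroup.coe_inv, mv_mul, mv_mul] at e
    exact ((mv_eq_iff (A : GL ι F)⁻¹).1 e).trans (by rw [inv_inv])
  have h1ne : ρ' (Multiplicative.ofAdd 1) ≠ 1 := fun h => one_ne_zero (α := K) (by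
    have := hρ'inj (h.trans (map_one ρ').symm)
    exact this)
  have hN : Subgroup.normalizer (R : Set G) ≤ R := fun A hA =>
    hcent _ ⟨_, rfl⟩ h1ne A ((Subgroup.mem_normalizer_iff''.1 hA _).1 ⟨_, rfl⟩)
  obtain ⟨n, hn⟩ := IsPGroup.iff_card.1 hRp
  have hidx : ¬ p ∣ R.index := by
    intro hdvd
    have h1 := Sylow.card_quotient_normalizer_modEq_card_quotient (G := G) hn
    have h3 : R.comap (Subgroup.normalizer (R : Set G)).subtype = ⊤ := eq_top_iff.2 fun x _ => hN x.2
    rw [← Subgroup.index_eq_card, ← Subgroup.index_eq_card, h3, Subgroup.index_top, Nat.ModEq,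
      Nat.dvd_iff_mod_eq_zero.1 hdvd, Nat.one_mod_eq_one.2 hpF.out.ne_one] at h1
    exact one_ne_zero h1
  set P := hRp.toSylow hidx with hPdef
  have hP : (P : Subgroup G) = R := IsPGroup.toSylow_coe hRp hidx
  have hNC : Subgroup.normalizer (P : Set G) ≤ Subgroup.centralizer (P : Set G) := by
    intro A hA
    have hA' : A ∈ R := hN (by rwa [← hP])
    rw [Subgroup.mem_centralizer_iff]
    intro a ha
    have ha' : a ∈ R := by rwa [← hP]
    obtain ⟨x, rfl⟩ := ha'
    obtain ⟨y, rfl⟩ := hA'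
    rw [← map_mul, ← map_mul, mul_comm]
  set K₀ := (MonoidHom.transferSylow P hNC).ker
  have hc := MonoidHom.ker_transferSylow_isComplement' P hNC
  have hK₀ : K₀ ≠ ⊥ := by
    intro h0
    have hcard := hc.card_mul_card
    rw [show (MonoidHom.transferSylow P hNC).ker = ⊥ from h0, Subgroup.card_bot, one_mul] at hcard
    have htop : R = ⊤ := Subgroup.eq_top_of_card_eq _ (by rw [← hP]; exact hcard)
    set X : GL ι F := g * ρ (Multiplicative.ofAdd 1) * g⁻¹ with hX
    have hXfix : ∀ z ∈ img K g u, mv X z = z := fun z hz => by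
      obtain ⟨t, rfl⟩ := mem_img.1 hz
      rw [hX, mv_mul, mv_mul, mv_inv_mv, hfr.rho_fix_line hE hM (hρz _)]
    have hXG : X ∈ G := ⟨M.mul_mem (M.mul_mem hg (hρM _)) (M.inv_mem hg), fun z hz => hXfix z hz.2⟩
    have hXR : (⟨X, hXG⟩ : G) ∈ R := htop ▸ Subgroup.mem_top _
    have hX1 : (⟨X, hXG⟩ : G) ≠ 1 := fun h => by
      have h' : X = 1 := congrArg Subtype.val h
      rw [hX, mul_inv_eq_one] at h'
      exact h1ne (Subtype.ext (mul_eq_left.1 h'))
    refine hne (Submodule.eq_of_le_of_finrank_le (fun z hz => hfixed _ hXR hX1 z (hXfix z hz)) ?_)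
    rw [finrank_img g hu0, finrank_line hu0]
  have hdisj : Disjoint K₀ R := Subgroup.disjoint_def.2 fun {x} hK hxR =>
    Subgroup.disjoint_def.1 hc.disjoint hK (by rw [hP]; exact hxR)
  haveI : K₀.Normal := MonoidHom.normal_ker _
  have hcyc := CyclicPGroup.isCyclic_of_fixedPointFree (G := G) hp2 (P := R) (K := K₀) hRp
    (by rw [Subgroup.normalizer_eq_top]; exact le_top)
    (by
      have h1 := Sylow.card_coprime_index P
      rw [hc.index_eq_card] at h1
      rw [show Nat.card R = Nat.card (P : Subgroup G) from (congrArg (fun S : Subgroup G => Nat.card S) hP).symm]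
      exact h1)
    hK₀ fun a ha ha1 k hk hk1 hcomm => by
      have hmem : k⁻¹ * a * k ∈ R := by rwa [mul_assoc, hcomm, inv_mul_cancel_left]
      exact hk1 ((Subgroup.disjoint_def.1 hdisj) hk (hcent a ha ha1 k hmem))
  obtain ⟨c, hc'⟩ := hcyc.exists_ofOrder_eq_natCard
  have hle : orderOf c ≤ p := orderOf_le_of_pow_eq_one hpF.out.pos (by
    obtain ⟨x, hx⟩ := c.2
    refine Subtype.ext ?_
    rw [SubgroupClass.coe_pow, ← hx, ← map_pow]
    rw [show x ^ p = 1 from Multiplicative.toAdd.injective (by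
      rw [toAdd_pow, nsmul_eq_mul, CharP.cast_eq_zero, zero_mul, toAdd_one]), map_one]
    rfl)
  rw [hc', hRcard, Nat.card_eq_fintype_card] at hle
  haveI : Fintype F := Fintype.ofFinite F
  rw [Module.card_eq_pow_finrank (K := F) (V := K)] at hle
  have hpF' : p ∣ Fintype.card F := by
    haveI : CharP F p := (algebraMap F K).charP (algebraMap F K).injective p
    rw [← CharP.cast_eq_zero_iff F p]
    exact FiniteField.cast_card_eq_zero F
  have h2 := Nat.le_of_dvd Fintype.card_pos hpF'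
  have h3 := Nat.pow_lt_pow_right (Fintype.one_lt_card (α := F)) (show 1 < Module.finrank F K by omega)
  rw [pow_one] at h3
  omega

end Cfsg.Agent.OrthFieldExt
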