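/-
Three dimensions over the field: a cyclic group of rotations around an anisotropic vector.
-/
import Cfsg.Agent.Lib.OrthFieldExt.ThreeBase
import Mathlib.Algebra.QuadraticAlgebra.Basic

set_option autoImplicit false
set_option linter.all false
set_option maxHeartbeats 1000000

namespace Cfsg.Agent.OrthFieldExt

open scoped Matrix
open Matrix Cfsg.Agent.Transvec Cfsg.Agent.Transvec.Orth

variable {ι : Type} [Fintype ι] [DecidableEq ι] {F : Type*} [Field F] {Q : (ι → F) → F}
variable {K : Type*} [Field K] [Algebra F K] [Module K (ι → F)] [IsScalarTower F K (ι → F)] [FiniteDimensional F K]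

variable (K) in
/-- A cyclic group of rotations around a vector. -/
structure Tor (M : Subgroup (GL ι F)) (x : ι → F) (C : Subgroup (GL ι F)) : Prop where
  le : C ≤ M
  cyc : IsCyclic C
  fix : ∀ c ∈ C, ∀ t : K, mv c (t • x) = t • x
  exact : ∀ c ∈ C, c ≠ 1 → ∀ z, mv c z = z → z ∈ line K x
  card : 2 * Nat.card C + 1 = Nat.card K ∨ Nat.card K + 1 = 2 * Nat.card C

theorem card_range_mul_two {H G : Type*} [Group H] [Finite H] [Group G] (T : H →* G) (e : H)
    (he : e ≠ 1) (hker : ∀ h, T h = 1 ↔ h = 1 ∨ h = e) : 2 * Nat.card T.range = Nat.card H := by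
  classical
  have h2 : Nat.card T.ker = 2 := by
    have hset : (T.ker : Set H) = {1, e} := Set.ext fun h => by
      simp only [SetLike.mem_coe, MonoidHom.mem_ker, Set.mem_insert_iff, Set.mem_singleton_iff]
      exact hker h
    calc Nat.card T.ker = Nat.card ((T.ker : Set H) : Set H) := rfl
      _ = ({1, e} : Set H).ncard := by rw [hset, Nat.card_coe_set_eq]
      _ = 2 := Set.ncard_pair (Ne.symm he)
  have h := T.ker.card_mul_index
  rwa [h2, Subgroup.index_ker] at h

variable {ℓ : Module.Dual F K} (hE : Ext Q ℓ)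
include hE
variable {M : Subgroup (GL ι F)} (hM : Over Q K M) [Finite F]
include hM

theorem Fr.exists_tor_split {u f b : ι → F} (hfr : Fr hE u f b) :
    ∃ C, Tor K M b C ∧ 2 * Nat.card C + 1 = Nat.card K := by
  classical
  obtain ⟨huu, hff, huf, hfu, hbu, hbf, hub, hfb⟩ := hfr.rules hE
  haveI : Finite K := Module.finite_of_finite F
  haveI : Fintype K := Fintype.ofFinite K
  choose τ hτ hk hτu hτb hτf using fun ζ : Kˣ => hfr.exists_torus hE hM (ζ := (ζ : K)) ζ.ne_zero
  have hval : ∀ ζ z, mv (τ ζ) z = (B hE z f * ((ζ : K) * ζ)) • u + (B hE z u * ((ζ : K) * ζ)⁻¹) • f +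
      (B hE z b / B hE b b) • b := by
    intro ζ z
    conv_lhs => rw [hfr.dec hE z]
    rw [mv_add, mv_add, hk, hk, hk, hτu, hτb, hτf, smul_smul, smul_smul]
  let T : Kˣ →* GL ι F :=
    { toFun := τ
      map_one' := ext_mv fun z => by
        rw [mv_one, hval]
        simpa using (hfr.dec hE z).symm
      map_mul' := fun x y => ext_mv fun z => by
        rw [mv_mul, hval, hval y, mv_add, mv_add, hk, hk, hk, hτu, hτb, hτf, smul_smul, smul_smul, Units.val_mul]
        simp only [mul_inv]
        module }
  have hT : ∀ ζ, T ζ = τ ζ := fun ζ => rfl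
  have hone : ∀ ζ : Kˣ, (ζ : K) * ζ = 1 → T ζ = 1 := fun ζ h => ext_mv fun z => by
    rw [hT, hval, h, mv_one, inv_one, mul_one, mul_one]
    exact (hfr.dec hE z).symm
  suffices hc : 2 * Nat.card T.range + 1 = Nat.card K by
    refine ⟨T.range, ⟨?_, isCyclic_of_surjective _ T.rangeRestrict_surjective, ?_, ?_, Or.inl hc⟩, hc⟩
    · rintro _ ⟨ζ, rfl⟩
      exact hτ ζ
    · rintro _ ⟨ζ, rfl⟩ t
      rw [hT, hk, hτb]
    · rintro _ ⟨ζ, rfl⟩ hne z hz
      have hs : (ζ : K) * ζ ≠ 1 := fun h => hne (hone ζ h)
      have e1 := congrArg (fun v => B hE v f) hz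
      have e2 := congrArg (fun v => B hE v u) hz
      simp [hT, hval, huu, hff, huf, hfu, hbu, hbf] at e1 e2
      refine mem_line.2 ⟨B hE z b / B hE b b, ?_⟩
      have hf0 : B hE z f = 0 := by
        by_contra h
        exact hs (mul_left_cancel₀ h (by rw [mul_one]; exact e1))
      have hu0 : B hE z u = 0 := by
        by_contra h
        exact hs (inv_eq_one.1 (mul_left_cancel₀ h (by rw [mul_one, mul_inv]; exact e2)))
      conv_rhs => rw [hfr.dec hE z, hf0, hu0]
      module
  have hne : (-1 : Kˣ) ≠ 1 := fun h => two' hE (by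
    have e := congrArg Units.val h
    simp only [Units.val_neg, Units.val_one] at e
    linear_combination -e)
  have h := card_range_mul_two T (-1) hne fun ζ => by
    constructor
    · intro h
      have e := congrArg (fun A => B hE (mv A u) f) h
      simp [hT, hτu, mv_one, huf] at e
      rcases mul_self_eq_one_iff.1 e with e | e
      · exact Or.inl (Units.ext e)
      · exact Or.inr (Units.ext (by simpa using e))
    · rintro (rfl | rfl)
      · exact T.map_one
      · exact hone _ (by simp)
  have hK : 0 < Nat.card K := Nat.card_pos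
  rw [h, Nat.card_units]
  omega

theorem Fr.exists_tor {u f b : ι → F} (hfr : Fr hE u f b) : ∃ C, Tor K M b C :=
  (hfr.exists_tor_split hE hM).imp fun _ h => h.1

/-- Rotations when the perpendicular of the vector has no singular vector. -/
theorem exists_tor_aniso (hd : Module.finrank K (ι → F) = 3) {x : ι → F} (hx : B hE x x ≠ 0)
    (hno : ∀ v, B hE v x = 0 → B hE v v = 0 → v = 0) : ∃ C, Tor K M x C := by
  classical
  haveI : Finite K := Module.finite_of_finite F
  haveI : Fintype K := Fintype.ofFinite K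
  haveI : Module.Finite K (ι → F) := Module.Finite.of_restrictScalars_finite F K _
  have h2 := two' hE
  obtain ⟨a, hax, haa⟩ := exists_aniso_one hE hx (by omega)
  obtain ⟨e, hex, hea, hee⟩ := exists_aniso_two hE hx haa (by rw [B_comm]; exact hax) hd.ge
  have hae : B hE a e = 0 := by rw [B_comm]; exact hea
  have hxa : B hE x a = 0 := by rw [B_comm]; exact hax
  have hxe : B hE x e = 0 := by rw [B_comm]; exact hex
  set A := B hE a a with hA
  set E := B hE e e with hEe
  obtain ⟨δ, hδd⟩ : ∃ δ, δ = E / A := ⟨_, rfl⟩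
  have hδ : δ ≠ 0 := hδd ▸ div_ne_zero hee haa
  have hE' : E = δ * A := by rw [hδd, div_mul_cancel₀ E haa]
  have hdec : ∀ v, v = (B hE v x / B hE x x) • x + (B hE v a / A) • a + (B hE v e / E) • e := by
    intro v
    let φ : (ι → F) →ₗ[K] Fin 3 → K := LinearMap.pi fun i => (B hE).flip (![x, a, e] i)
    have hsurj : Function.Surjective φ := by
      intro c
      refine ⟨(c 0 / B hE x x) • x + (c 1 / A) • a + (c 2 / E) • e, funext fun i => ?_⟩
      fin_cases i <;> simp [φ, hax, hea, hex, hae, hxa, hxe, hx, ← hA, ← hEe, haa, hee]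
    refine (LinearMap.injective_iff_surjective_of_finrank_eq_finrank
      (by rw [hd, Module.finrank_pi, Fintype.card_fin])).2 hsurj (funext fun i => ?_)
    fin_cases i <;> simp [φ, hax, hea, hex, hae, hxa, hxe, hx, ← hA, ← hEe, haa, hee]
  haveI hfact : Fact (∀ r : K, r ^ 2 ≠ -δ + 0 * r) := ⟨fun s hs => haa (by
    have hv := hno (s • a + e) (by simp [hax, hex]) (by
      simp only [map_add, map_smul, LinearMap.add_apply, LinearMap.smul_apply, smul_eq_mul, hea, hae, ← hA, ← hEe,
        hE']
      linear_combination A * hs)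
    have e1 := congrArg (fun v => B hE v e) hv
    simp [hae, ← hEe, hee] at e1)⟩
  haveI : Finite (QuadraticAlgebra K (-δ) 0) := Finite.of_equiv _ (QuadraticAlgebra.equivProd (-δ) 0).symm
  let rot : QuadraticAlgebra K (-δ) 0 → (ι → F) →ₗ[K] ι → F := fun w =>
    LinearMap.id + (A⁻¹ • (B hE).flip a).smulRight ((w.re - 1) • a + w.im • e) +
      (E⁻¹ • (B hE).flip e).smulRight ((-δ * w.im) • a + (w.re - 1) • e)
  have hrot : ∀ w v, rot w v = v + (B hE v a / A) • ((w.re - 1) • a + w.im • e) +
      (B hE v e / E) • ((-δ * w.im) • a + (w.re - 1) • e) := fun w v => by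
    simp [rot, div_eq_inv_mul]
  have hrot1 : ∀ v, rot 1 v = v := fun v => by
    rw [hrot, QuadraticAlgebra.re_one, QuadraticAlgebra.im_one]
    simp
  have hrotm : ∀ w w' v, rot (w * w') v = rot w (rot w' v) := fun w w' v => by
    rw [hrot, hrot w', hrot w]
    simp only [QuadraticAlgebra.re_mul, QuadraticAlgebra.im_mul, map_add, map_smul, LinearMap.add_apply,
      LinearMap.smul_apply, smul_eq_mul, hea, hae, ← hA, ← hEe, mul_zero, zero_mul, add_zero, zero_add]
    match_scalars <;> field_simp <;> ring
  choose g hgk hgz using fun w : (QuadraticAlgebra K (-δ) 0)ˣ => exists_gl (rot w) (rot ((w⁻¹ : _ˣ) : QuadraticAlgebra K (-δ) 0))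
    (fun v => by rw [← hrotm, ← Units.val_mul, mul_inv_cancel, Units.val_one, hrot1])
    (fun v => by rw [← hrotm, ← Units.val_mul, inv_mul_cancel, Units.val_one, hrot1])
  let G : (QuadraticAlgebra K (-δ) 0)ˣ →* GL ι F :=
    { toFun := g
      map_one' := ext_mv fun v => by rw [hgz, Units.val_one, hrot1, mv_one]
      map_mul' := fun x y => ext_mv fun v => by rw [mv_mul, hgz, hgz, hgz, Units.val_mul, hrotm] }
  let N₁ := (Units.map (QuadraticAlgebra.norm (R := K) (a := -δ) (b := (0 : K)))).ker
  let T : N₁ →* GL ι F := G.comp ((powMonoidHom 2).comp N₁.subtype)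
  have hT : ∀ z : N₁, ∀ v, mv (T z) v = rot ((z.1 : QuadraticAlgebra K (-δ) 0) * z.1) v := fun z v => by
    show mv (g (z.1 ^ 2)) v = _
    rw [hgz, pow_two, Units.val_mul]
  have hN : ∀ z : N₁, z.1.1.re * z.1.1.re + δ * (z.1.1.im * z.1.1.im) = 1 := fun z => by
    have e := congrArg Units.val (MonoidHom.mem_ker.1 z.2)
    rw [Units.coe_map, Units.val_one] at e
    simp [QuadraticAlgebra.norm_def] at e
    linear_combination e
  have hre1 : ∀ z : N₁, ((z.1.1 : QuadraticAlgebra K (-δ) 0) * z.1.1).re = 1 →
      (z.1.1 : QuadraticAlgebra K (-δ) 0) * z.1.1 = 1 := by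
    intro z h
    have h' := hN z
    simp [QuadraticAlgebra.re_mul] at h
    have him : z.1.1.im = 0 := by
      have : δ * (z.1.1.im * z.1.1.im) * 2 = 0 := by linear_combination h' - h
      simpa [hδ, h2] using this
    rw [him] at h'
    refine QuadraticAlgebra.ext ?_ ?_
    · rw [QuadraticAlgebra.re_mul, him]
      show _ = (1 : K)
      linear_combination h'
    · rw [QuadraticAlgebra.im_mul, him]
      show _ = (0 : K)
      ring
  haveI : IsCyclic N₁ := inferInstance
  refine ⟨T.range, ?_, isCyclic_of_surjective _ T.rangeRestrict_surjective, ?_, ?_, Or.inr ?_⟩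
  · rintro _ ⟨z, rfl⟩
    by_cases hX : z.1.1.re = 1
    · have h' := hN z
      have him : z.1.1.im = 0 := by
        rw [hX] at h'
        simpa [hδ] using (by linear_combination h' : δ * (z.1.1.im * z.1.1.im) = 0)
      rw [show T z = 1 from ext_mv fun v => by
        rw [hT, show (z.1.1 : QuadraticAlgebra K (-δ) 0) * z.1.1 = 1 from hre1 z (by
          simp [QuadraticAlgebra.re_mul, him, hX]), hrot1, mv_one]]
      exact M.one_mem
    set b := z.1.1.re • a - z.1.1.im • e with hb
    have hab : B hE a b = z.1.1.re * A := by simp [hb, hae, ← hA]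
    have hbb : A = B hE b b := by
      simp only [hb, map_sub, map_smul, LinearMap.sub_apply, LinearMap.smul_apply, smul_eq_mul, hea, hae, ← hA,
        ← hEe, hE']
      linear_combination -A * hN z
    obtain ⟨P, hP, hPk, -, hPz⟩ := exists_pair_mem hE hM hbb haa
      (by rw [← hA, hab]; exact fun h0 => hX (mul_right_cancel₀ haa (by linear_combination -h0)))
    rw [show T z = P from ext_mv fun v => ?_]
    · exact hP
    rw [hT, hPz, hrot, hab, hb]
    simp only [QuadraticAlgebra.re_mul, QuadraticAlgebra.im_mul, map_sub, map_smul, smul_eq_mul, ← hA, hE', zero_mul,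
      add_zero]
    match_scalars <;> field_simp <;>
      first
      | linear_combination (-(B hE v a)) * hN z
      | linear_combination (B hE v e) * hN z
      | linear_combination (-(B hE v e)) * hN z
      | linear_combination (B hE v a) * hN z
  · rintro _ ⟨z, rfl⟩ t
    rw [hT, hrot]
    simp [hxa, hxe]
  · rintro _ ⟨z, rfl⟩ hne v hv
    obtain ⟨w, hw⟩ : ∃ w, w = (z.1.1 : QuadraticAlgebra K (-δ) 0) * z.1.1 := ⟨_, rfl⟩
    have hw1 : w.re ≠ 1 := fun h => hne (ext_mv fun v => by rw [hT, hre1 z (hw ▸ h), hrot1, mv_one])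
    have hwN : w.re * w.re + δ * (w.im * w.im) = 1 := by
      simp only [hw, QuadraticAlgebra.re_mul, QuadraticAlgebra.im_mul]
      linear_combination (z.1.1.re * z.1.1.re + δ * (z.1.1.im * z.1.1.im) + 1) * hN z
    rw [hT, ← hw, hrot, add_assoc, add_eq_left] at hv
    have e1 := congrArg (fun y => B hE y a) hv
    have e2 := congrArg (fun y => B hE y e) hv
    simp [← hA, ← hEe, hea, hae] at e1 e2
    have hd0 : (w.re - 1) * (w.re - 1) + δ * (w.im * w.im) ≠ 0 := fun h => hw1 (by
      have : (2 : K) * (1 - w.re) = 0 := by linear_combination h - hwN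
      exact (sub_eq_zero.1 ((mul_eq_zero.1 this).resolve_left h2)).symm)
    rw [hE'] at e1 e2
    field_simp at e1 e2
    have p0 : B hE v a = 0 := (mul_eq_zero.1 (show B hE v a *
        ((w.re - 1) * (w.re - 1) + δ * (w.im * w.im)) = 0 by
      linear_combination (w.re - 1) * e1 + w.im * e2)).resolve_right hd0
    have q0 : B hE v e = 0 := by
      rw [p0] at e2
      simp [sub_ne_zero.2 hw1] at e2
      exact e2
    refine mem_line.2 ⟨B hE v x / B hE x x, ?_⟩
    conv_rhs => rw [hdec v, p0, q0]
    simp
  · have hcardN : Nat.card N₁ = Nat.card K + 1 := by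
      have hsurj : Function.Surjective (Units.map (QuadraticAlgebra.norm (R := K) (a := -δ) (b := (0 : K)))) := by
        intro c
        obtain ⟨X, Y, h⟩ := exists_root hE one_ne_zero hδ (c : K)
        refine ⟨Units.mk0 ⟨X, Y⟩ fun h0 => c.ne_zero ?_, Units.ext ?_⟩
        · have e1 : X = 0 := congrArg QuadraticAlgebra.re h0
          have e2 : Y = 0 := congrArg QuadraticAlgebra.im h0
          rw [← h, e1, e2]; ring
        · rw [Units.coe_map, Units.val_mk0, ← h, QuadraticAlgebra.norm_def]
          ring
      have hi := N₁.card_mul_index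
      rw [Subgroup.index_ker, MonoidHom.range_eq_top.2 hsurj, Subgroup.card_top, Nat.card_units, Nat.card_units,
        Nat.card_congr (QuadraticAlgebra.equivProd (-δ) 0), Nat.card_prod] at hi
      have hK : 1 < Nat.card K := Finite.one_lt_card
      obtain ⟨k, hk⟩ : ∃ k, Nat.card K = k + 1 := ⟨_, (Nat.sub_add_cancel hK.le).symm⟩
      rw [hk, Nat.add_sub_cancel, show (k + 1) * (k + 1) - 1 = (k + 2) * k by
        rw [show (k + 1) * (k + 1) = (k + 2) * k + 1 by ring, Nat.add_sub_cancel]] at hi
      rw [hk, Nat.eq_of_mul_eq_mul_right (by omega) hi]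
    have hneg : (-1 : (QuadraticAlgebra K (-δ) 0)ˣ) ∈ N₁ := by
      refine MonoidHom.mem_ker.2 (Units.ext ?_)
      rw [Units.coe_map, Units.val_neg, Units.val_one, Units.val_one, QuadraticAlgebra.norm_neg, map_one]
    rw [← hcardN]
    refine (card_range_mul_two T ⟨-1, hneg⟩ (fun h => two' hE ?_) fun z => ?_).symm
    · have e := congrArg (fun w : N₁ => w.1.1.re) h
      have e1 : (1 : QuadraticAlgebra K (-δ) 0).re = 1 := rfl
      simp [e1] at e
      linear_combination -e
    constructor
    · intro h
      have e1 := congrArg (fun P => B hE (mv P a) a) h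
      rw [hT, hrot, mv_one] at e1
      simp [← hA, hea, hae] at e1
      have hw := hre1 z (by
        simp only [QuadraticAlgebra.re_mul]
        simp [haa] at e1
        linear_combination e1)
      rcases mul_self_eq_one_iff.1 hw with hw | hw
      · exact Or.inl (Subtype.ext (Units.ext hw))
      · exact Or.inr (Subtype.ext (Units.ext (by simpa using hw)))
    · rintro (rfl | rfl)
      · exact T.map_one
      · exact ext_mv fun v => by rw [hT, mv_one]; simp [hrot1]

end Cfsg.Agent.OrthFieldExt
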