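/-
Three dimensions over the field, no corner elements: the lines through an anisotropic conjugate vector are too many.
-/
import Cfsg.Agent.Lib.OrthFieldExt.ThreeMeet
import Cfsg.Agent.Lib.OrthFieldExt.ThreeTorus

set_option autoImplicit false
set_option linter.all false
set_option maxHeartbeats 1000000

namespace Cfsg.Agent.OrthFieldExt

open scoped Matrix
open Matrix Cfsg.Agent.Transvec Cfsg.Agent.Transvec.Orth

/-- Orbit and stabiliser. -/
theorem card_orbit_mul {H X : Type*} [Group H] [MulAction H X] (x : X) :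
    Nat.card (MulAction.orbit H x) * Nat.card (MulAction.stabilizer H x) = Nat.card H := by
  rw [Nat.card_congr (MulAction.orbitEquivQuotientStabilizer H x)]
  exact (Subgroup.card_eq_card_quotient_mul_card_subgroup _).symm

theorem smul_coset_eq {G : Type*} [Group G] {S : Subgroup G} (c A : G) :
    c • (QuotientGroup.mk A : G ⧸ S) = QuotientGroup.mk A ↔ A⁻¹ * c * A ∈ S := by
  rw [eq_comm]
  show QuotientGroup.mk A = QuotientGroup.mk (c * A) ↔ _
  rw [QuotientGroup.eq, mul_assoc]

theorem three_pow_big {r : ℕ} (hr : 5 ≤ r) : 4 * r * (2 * r + 1) < 3 ^ r + 1 := by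
  induction r, hr using Nat.le_induction with
  | base => norm_num
  | succ k hk ih => rw [pow_succ]; nlinarith

theorem bound_split {q Q m k : ℕ} (hq : 3 ≤ q) (hQ : 243 ≤ Q) (hqQ : 81 * q ≤ Q) (hm : 2 * m + 1 = Q)
    (hdvd : m ∣ k * Q + 1) (hb : (k * Q + 1) * (Q - q) * 3 ≤ Q * Q * Q) : False := by
  have h1 : m ∣ k + 1 := by
    have h : k * Q + 1 = 2 * k * m + (k + 1) := by rw [← hm]; ring
    rw [h] at hdvd
    exact (Nat.dvd_add_iff_right (dvd_mul_left m (2 * k))).2 hdvd
  have h2 := Nat.le_of_dvd (by omega) h1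
  obtain ⟨d, hd⟩ : ∃ d, Q = q + d := ⟨Q - q, by omega⟩
  have hd' : Q - q = d := by omega
  rw [hd'] at hb
  have h3 : (Q - 3) * Q * d * 3 ≤ 2 * (Q * Q * Q) := by
    obtain ⟨e, he⟩ : ∃ e, Q = e + 3 := ⟨Q - 3, by omega⟩
    rw [show Q - 3 = e by omega]
    have h4 : e * Q ≤ 2 * (k * Q + 1) := by
      have : e ≤ 2 * k := by omega
      nlinarith
    nlinarith
  obtain ⟨e, he⟩ : ∃ e, Q = e + 3 := ⟨Q - 3, by omega⟩
  rw [show Q - 3 = e by omega] at h3
  have h5 : 80 * Q ≤ 81 * d := by omega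
  have h6 : 3 * e * d ≤ 2 * (Q * Q) := by nlinarith
  have h7 : 240 * e ≤ 162 * Q := by nlinarith
  omega

theorem bound_nonsplit {q Q m k : ℕ} (hq : 3 ≤ q) (hQ : 243 ≤ Q) (hqQ : 81 * q ≤ Q) (hm : Q + 1 = 2 * m)
    (hdvd : m ∣ k * Q + 1) (hb : (k * Q + 1) * (Q - q) * 3 ≤ Q * Q * Q) : k = 1 := by
  rcases Nat.eq_zero_or_pos k with rfl | hk
  · have := Nat.le_of_dvd one_pos (by simpa using hdvd)
    omega
  by_contra hk1
  obtain ⟨l, rfl⟩ : ∃ l, k = l + 1 := ⟨k - 1, by omega⟩
  have h1 : m ∣ l := by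
    have h : (l + 1) * Q + 1 + l = (2 * (l + 1)) * m := by
      have : (l + 1) * Q + (l + 1) = (l + 1) * (2 * m) := by rw [← hm]; ring
      linarith
    have h' : m ∣ (l + 1) * Q + 1 + l := h ▸ dvd_mul_left m _
    exact (Nat.dvd_add_iff_right hdvd).2 h'
  have h2 := Nat.le_of_dvd (by omega) h1
  obtain ⟨d, hd⟩ : ∃ d, Q = q + d := ⟨Q - q, by omega⟩
  rw [show Q - q = d by omega] at hb
  have h4 : Q * Q ≤ 2 * ((l + 1) * Q + 1) := by
    have : Q ≤ 2 * (l + 1) := by omega
    nlinarith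
  have h5 : 80 * Q ≤ 81 * d := by omega
  have h6 : Q * Q * d * 3 ≤ 2 * (Q * Q * Q) := by nlinarith
  have h8 : 240 * (Q * Q * Q) ≤ 162 * (Q * Q * Q) := by nlinarith
  have : 0 < Q * Q * Q := by positivity
  omega

variable {ι : Type} [Fintype ι] [DecidableEq ι] {F : Type*} [Field F] {Q : (ι → F) → F}
variable {K : Type*} [Field K] [Algebra F K] [Module K (ι → F)] [IsScalarTower F K (ι → F)] [FiniteDimensional F K]

/-- The stabiliser of a subspace. -/
def stabSub (S : Submodule F (ι → F)) : Subgroup (GL ι F) where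
  carrier := {A | S.map (mvLin A) = S}
  one_mem' := map_mv_one S
  mul_mem' := fun {a b} (ha : S.map (mvLin a) = S) (hb : S.map (mvLin b) = S) => by
    show S.map (mvLin (a * b)) = S
    rw [map_mv_mul, hb, ha]
  inv_mem' := fun {a} (ha : S.map (mvLin a) = S) => by
    show S.map (mvLin a⁻¹) = S
    conv_lhs => rw [← ha]
    rw [← map_mv_mul, inv_mul_cancel, map_mv_one]

theorem mem_stabSub {S : Submodule F (ι → F)} {A : GL ι F} : A ∈ stabSub S ↔ S.map (mvLin A) = S := Iff.rfl

variable {ℓ : Module.Dual F K} (hE : Ext Q ℓ)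
include hE
variable {u f b : ι → F} (hfr : Fr hE u f b) {M : Subgroup (GL ι F)} (hM : Over Q K M) [Finite F]
include hfr hM
variable (hR : Rigid hE M u) (hr : (Module.finrank F K).Prime) (hr3 : 3 ≤ Module.finrank F K)
include hR hr hr3

theorem Fr.line_fix {g A : GL ι F} (hg : g ∈ M) (hA : A ∈ M) (hl : (img K g u).map (mvLin A) = img K g u)
    {v : ι → F} (hv : v ∈ img K g u) (hv0 : v ≠ 0) (hfix : mv A v = v) (h4 : 4 ≤ Module.finrank F (fixS A))
    (hA1 : A ≠ 1) : fixS A = img K g u := by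
  obtain ⟨t₀, rfl⟩ := mem_img.1 hv
  have hfm : (fixS A).map (mvLin g⁻¹) = fixS (g⁻¹ * A * g) := by
    ext z
    rw [mem_map_mv, inv_inv, mem_fixS, mem_fixS, mv_mul, mv_mul]
    exact ⟨fun h => by rw [h, mv_inv_mv], fun h => ((mv_eq_iff g⁻¹).1 h).trans (by rw [inv_inv])⟩
  have h4' : 4 ≤ Module.finrank F (fixS (g⁻¹ * A * g)) := by rw [← hfm, finrank_map_mv]; exact h4
  obtain ⟨ν, hν⟩ := hfr.stab_of_four hE hM hR hr (hr.odd_of_ne_two (by omega))
    (M.mul_mem (M.mul_mem (M.inv_mem hg) hA) hg)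
    (fun t => by
      have h1 := hl.le (mv_mem_map A (mem_img.2 ⟨t, rfl⟩ : mv g (t • u) ∈ img K g u))
      obtain ⟨s, hs⟩ := mem_img.1 h1
      rw [mv_mul, mv_mul, ← hs, mv_inv_mv]
      exact mem_line.2 ⟨s, rfl⟩)
    (fun h => hv0 (by rw [h, zero_smul, mv_zero]) : t₀ ≠ 0) (by rw [mv_mul, mv_mul, hfix, mv_inv_mv]) h4'
  have hν0 : ν ≠ 0 := fun h => hA1 (by
    have h1 : g⁻¹ * A * g = 1 := ext_mv fun z => by rw [hν, h, mv_one]; simp
    rw [← conj_eq_one_iff (a := g⁻¹)]
    simpa [mul_assoc] using h1)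
  have hline : fixS (g⁻¹ * A * g) = line K u := le_antisymm
    (fun z hz => hfr.rho_fixed hE hM hν hν0 (mem_fixS.1 hz)) fun z hz => by
      obtain ⟨t, rfl⟩ := mem_line.1 hz
      exact mem_fixS.2 (hfr.rho_fix_line hE hM hν t)
  rw [img, ← hline, ← hfm, ← map_mv_mul, mul_inv_cancel, map_mv_one]

theorem Fr.pair_le_one {g g' : GL ι F} (hg : g ∈ M) (hg' : g' ∈ M) (hne : img K g u ≠ img K g' u) :
    Module.finrank F ↥(img K g u ⊓ img K g' u) ≤ 1 := by
  have hline : line K u = (img K g u).map (mvLin g⁻¹) := by rw [img, ← map_mv_mul, inv_mul_cancel, map_mv_one]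
  have himg : img K (g⁻¹ * g') u = (img K g' u).map (mvLin g⁻¹) := by rw [img, img, map_mv_mul]
  have h := hfr.meet_le_one hE hM hR hr hr3 (M.mul_mem (M.inv_mem hg) hg') fun e => hne (by
    rw [himg, hline] at e
    exact (Submodule.map_injective_of_injective (mvLin_inj g⁻¹) e).symm)
  rwa [meet, himg, hline, ← Submodule.map_inf _ (mvLin_inj g⁻¹), finrank_map_mv] at h

/-- Conjugate lines cannot meet an anisotropic vector. -/
theorem Fr.no_tor (hr5 : 5 ≤ Module.finrank F K) {g : GL ι F} (hg : g ∈ M) (hx : B hE (mv g u) (mv g u) ≠ 0) {C : Subgroup (GL ι F)}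
    (hC : Tor K M (mv g u) C) : False := by
  classical
  haveI : Finite K := Module.finite_of_finite F
  haveI : Fintype K := Fintype.ofFinite K
  haveI : Fintype F := Fintype.ofFinite F
  have hu0 := hfr.hyp.ne_left hE
  have hodd : Odd (Module.finrank F K) := hr.odd_of_ne_two (by omega)
  set x := mv g u with hxdef
  set L := img K g u with hLdef
  have hxL : x ∈ L := mem_img.2 ⟨1, by rw [one_smul]⟩
  have hx0 : x ≠ 0 := fun h => hx (by rw [h]; simp)
  -- sizes
  set q := Fintype.card F with hqdef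
  set r := Module.finrank F K with hrdef
  set m := Nat.card C with hmdef
  have hQK : Nat.card K = q ^ r := by rw [Nat.card_eq_fintype_card]; exact Module.card_eq_pow_finrank
  have hq : 3 ≤ q := by
    have h1 := FiniteField.odd_card_of_char_ne_two (F := F) fun h => hE.two (by
      haveI := ringChar.eq_iff.1 h
      exact CharP.cast_eq_zero F 2)
    have := Fintype.one_lt_card (α := F)
    omega
  have hQ5 : q * 81 ≤ q ^ r := by
    calc q * 81 = q * 3 ^ 4 := by norm_num
      _ ≤ q * q ^ 4 := Nat.mul_le_mul_left _ (Nat.pow_le_pow_left hq 4)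
      _ = q ^ 5 := by ring
      _ ≤ q ^ r := Nat.pow_le_pow_right (by omega) hr5
  have hQr : 3 ^ r ≤ q ^ r := Nat.pow_le_pow_left hq r
  -- the group fixing the vector and its subgroups
  set G : Subgroup (GL ι F) := M ⊓ fixSub (F ∙ x) with hG
  have hGx : ∀ A : G, mv (A : GL ι F) x = x := fun A => A.2.2 x (Submodule.mem_span_singleton_self x)
  have hmemG : ∀ A ∈ M, mv A x = x → A ∈ G := fun A hA h => ⟨hA, fun z hz => by
    obtain ⟨c, rfl⟩ := Submodule.mem_span_singleton.1 hz
    rw [mv_smul, h]⟩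
  set Sl : Subgroup G := (stabSub L).subgroupOf G with hSl
  set Gs : Subgroup G := (stabSub (line K x)).subgroupOf G with hGs
  set Cp : Subgroup G := (fixSub (line K x)).subgroupOf G with hCp
  have hCG : C ≤ G := fun c hc => hmemG c (hC.le hc) (by simpa using hC.fix c hc 1)
  set Cg : Subgroup G := C.subgroupOf G with hCg
  have hCgm : Nat.card Cg = m := Nat.card_congr (Subgroup.subgroupOfEquivOfLe hCG).toEquiv
  have hCgCp : Cg ≤ Cp := fun c hc z hz => by
    obtain ⟨t, rfl⟩ := mem_line.1 hz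
    exact hC.fix _ hc t
  have hxK : ∀ A : G, x ∈ img K ((A : GL ι F) * g) u := fun A => by
    rw [img, map_mv_mul]
    exact hGx A ▸ mv_mem_map (A : GL ι F) hxL
  have himgA : ∀ A : G, img K ((A : GL ι F) * g) u = L.map (mvLin (A : GL ι F)) := fun A => by
    rw [img, map_mv_mul]; rfl
  have hconjSl : ∀ (c A : G), A⁻¹ * c * A ∈ Sl →
      (img K ((A : GL ι F) * g) u).map (mvLin (c : GL ι F)) = img K ((A : GL ι F) * g) u := by
    intro c A h
    have h1 : L.map (mvLin ((A⁻¹ * c * A : G) : GL ι F)) = L := h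
    have h3 := congrArg (Submodule.map (mvLin (A : GL ι F))) h1
    rw [← map_mv_mul] at h3
    rw [himgA, ← map_mv_mul]
    convert h3 using 3
    simp [mul_assoc]
  -- elements fixing the K-line of the vector move every line through it
  have hfree : ∀ c : G, c ∈ Cp → c ≠ 1 → ∀ A : G, A⁻¹ * c * A ∉ Sl := by
    intro c hc hc1 A hA
    have hle : line K x ≤ fixS (c : GL ι F) := fun z hz => mem_fixS.2 (hc z hz)
    have h4 := Submodule.finrank_mono hle
    rw [finrank_line hx0] at h4
    have e := hfr.line_fix hE hM hR hr (le_trans (by norm_num) hr5) (M.mul_mem A.2.1 hg) c.2.1 (hconjSl c A hA) (hxK A) hx0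
      (hGx c) (by omega) fun h => hc1 (Subtype.ext h)
    obtain ⟨t, ht⟩ := exists_ell_mul hE hx
    refine ht ?_
    rw [ell_B hE, img_pol hE hM (M.mul_mem A.2.1 hg) hfr.hyp.1 (e ▸ hle (mem_line.2 ⟨t, rfl⟩)) (hxK A)]
  obtain ⟨N, hN⟩ : ∃ N, N = Nat.card (G ⧸ Sl) := ⟨_, rfl⟩
  have hmN : m ∣ N := by
    have h := dvd_of_orbits (H := Cg) (X := G ⧸ Sl) (m := m) (c := 1) ∅ (fun y hy => absurd hy (Set.notMem_empty _))
      (fun y _ => by
        induction y using QuotientGroup.induction_on with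
        | _ A =>
          have hst : Nat.card (MulAction.stabilizer Cg (QuotientGroup.mk A : G ⧸ Sl)) = 1 := by
            rw [Subgroup.card_eq_one, eq_bot_iff]
            intro c hc
            by_contra hne
            exact hfree c.1 (hCgCp c.2) (fun h => hne (Subgroup.mem_bot.2 (Subtype.ext h))) A
              ((smul_coset_eq c.1 A).1 hc)
          have h1 := card_orbit_mul (H := Cg) (QuotientGroup.mk A : G ⧸ Sl)
          rw [hst, mul_one, hCgm] at h1
          rw [h1, one_mul])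
    rw [show Nat.card (∅ : Set (G ⧸ Sl)) = 0 from Nat.card_of_isEmpty, ← hN] at h
    simp only [Nat.cast_one, one_mul, Nat.cast_zero] at h
    exact (ZMod.natCast_eq_zero_iff _ _).1 h
  -- the unipotent group of the line
  obtain ⟨ρ, hρinj, hρM, hρz⟩ := hfr.exists_rhoHom hE hM
  let ρg : Multiplicative K →* GL ι F := (MulAut.conj g).toMonoidHom.comp ρ
  have hρg : ∀ ν, ρg ν = g * ρ ν * g⁻¹ := fun ν => rfl
  have hρfix : ∀ ν, ∀ z ∈ L, mv (ρg ν) z = z := fun ν z hz => by
    obtain ⟨t, rfl⟩ := mem_img.1 hz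
    rw [hρg, mv_mul, mv_mul, mv_inv_mv, hfr.rho_fix_line hE hM (hρz ν)]
  have hρG : ∀ ν, ρg ν ∈ G := fun ν => hmemG _ (M.mul_mem (M.mul_mem hg (hρM ν)) (M.inv_mem hg)) (hρfix ν x hxL)
  let ρG : Multiplicative K →* G := ρg.codRestrict G hρG
  set R := ρG.range with hRdef
  have hρGinj : Function.Injective ρG := fun a b h => hρinj ((MulAut.conj g).injective (congrArg Subtype.val h))
  have hRcard : Nat.card R = q ^ r := by
    rw [hRdef, ← Nat.card_congr (MonoidHom.ofInjective hρGinj).toEquiv]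
    exact hQK
  have hRfix : ∀ a ∈ R, ∀ z ∈ L, mv (a : GL ι F) z = z := by
    rintro _ ⟨ν, rfl⟩ z hz
    exact hρfix ν z hz
  have hRSl : R ≤ Sl := fun a ha => by
    show L.map (mvLin (a : GL ι F)) = L
    refine le_antisymm ?_ fun z hz => ?_
    · rintro _ ⟨z, hz, rfl⟩
      rwa [mvLin_eq, hRfix a ha z hz]
    · exact hRfix a ha z hz ▸ mv_mem_map _ hz
  have hRfixS : ∀ a ∈ R, a ≠ 1 → fixS (a : GL ι F) = L := by
    rintro _ ⟨ν, rfl⟩ hne
    refine le_antisymm (fun z hz => ?_) fun z hz => mem_fixS.2 (hρfix ν z hz)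
    have hz' : mv (ρ ν) (mv g⁻¹ z) = mv g⁻¹ z := by
      have e := mem_fixS.1 hz
      rw [show ((ρG ν : G) : GL ι F) = g * ρ ν * g⁻¹ from rfl, mv_mul, mv_mul] at e
      exact ((mv_eq_iff g).1 e)
    obtain ⟨t, ht⟩ := mem_line.1 (hfr.rho_fixed hE hM (hρz ν)
      (fun h => hne (by rw [show ν = 1 from h, map_one])) hz')
    exact mem_img.2 ⟨t, by rw [ht, mv_mv_inv]⟩
  have hNQ : N % (q ^ r) = 1 := by
    have h := dvd_of_orbits (H := R) (X := G ⧸ Sl) (m := q ^ r) (c := 1) {QuotientGroup.mk 1}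
      (fun y hy a => by
        rw [Set.mem_singleton_iff] at hy
        subst hy
        exact (smul_coset_eq a.1 1).2 (by rw [inv_one, one_mul, mul_one]; exact hRSl a.2))
      (fun y hy => by
        induction y using QuotientGroup.induction_on with
        | _ A =>
          have hA : A ∉ Sl := fun h => hy (by
            rw [Set.mem_singleton_iff, QuotientGroup.eq, mul_one]
            exact Sl.inv_mem h)
          have hst : Nat.card (MulAction.stabilizer R (QuotientGroup.mk A : G ⧸ Sl)) = 1 := by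
            rw [Subgroup.card_eq_one, eq_bot_iff]
            intro a ha
            by_contra hne
            have ha1 : a.1 ≠ 1 := fun h => hne (Subgroup.mem_bot.2 (Subtype.ext h))
            have hf := hRfixS a.1 a.2 ha1
            have e := hfr.line_fix hE hM hR hr (le_trans (by norm_num) hr5) (M.mul_mem A.2.1 hg) a.1.2.1
              (hconjSl a.1 A ((smul_coset_eq a.1 A).1 ha)) (hxK A) hx0 (hGx a.1)
              (by rw [hf, hLdef, finrank_img g hu0]; omega) fun h => ha1 (Subtype.ext h)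
            refine hA ?_
            show L.map (mvLin (A : GL ι F)) = L
            rw [← himgA, ← e, hf]
          have h1 := card_orbit_mul (H := R) (QuotientGroup.mk A : G ⧸ Sl)
          rw [hst, mul_one, hRcard] at h1
          rw [h1, one_mul])
    rw [show Nat.card ({QuotientGroup.mk 1} : Set (G ⧸ Sl)) = 1 from Nat.card_unique, ← hN] at h
    simp only [Nat.cast_one, one_mul] at h
    rw [← Nat.cast_one, ZMod.natCast_eq_natCast_iff'] at h
    rw [h, Nat.one_mod_eq_one]
    omega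
  obtain ⟨k, hk⟩ : ∃ k, N = k * q ^ r + 1 := ⟨N / q ^ r, by
    have := Nat.div_add_mod N (q ^ r)
    rw [hNQ] at this
    linarith⟩
  -- the lines through the vector are disjoint outside it
  have hbound : (k * q ^ r + 1) * (q ^ r - q) * 3 ≤ q ^ r * q ^ r * q ^ r := by
    rw [← hk]
    set H := LinearMap.ker (formQ hE.quad x) with hH
    have hHd : Module.finrank F H + 1 ≤ 3 * r := by
      have hne : H ≠ ⊤ := fun h => by
        obtain ⟨y, hy⟩ := (hE.quad.nondegenerate x hx0).2
        have hyH : y ∈ H := h ▸ Submodule.mem_top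
        rw [hH, LinearMap.mem_ker, formQ_apply, pol_comm] at hyH
        exact hy hyH
      have h1 := Submodule.finrank_lt hne
      have h3 := Module.finrank_mul_finrank F K (ι → F)
      rw [hfr.dim] at h3
      omega
    let V' := {v : L // v.1 ∉ F ∙ x}
    have hV' : Nat.card V' = q ^ r - q := by
      have hcL : Fintype.card L = q ^ r := by
        rw [Module.card_eq_pow_finrank (K := F) (V := L), hLdef, finrank_img g hu0]
      have hcx : Fintype.card {v : L // v.1 ∈ F ∙ x} = q := by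
        rw [show Fintype.card {v : L // v.1 ∈ F ∙ x} = Fintype.card ↥(F ∙ x) from
          Fintype.card_congr (Submodule.comapSubtypeEquivOfLe
          (show F ∙ x ≤ L by rw [Submodule.span_singleton_le_iff_mem]; exact hxL)).toEquiv,
          Module.card_eq_pow_finrank (K := F) (V := ↥(F ∙ x)), finrank_span_singleton hx0, pow_one]
      rw [Nat.card_eq_fintype_card, Fintype.card_subtype_compl, hcL, hcx]
    have hmemH : ∀ (A : G) (v : L), mv (A : GL ι F) v.1 ∈ H := fun A v => by
      rw [hH, LinearMap.mem_ker, formQ_apply]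
      conv_lhs => arg 3; rw [← hGx A]
      rw [pol_mv hE.quad (M_iso hE hM A.2.1)]
      exact img_pol hE hM hg hfr.hyp.1 v.2 hxL
    let φ : (G ⧸ Sl) × V' → H := fun p => ⟨mv ((Quotient.out p.1 : G) : GL ι F) p.2.1.1, hmemH _ _⟩
    have hφ : Function.Injective φ := by
      rintro ⟨ω₁, v₁⟩ ⟨ω₂, v₂⟩ he
      have he' : mv ((Quotient.out ω₁ : G) : GL ι F) v₁.1.1 = mv ((Quotient.out ω₂ : G) : GL ι F) v₂.1.1 :=
        congrArg Subtype.val he
      set A₁ : G := Quotient.out ω₁ with hA₁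
      set A₂ : G := Quotient.out ω₂ with hA₂
      set w := mv (A₁ : GL ι F) v₁.1.1 with hw
      have hwx : w ∉ F ∙ x := fun h => by
        obtain ⟨c, hc⟩ := Submodule.mem_span_singleton.1 h
        refine v₁.2 (Submodule.mem_span_singleton.2 ⟨c, mv_inj (A₁ : GL ι F) ?_⟩)
        rw [mv_smul, hGx, hc]
      have hl1 : w ∈ img K ((A₁ : GL ι F) * g) u := himgA A₁ ▸ mv_mem_map _ v₁.1.2
      have hl2 : w ∈ img K ((A₂ : GL ι F) * g) u := himgA A₂ ▸ he' ▸ mv_mem_map _ v₂.1.2
      have heq : img K ((A₁ : GL ι F) * g) u = img K ((A₂ : GL ι F) * g) u := by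
        by_contra hne
        have h1 := hfr.pair_le_one hE hM hR hr (le_trans (by norm_num) hr5) (M.mul_mem A₁.2.1 hg) (M.mul_mem A₂.2.1 hg) hne
        have hlt : F ∙ x < F ∙ x ⊔ F ∙ w := lt_of_le_of_ne le_sup_left fun h =>
          hwx (h ▸ Submodule.mem_sup_right (Submodule.mem_span_singleton_self w))
        have h3 := Submodule.finrank_lt_finrank_of_lt hlt
        rw [finrank_span_singleton hx0] at h3
        have h5 := Submodule.finrank_mono (show F ∙ x ⊔ F ∙ w ≤
            img K ((A₁ : GL ι F) * g) u ⊓ img K ((A₂ : GL ι F) * g) u by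
          refine sup_le ?_ ?_ <;> rw [Submodule.span_singleton_le_iff_mem]
          · exact ⟨hxK A₁, hxK A₂⟩
          · exact ⟨hl1, hl2⟩)
        omega
      have hω : ω₁ = ω₂ := by
        rw [← Quotient.out_eq ω₁, ← Quotient.out_eq ω₂]
        refine (QuotientGroup.eq (s := Sl)).2 ?_
        show L.map (mvLin ((A₁⁻¹ * A₂ : G) : GL ι F)) = L
        rw [Subgroup.coe_mul, map_mv_mul, ← himgA, ← heq, himgA, ← map_mv_mul, ← Subgroup.coe_mul, inv_mul_cancel,
          Subgroup.coe_one, map_mv_one]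
      subst hω
      exact Prod.ext rfl (Subtype.ext (Subtype.ext (mv_inj _ he')))
    have h1 := Nat.card_le_card_of_injective φ hφ
    rw [Nat.card_prod, hV', ← hN, Nat.card_eq_fintype_card (α := H), Module.card_eq_pow_finrank (K := F) (V := H)] at h1
    calc N * (q ^ r - q) * 3 ≤ q ^ Module.finrank F H * q := Nat.mul_le_mul h1 hq
      _ = q ^ (Module.finrank F H + 1) := (pow_succ _ _).symm
      _ ≤ q ^ (3 * r) := Nat.pow_le_pow_right (by omega) hHd
      _ = q ^ r * q ^ r * q ^ r := by rw [← pow_add, ← pow_add]; ring_nf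
  have hdvdk : m ∣ k * q ^ r + 1 := hk ▸ hmN
  rcases hC.card with hm | hm
  · rw [hQK] at hm
    exact bound_split hq (by omega) (by omega) hm hdvdk hbound
  rw [hQK] at hm
  obtain rfl := bound_nonsplit hq (by omega) (by omega) hm hdvdk hbound
  rw [one_mul, hm] at hk
  clear hbound hdvdk hmN hNQ
  -- the field automorphisms attached to the stabiliser of the line
  have hstab : ∀ A : Sl, ∃ σ : K ≃ₐ[F] K, ∀ t : K, mv (g⁻¹ * ((A : G) : GL ι F) * g) (t • u) = σ t • u := by
    intro A
    have hAM : g⁻¹ * ((A : G) : GL ι F) * g ∈ M := M.mul_mem (M.mul_mem (M.inv_mem hg) A.1.2.1) hg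
    have hAu : mv (g⁻¹ * ((A : G) : GL ι F) * g) u = u := by
      rw [mv_mul, mv_mul, ← hxdef, hGx, hxdef, mv_inv_mv]
    obtain ⟨σ, a, p, ha0, hat, -, -⟩ := hfr.stab_data hE hM hR hAM (fun t => by
      have h1 : L.map (mvLin ((A : G) : GL ι F)) = L := A.2
      obtain ⟨s, hs⟩ := mem_img.1 (h1.le (mv_mem_map ((A : G) : GL ι F) (mem_img.2 ⟨t, rfl⟩ : mv g (t • u) ∈ L)))
      rw [mv_mul, mv_mul, ← hs, mv_inv_mv]
      exact mem_line.2 ⟨s, rfl⟩)
    have ha : a = 1 := by
      have e := hat 1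
      rw [one_smul, hAu, map_one, mul_one] at e
      exact (smul_left_injective K hu0 (show (1 : K) • u = a • u by rw [one_smul]; exact e)).symm
    exact ⟨σ, fun t => by rw [hat, ha, one_mul]⟩
  choose σ hσ using hstab
  let ψ : Sl →* (K ≃ₐ[F] K) :=
    { toFun := σ
      map_one' := AlgEquiv.ext fun t => smul_left_injective K hu0 (by
        show σ 1 t • u = (1 : K ≃ₐ[F] K) t • u
        rw [← hσ]; simp [mv_one])
      map_mul' := fun A A' => AlgEquiv.ext fun t => smul_left_injective K hu0 (by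
        show σ (A * A') t • u = (σ A * σ A') t • u
        rw [AlgEquiv.mul_apply, ← hσ, ← hσ, ← hσ, ← mv_mul]
        congr 1
        simp [mul_assoc]) }
  have hker : ψ.ker = R.subgroupOf Sl := by
    ext A
    rw [MonoidHom.mem_ker, Subgroup.mem_subgroupOf]
    constructor
    · intro h
      have hAM : g⁻¹ * ((A : G) : GL ι F) * g ∈ M := M.mul_mem (M.mul_mem (M.inv_mem hg) A.1.2.1) hg
      have hfix : ∀ t : K, mv (g⁻¹ * ((A : G) : GL ι F) * g) (t • u) = t • u := fun t => by
        rw [hσ, show σ A = 1 from h, AlgEquiv.one_apply]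
      obtain ⟨ν, hν⟩ := hfr.stab_of_two hE hM hR hr hodd hAM (fun t => by rw [hfix]; exact mem_line.2 ⟨t, rfl⟩)
        (P := line K u) (le_inf le_rfl fun z hz => by
          obtain ⟨t, rfl⟩ := mem_line.1 hz
          exact mem_fixS.2 (hfix t))
        (by rw [finrank_line hu0]; omega)
      refine ⟨Multiplicative.ofAdd ν, Subtype.ext ?_⟩
      show g * ρ _ * g⁻¹ = _
      rw [isRho_unique hE hfr hM (hρz (Multiplicative.ofAdd ν)) hν]
      group
    · intro h
      refine AlgEquiv.ext fun t => smul_left_injective K hu0 ?_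
      show σ A t • u = t • u
      rw [← hσ, mv_mul, mv_mul, hRfix _ h _ (mem_img.2 ⟨t, rfl⟩), mv_inv_mv]
  have haut : Nat.card (K ≃ₐ[F] K) = r := IsGalois.card_aut_eq_finrank F K
  have hSlcard : Nat.card Sl = q ^ r * Nat.card ψ.range := by
    have h := ψ.ker.card_mul_index
    rw [Subgroup.index_ker, hker, Nat.card_congr (Subgroup.subgroupOfEquivOfLe hRSl).toEquiv, hRcard] at h
    exact h.symm
  have her : Nat.card ψ.range ∣ r := haut ▸ Subgroup.card_subgroup_dvd_card ψ.range
  -- the stabiliser of the K-line contains no unipotent element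
  have hGsR : ∀ a ∈ R, a ∈ Gs → a = 1 := by
    intro a haR haGs
    by_contra ha1
    obtain ⟨ν, hν⟩ := haR
    let Nm : line K x →ₗ[F] line K x := ((mvLin (a : GL ι F) - LinearMap.id).restrict (p := line K x) (q := line K x)
      fun z hz => Submodule.sub_mem _ (by
        rw [mvLin_eq]; exact (mem_stabSub.1 haGs).le (mv_mem_map _ hz)) hz)
    have hNm : ∀ z : line K x, (Nm z : ι → F) = mv (a : GL ι F) z.1 - z.1 := fun z => by
      show ((mvLin (a : GL ι F) - LinearMap.id : (ι → F) →ₗ[F] ι → F)) z.1 = _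
      rw [LinearMap.sub_apply, LinearMap.id_apply, mvLin_eq]
    have hrho3 : ∀ z, mv (ρ ν) (mv (ρ ν) (mv (ρ ν) z - z) - (mv (ρ ν) z - z)) -
        (mv (ρ ν) (mv (ρ ν) z - z) - (mv (ρ ν) z - z)) = 0 := fun z => by
      obtain ⟨huu, hff, huf, hfu, hbu, hbf, hub, hfb⟩ := hfr.rules hE
      rw [hρz ν (mv (ρ ν) (mv (ρ ν) z - z) - (mv (ρ ν) z - z)), hρz ν (mv (ρ ν) z - z), hρz ν z]
      simp [huu, hbu, hub]
    have haz : ∀ z, mv (a : GL ι F) z - z = mv g (mv (ρ ν) (mv g⁻¹ z) - mv g⁻¹ z) := fun z => by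
      rw [← hν, mv_sub, mv_mv_inv, ← mv_mul, ← mv_mul]
      rfl
    have hN3 : ∀ z, Nm (Nm (Nm z)) = 0 := fun z => Subtype.ext (by
      rw [hNm, hNm, hNm, haz, haz, haz, mv_inv_mv, mv_inv_mv, hrho3, mv_zero]
      rfl)
    have h3 := finrank_le_three_mul Nm hN3
    rw [finrank_line hx0] at h3
    have hle : (LinearMap.ker Nm).map (line K x).subtype ≤ line K x ⊓ L := by
      rintro _ ⟨z, hz, rfl⟩
      refine ⟨z.2, ?_⟩
      rw [← hRfixS a ⟨ν, hν⟩ ha1]
      refine mem_fixS.2 (sub_eq_zero.1 ?_)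
      show mv (a : GL ι F) z.1 - z.1 = 0
      rw [← hNm, LinearMap.mem_ker.1 hz]
      rfl
    have h5 := Submodule.finrank_mono hle
    rw [Submodule.finrank_map_subtype_eq] at h5
    obtain ⟨c, hc, hc1⟩ : ∃ c ∈ C, c ≠ 1 := by
      by_contra h
      push Not at h
      have : C = ⊥ := (Subgroup.eq_bot_iff_forall C).2 h
      rw [this, Subgroup.card_bot] at hmdef
      omega
    have hcl : img K (c * g) u ≠ L := fun h => hfree ⟨c, hCG hc⟩ (hCgCp (by exact hc))
      (fun h1 => hc1 (congrArg Subtype.val h1)) 1 (by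
        rw [inv_one, one_mul, mul_one]
        show L.map (mvLin c) = L
        rw [img, map_mv_mul] at h
        exact h)
    have hle2 : line K x ⊓ L ≤ img K g u ⊓ img K (c * g) u := fun z hz => ⟨hz.2, by
      obtain ⟨t, ht⟩ := mem_line.1 hz.1
      rw [img, map_mv_mul, ← ht, ← hC.fix c hc t, ht]
      exact mv_mem_map c hz.2⟩
    have h6 := (Submodule.finrank_mono hle2).trans
      (hfr.pair_le_one hE hM hR hr (le_trans (by norm_num) hr5) hg (M.mul_mem (hC.le hc) hg) (Ne.symm hcl))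
    omega
  -- orbit of the stabiliser of the K-line
  set ω₀ : G ⧸ Sl := QuotientGroup.mk 1 with hω₀
  set o := Nat.card (MulAction.orbit Gs ω₀) with ho
  set s := Nat.card (MulAction.stabilizer Gs ω₀) with hs
  have hos : o * s = Nat.card Gs := card_orbit_mul ω₀
  have hstabGs : MulAction.stabilizer Gs ω₀ = Sl.subgroupOf Gs := by
    ext a
    rw [MulAction.mem_stabilizer_iff, Subgroup.mem_subgroupOf]
    exact (smul_coset_eq a.1 1).trans (by rw [inv_one, one_mul, mul_one])
  have hse : s ∣ Nat.card ψ.range := by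
    let j : Sl.subgroupOf Gs →* Sl :=
      { toFun := fun a => ⟨a.1.1, a.2⟩
        map_one' := rfl
        map_mul' := fun a b => rfl }
    have hinj : Function.Injective (ψ.comp j) := (injective_iff_map_eq_one _).2 fun a ha => by
      have h1 : j a ∈ R.subgroupOf Sl := hker ▸ ha
      exact Subtype.ext (Subtype.ext (hGsR _ h1 a.1.2))
    rw [hs, hstabGs, Nat.card_congr (MonoidHom.ofInjective hinj).toEquiv]
    exact Subgroup.card_dvd_of_le (fun y ⟨a, ha⟩ => ⟨j a, ha⟩)
  set Cp' : Subgroup Gs := Cp.subgroupOf Gs with hCp'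
  have hCpGs : Cp ≤ Gs := fun c hc => by
    show (line K x).map (mvLin (c : GL ι F)) = line K x
    refine le_antisymm ?_ fun z hz => ?_
    · rintro _ ⟨z, hz, rfl⟩
      rwa [mvLin_eq, show mv (c : GL ι F) z = z from hc z hz]
    · exact hc z hz ▸ mv_mem_map _ hz
  have hCp'card : Nat.card Cp' = Nat.card Cp := Nat.card_congr (Subgroup.subgroupOfEquivOfLe hCpGs).toEquiv
  have hCpo : Nat.card Cp ∣ o := by
    have h := dvd_of_orbits (H := Cp') (X := MulAction.orbit Gs ω₀) (m := Nat.card Cp) (c := 1) ∅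
      (fun y hy => absurd hy (Set.notMem_empty _))
      (fun y _ => by
        have hst : Nat.card (MulAction.stabilizer Cp' y) = 1 := by
          rw [Subgroup.card_eq_one, eq_bot_iff]
          intro c hc
          by_contra hne
          have hc' : (c.1.1 : G) • (y : G ⧸ Sl) = (y : G ⧸ Sl) := congrArg Subtype.val (MulAction.mem_stabilizer_iff.1 hc)
          obtain ⟨A, hA⟩ := QuotientGroup.mk_surjective (y : G ⧸ Sl)
          rw [← hA] at hc'
          exact hfree c.1.1 c.2 (fun h => hne (Subgroup.mem_bot.2 (Subtype.ext (Subtype.ext h)))) A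
            ((smul_coset_eq c.1.1 A).1 hc')
        have h1 := card_orbit_mul (H := Cp') y
        rw [hst, mul_one, hCp'card] at h1
        rw [h1, one_mul])
    rw [show Nat.card (∅ : Set (MulAction.orbit Gs ω₀)) = 0 from Nat.card_of_isEmpty, ← ho] at h
    simp only [Nat.cast_one, one_mul, Nat.cast_zero] at h
    exact (ZMod.natCast_eq_zero_iff _ _).1 h
  obtain ⟨i, hi⟩ := hCpo
  obtain ⟨j, hj⟩ : m ∣ Nat.card Cp := hCgm ▸ Subgroup.card_dvd_of_le hCgCp
  have hoN : o ≤ 2 * m := by
    rw [← hk, hN]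
    exact Nat.card_le_card_of_injective _ Subtype.val_injective
  have hopos : 0 < o := Nat.pos_of_ne_zero fun h => by
    rw [h, zero_mul] at hos
    exact (Nat.card_pos (α := Gs)).ne hos
  rw [hj] at hi
  have hji : j * i = 1 ∨ j * i = 2 := by
    have h1 : 0 < j * i := Nat.pos_of_ne_zero fun h => by
      rw [hi, mul_assoc, h, mul_zero] at hopos
      omega
    have h3 : m * (j * i) ≤ m * 2 := by rw [← mul_assoc, ← hi]; linarith
    have hm0 : 0 < m := by omega
    have := Nat.le_of_mul_le_mul_left h3 hm0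
    omega
  obtain ⟨e', he'⟩ := hse
  have hmul : Gs.index * (o * s) = N * (q ^ r * (s * e')) := by
    rw [hos, mul_comm, Gs.card_mul_index, ← he', ← hSlcard, hN, ← Subgroup.index_eq_card, mul_comm, Sl.card_mul_index]
  obtain ⟨t, ht, htr⟩ : ∃ t, Gs.index = q ^ r * t ∧ t ≤ 2 * r := by
    have hs0 : 0 < s := Nat.card_pos
    have hm0 : 0 < m := by omega
    have he'r : e' ≤ r := Nat.le_of_dvd (by omega) (dvd_trans ⟨s, by rw [he', mul_comm]⟩ her)
    have h1 : Gs.index * (j * i) * (m * s) = q ^ r * (2 * e') * (m * s) := by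
      rw [hi, hk] at hmul
      linear_combination hmul
    have h3 := Nat.eq_of_mul_eq_mul_right (Nat.mul_pos hm0 hs0) h1
    rcases hji with h | h <;> rw [h] at h3
    · exact ⟨2 * e', by rw [← h3, mul_one], by omega⟩
    · exact ⟨e', Nat.eq_of_mul_eq_mul_right (two_pos) (by rw [h3]; ring), by omega⟩
  -- rotations fix only their own K-line
  haveI : Cp'.Normal := ⟨fun c hc a z hz => by
    show mv (((a * c * a⁻¹ : Gs) : G) : GL ι F) z = z
    have hz' : mv ((a.1 : GL ι F))⁻¹ z ∈ line K x := by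
      have h1 : (line K x).map (mvLin (a.1 : GL ι F)) = line K x := a.2
      exact mem_map_mv.1 (h1.ge hz)
    simp only [Subgroup.coe_mul, Subgroup.coe_inv]
    rw [mv_mul, mv_mul, show mv ((c.1 : G) : GL ι F) _ = _ from hc _ hz', mv_mv_inv]⟩
  have hidx : Cp'.index ∣ 2 * r := by
    have h1 := Cp'.card_mul_index
    rw [hCp'card, hj, ← hos, hi, mul_assoc (m * j)] at h1
    have h3 := Nat.eq_of_mul_eq_mul_left (by rw [← hj]; exact Nat.card_pos) h1
    rw [h3]
    refine Nat.mul_dvd_mul ?_ (dvd_trans ⟨e', he'⟩ her)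
    rcases hji with h | h
    · rw [(Nat.eq_one_of_mul_eq_one_left h)]; exact one_dvd _
    · exact ⟨j, by rw [mul_comm]; exact h.symm⟩
  have hexp : ∀ c : Cg, ∀ A : G, A ∉ Gs → A⁻¹ * c * A ∈ Gs → c ^ (2 * r) = 1 := by
    intro c A hA hcA
    by_contra hne
    have h1 := Subgroup.pow_index_mem Cp' ⟨_, hcA⟩
    obtain ⟨d, hd⟩ := hidx
    have h3 : (A⁻¹ * c * A) ^ (2 * r) ∈ Cp := by
      have := Cp.pow_mem (show (A⁻¹ * c * A) ^ Cp'.index ∈ Cp from h1) d
      rwa [← pow_mul, ← hd] at this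
    rw [show (A⁻¹ * c.1 * A) ^ (2 * r) = A⁻¹ * c.1 ^ (2 * r) * A by
      have := conj_pow (i := 2 * r) (a := A⁻¹) (b := c.1)
      rwa [inv_inv] at this] at h3
    refine hA ?_
    show (line K x).map (mvLin (A : GL ι F)) = line K x
    refine Submodule.eq_of_le_of_finrank_le ?_ (by rw [finrank_map_mv])
    rintro _ ⟨z, hz, rfl⟩
    rw [mvLin_eq]
    refine hC.exact _ ((c ^ (2 * r)).2) (fun h => hne (Subtype.ext (Subtype.ext h))) _ ?_
    have e := h3 z hz
    simp only [Subgroup.coe_subtype, Subgroup.coe_mul, Subgroup.coe_inv, Subgroup.coe_pow] at e ⊢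
    rw [mv_mul, mv_mul] at e
    exact ((mv_eq_iff (A : GL ι F)⁻¹).1 e).trans (by rw [inv_inv])
  haveI : IsCyclic Cg := by
    haveI := hC.cyc
    exact isCyclic_of_surjective _ (Subgroup.subgroupOfEquivOfLe hCG).symm.surjective
  have hfinal := dvd_of_orbits (H := Cg) (X := G ⧸ Gs) (m := m) (c := 2 * r) {QuotientGroup.mk 1}
    (fun y hy c => by
      rw [Set.mem_singleton_iff] at hy
      subst hy
      exact (smul_coset_eq c.1 1).2 (by rw [inv_one, one_mul, mul_one]; exact hCpGs (hCgCp c.2)))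
    (fun y hy => by
      induction y using QuotientGroup.induction_on with
      | _ A =>
        have hA : A ∉ Gs := fun h => hy (by
          rw [Set.mem_singleton_iff, QuotientGroup.eq, mul_one]
          exact Gs.inv_mem h)
        set S := MulAction.stabilizer Cg (QuotientGroup.mk A : G ⧸ Gs)
        have hS : Nat.card S ∣ 2 * r := by
          obtain ⟨c, hc⟩ := IsCyclic.exists_ofOrder_eq_natCard (α := S)
          rw [← hc]
          refine orderOf_dvd_of_pow_eq_one (Subtype.ext ?_)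
          rw [SubgroupClass.coe_pow]
          exact hexp c.1 A hA ((smul_coset_eq c.1.1 A).1 c.2)
        have h1 := card_orbit_mul (H := Cg) (QuotientGroup.mk A : G ⧸ Gs)
        rw [hCgm] at h1
        rw [← h1, mul_comm (2 * r)]
        exact Nat.mul_dvd_mul_left _ hS)
  rw [show Nat.card ({QuotientGroup.mk 1} : Set (G ⧸ Gs)) = 1 from Nat.card_unique, ← Subgroup.index_eq_card, ht]
    at hfinal
  have hzero : (2 * r * (t + 1) : ℕ) = (0 : ZMod m) := by
    have hQm : ((q ^ r : ℕ) : ZMod m) = -1 := by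
      rw [eq_neg_iff_add_eq_zero, ← Nat.cast_one, ← Nat.cast_add, hm, Nat.cast_mul, ZMod.natCast_self, mul_zero]
    push_cast at hfinal hQm ⊢
    rw [hQm] at hfinal
    linear_combination -hfinal
  have hle := Nat.le_of_dvd (by positivity) ((ZMod.natCast_eq_zero_iff _ _).1 hzero)
  have hbig := three_pow_big hr5
  have h3 : 2 * r * (t + 1) ≤ 2 * r * (2 * r + 1) := Nat.mul_le_mul_left _ (by omega)
  have h9 : 4 * r * (2 * r + 1) = 2 * (2 * r * (2 * r + 1)) := by ring
  omega

end Cfsg.Agent.OrthFieldExt
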