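/-
Three dimensions over a cubic extension: conjugate singular lines cannot meet an anisotropic vector.
-/
import Cfsg.Agent.Lib.OrthFieldExt.ThreeCount

set_option autoImplicit false
set_option linter.all false
set_option maxHeartbeats 2000000
set_option synthInstance.maxHeartbeats 200000

namespace Cfsg.Agent.OrthFieldExt

open scoped Matrix
open Matrix Cfsg.Agent.Transvec Cfsg.Agent.Transvec.Orth

theorem bound_cubic {q Q m N : ℕ} (hq : 3 ≤ q) (hQ : Q = q ^ 3) (hm : 2 * m + 1 = Q) (hmN : m ∣ 3 * N)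
    (hNQ : 3 * N % Q = 3) (hb : N * (Q - q) ≤ 2 * q ^ 7) : q = 3 ∧ N = 91 := by
  obtain ⟨j, hj⟩ : ∃ j, 3 * N = j * Q + 3 := ⟨3 * N / Q, by
    have := Nat.div_add_mod (3 * N) Q
    rw [hNQ] at this
    linarith⟩
  rcases eq_or_lt_of_le hq with hq3 | hq4
  · refine ⟨hq3.symm, ?_⟩
    subst hq3
    norm_num at hQ hb
    subst hQ
    obtain rfl : m = 13 := by omega
    omega
  exfalso
  have h1 : m ∣ j + 3 := by
    have h : 3 * N = 2 * j * m + (j + 3) := by rw [hj, ← hm]; ring
    rw [h] at hmN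
    exact (Nat.dvd_add_iff_right (dvd_mul_left m (2 * j))).2 hmN
  have h2 := Nat.le_of_dvd (by omega) h1
  obtain ⟨d, hd⟩ : ∃ d, Q = q + d := ⟨Q - q, by
    have : q ≤ Q := hQ ▸ Nat.le_self_pow (by norm_num) q
    omega⟩
  rw [show Q - q = d by omega] at hb
  have hQ64 : 64 ≤ Q := hQ ▸ (Nat.pow_le_pow_left (show 4 ≤ q by omega) 3)
  have h4 : 6 * N ≥ (Q - 7) * Q := by
    have : Q - 7 ≤ 2 * j := by omega
    nlinarith
  obtain ⟨e, he⟩ : ∃ e, Q = e + 7 := ⟨Q - 7, by omega⟩
  rw [show Q - 7 = e by omega] at h4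
  have h5 : e * Q * d ≤ 12 * q ^ 7 := by nlinarith
  have h7 : q ^ 3 * d ≥ q ^ 4 * (q * q - 1) := by
    obtain ⟨k, hk⟩ : ∃ k, q * q = k + 1 := ⟨q * q - 1, by
      have : 1 ≤ q * q := Nat.one_le_iff_ne_zero.2 (by positivity)
      omega⟩
    rw [show q * q - 1 = k by omega]
    have : d = q * k := by nlinarith
    rw [this]
    nlinarith
  have h8 : 15 ≤ q * q - 1 := by
    have : 16 ≤ q * q := by nlinarith
    omega
  have h9 : e * (q ^ 4 * 15) ≤ 12 * q ^ 7 := by
    calc e * (q ^ 4 * 15) ≤ e * (q ^ 4 * (q * q - 1)) := by gcongr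
      _ ≤ e * (q ^ 3 * d) := by gcongr
      _ = e * Q * d := by rw [hQ]; ring
      _ ≤ _ := h5
  have h10 : 15 * e ≤ 12 * q ^ 3 := Nat.le_of_mul_le_mul_left (by nlinarith : q ^ 4 * (15 * e) ≤ q ^ 4 * (12 * q ^ 3))
    (by positivity)
  omega

/-- A group of order 91 · 3^k with small stabilisers of a 27-group does not exist. -/
theorem no_group {G : Type*} [Group G] [Finite G] {S : Subgroup G} (hG : Nat.card G = 91 * Nat.card S)
    (hS : Nat.card S ∣ 81) (C : Subgroup G) (hC : Nat.card C = 13) (hCcyc : IsCyclic C)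
    (R : Subgroup G) (hR : Nat.card R = 27) (hRS : R ≤ S)
    (hstab : ∀ A : G, A ∉ S → ∀ K₀ : Subgroup R, 9 ≤ Nat.card K₀ →
      ∃ a ∈ K₀, (a : G) • (QuotientGroup.mk A : G ⧸ S) ≠ QuotientGroup.mk A) : False := by
  haveI h13 : Fact (Nat.Prime 13) := ⟨by norm_num⟩
  haveI h7 : Fact (Nat.Prime 7) := ⟨by norm_num⟩
  -- an element of order seven normalises the subgroup of order thirteen
  have hCidx : C.index = 7 * Nat.card S := by
    have := C.card_mul_index
    rw [hC, hG] at this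
    omega
  have hs7 : ¬ 7 ∣ Nat.card S := fun h => by have := h.trans hS; norm_num at this
  have hs13 : ¬ 13 ∣ Nat.card S := fun h => by have := h.trans hS; norm_num at this
  have hPC : IsPGroup 13 C := IsPGroup.of_card (n := 1) (by rw [hC]; norm_num)
  set P13 := hPC.toSylow (by
    rw [hCidx]
    intro h
    rcases (Nat.Prime.dvd_mul h13.out).1 h with h | h
    · norm_num at h
    · exact hs13 h) with hP13
  have hP13' : (P13 : Subgroup G) = C := IsPGroup.toSylow_coe _ _
  obtain ⟨hh, hhN, hh7⟩ : ∃ h ∈ Subgroup.normalizer (C : Set G), orderOf h = 7 := by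
    have hmod := card_sylow_modEq_one 13 G
    rw [P13.card_eq_index_normalizer, ← Sylow.coe_coe, hP13'] at hmod
    have hdvd : (Subgroup.normalizer (C : Set G)).index ∣ 7 * 81 :=
      (Subgroup.index_dvd_of_le Subgroup.le_normalizer).trans (by rw [hCidx]; exact Nat.mul_dvd_mul_left 7 hS)
    have hn7 : ¬ 7 ∣ (Subgroup.normalizer (C : Set G)).index := by
      obtain ⟨n, hn⟩ : ∃ n, (Subgroup.normalizer (C : Set G)).index = n := ⟨_, rfl⟩
      rw [hn] at hmod hdvd ⊢
      rintro ⟨k, rfl⟩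
      have hk : k ∣ 81 := Nat.dvd_of_mul_dvd_mul_left (by norm_num) hdvd
      have hk' : k ≤ 81 := Nat.le_of_dvd (by norm_num) hk
      have h1 : 7 * k % 13 = 1 := hmod
      exact (show ∀ j < 82, j ∣ 81 → 7 * j % 13 ≠ 1 by decide) k (by omega) hk h1
    have h7dvd : 7 ∣ Nat.card (Subgroup.normalizer (C : Set G)) := by
      have h := (Subgroup.normalizer (C : Set G)).card_mul_index
      rw [hG] at h
      exact ((Nat.Prime.dvd_mul h7.out).1 (h ▸ Dvd.dvd.mul_right (by norm_num) _)).resolve_right hn7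
    obtain ⟨h, hh⟩ := exists_prime_orderOf_dvd_card' 7 h7dvd
    exact ⟨h, h.2, by rw [Subgroup.orderOf_coe, hh]⟩
  -- it centralises it
  have hcomm : ∀ c ∈ C, hh * c * hh⁻¹ = c := by
    obtain ⟨c₀, hc₀⟩ := hCcyc.exists_generator
    have hc₀13 : orderOf (c₀ : G) = 13 := by
      rw [Subgroup.orderOf_coe, orderOf_eq_card_of_forall_mem_zpowers hc₀, hC]
    have hgen : ∀ c ∈ C, ∃ i : ℕ, (c₀ : G) ^ i = c := fun c hc => by
      obtain ⟨i, hi⟩ := (isOfFinOrder_of_finite c₀).mem_powers_iff_mem_zpowers.2 (hc₀ ⟨c, hc⟩)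
      exact ⟨i, by simpa using congrArg Subtype.val hi⟩
    obtain ⟨i, hi⟩ := hgen _ ((Subgroup.mem_normalizer_iff.1 hhN c₀).1 c₀.2)
    have hpow : ∀ n : ℕ, hh ^ n * c₀ * (hh ^ n)⁻¹ = (c₀ : G) ^ (i ^ n) := by
      intro n
      induction n with
      | zero => simp
      | succ n ih =>
        rw [pow_succ' hh, _root_.mul_inv_rev, show hh * hh ^ n * c₀ * ((hh ^ n)⁻¹ * hh⁻¹) =
          hh * (hh ^ n * c₀ * (hh ^ n)⁻¹) * hh⁻¹ by group, ih, ← conj_pow, ← hi, ← pow_mul, pow_succ' i]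
    have h7' := hpow 7
    rw [← hh7, pow_orderOf_eq_one] at h7'
    simp only [one_mul, inv_one, mul_one, hh7] at h7'
    have hmod : i ^ 7 % 13 = 1 := by
      have := pow_eq_pow_iff_modEq.1 ((pow_one (c₀ : G)).trans h7')
      rw [hc₀13] at this
      exact this.symm
    have hi1 : i % 13 = 1 := by
      have hb := Nat.mod_lt i (show 13 > 0 by norm_num)
      rw [Nat.pow_mod] at hmod
      exact (show ∀ j < 13, j ^ 7 % 13 = 1 → j = 1 by decide) _ hb hmod
    intro c hc
    obtain ⟨k, rfl⟩ := hgen c hc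
    rw [← conj_pow, ← hi, ← pow_mul, pow_eq_pow_iff_modEq, hc₀13, Nat.ModEq, Nat.mul_mod, hi1, one_mul,
      Nat.mod_mod]
  -- hence the subgroup of order seven is normal
  set P := Subgroup.zpowers hh with hPdef
  have hP7 : Nat.card P = 7 := by rw [hPdef, Nat.card_zpowers, hh7]
  have hPidx : P.index = 13 * Nat.card S := by
    have := P.card_mul_index
    rw [hP7, hG] at this
    omega
  have hPP : IsPGroup 7 P := IsPGroup.of_card (n := 1) (by rw [hP7]; norm_num)
  set P7 := hPP.toSylow (by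
    rw [hPidx]
    intro h
    rcases (Nat.Prime.dvd_mul h7.out).1 h with h | h
    · norm_num at h
    · exact hs7 h) with hP7d
  have hP7' : (P7 : Subgroup G) = P := IsPGroup.toSylow_coe _ _
  have hCN : C ≤ Subgroup.normalizer (P : Set G) := fun c hc => by
    have hcc : ∀ p ∈ P, c * p * c⁻¹ = p := fun p hp => by
      obtain ⟨k, rfl⟩ := Subgroup.mem_zpowers_iff.1 hp
      refine mul_inv_eq_iff_eq_mul.2 (Commute.zpow_right ?_ k)
      exact (mul_inv_eq_iff_eq_mul.1 (hcomm c hc)).symm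
    rw [Subgroup.mem_normalizer_iff]
    refine fun p => ⟨fun hp => (hcc p hp).symm ▸ hp, fun hp => ?_⟩
    have := hcc _ hp
    rwa [mul_left_cancel (mul_right_cancel this)] at hp
  haveI hnormal : P.Normal := by
    have hmod := card_sylow_modEq_one 7 G
    rw [P7.card_eq_index_normalizer, ← Sylow.coe_coe, hP7'] at hmod
    have hdvd : (Subgroup.normalizer (P : Set G)).index ∣ 81 := by
      have h1 : (Subgroup.normalizer (P : Set G)).index ∣ 13 * Nat.card S :=
        hPidx ▸ Subgroup.index_dvd_of_le Subgroup.le_normalizer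
      have h3 : (Subgroup.normalizer (P : Set G)).index ∣ 7 * Nat.card S :=
        hCidx ▸ Subgroup.index_dvd_of_le hCN
      have := Nat.dvd_gcd h1 h3
      rw [Nat.gcd_mul_right, show Nat.gcd 13 7 = 1 by norm_num, one_mul] at this
      exact this.trans hS
    obtain ⟨n, hn⟩ : ∃ n, (Subgroup.normalizer (P : Set G)).index = n := ⟨_, rfl⟩
    rw [hn] at hmod hdvd
    have hn1 : n = 1 := (show ∀ j < 82, j ∣ 81 → j % 7 = 1 → j = 1 by decide) n
      (Nat.lt_succ_of_le (Nat.le_of_dvd (by norm_num) hdvd)) hdvd hmod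
    rw [hn1, Subgroup.index_eq_one] at hn
    exact Subgroup.normalizer_eq_top_iff.1 hn
  -- a group of order at least nine centralises it and so fixes a further point
  let θ : R →* MulAut P := (MulAut.conjNormal (H := P)).comp R.subtype
  have hker : 9 ≤ Nat.card θ.ker := by
    have h1 := θ.ker.card_mul_index
    rw [Subgroup.index_ker, hR] at h1
    haveI : IsCyclic P := inferInstance
    have h2 : Nat.card θ.range ∣ 6 := by
      have := Subgroup.card_subgroup_dvd_card θ.range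
      rwa [IsCyclic.card_mulAut, hP7, Nat.totient_prime (by norm_num : Nat.Prime 7)] at this
    have h3 : Nat.card θ.range ∣ 3 := (Nat.dvd_gcd (h1 ▸ dvd_mul_left _ _) h2).trans (by norm_num)
    have := Nat.le_of_dvd (by norm_num) h3
    nlinarith
  have hhS : hh ∉ S := fun h => hs7 (by
    have := orderOf_dvd_natCard (⟨hh, h⟩ : S)
    rwa [Subgroup.orderOf_mk, hh7] at this)
  obtain ⟨a, ha, hne⟩ := hstab hh hhS θ.ker hker
  refine hne ?_
  have hc : (a : G) * hh * (a : G)⁻¹ = hh := by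
    have h := congrArg (fun φ : MulAut P => (φ ⟨hh, Subgroup.mem_zpowers hh⟩ : G)) (MonoidHom.mem_ker.1 ha)
    simpa [θ, MulAut.conjNormal_apply] using h
  show QuotientGroup.mk ((a : G) * hh) = QuotientGroup.mk hh
  rw [mul_inv_eq_iff_eq_mul.1 hc, QuotientGroup.eq, _root_.mul_inv_rev, mul_assoc, inv_mul_cancel, mul_one]
  exact S.inv_mem (hRS a.2)

variable {ι : Type} [Fintype ι] [DecidableEq ι] {F : Type*} [Field F] {Q : (ι → F) → F}
variable {K : Type*} [Field K] [Algebra F K] [Module K (ι → F)] [IsScalarTower F K (ι → F)] [FiniteDimensional F K]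
variable {ℓ : Module.Dual F K} (hE : Ext Q ℓ)
include hE

/-- A scalar of the ground field that is a non-square in an extension of odd degree. -/
theorem exists_nonsquare [Finite F] (hodd : Odd (Module.finrank F K)) :
    ∃ ν : F, ν ≠ 0 ∧ ¬ IsSquare (algebraMap F K ν) := by
  haveI : Fintype F := Fintype.ofFinite F
  obtain ⟨ν, hν⟩ := FiniteField.exists_nonsquare (F := F) fun h => hE.two (by
    haveI := ringChar.eq_iff.1 h
    exact CharP.cast_eq_zero F 2)
  have hν0 : ν ≠ 0 := fun h => hν (h ▸ IsSquare.zero)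
  refine ⟨ν, hν0, fun ⟨s, hs⟩ => hν ?_⟩
  have e := congrArg (Algebra.norm F) hs
  rw [Algebra.norm_algebraMap, map_mul] at e
  obtain ⟨k, hk⟩ := hodd
  rw [hk, pow_succ, pow_mul', ← pow_two] at e
  refine ⟨Algebra.norm F s / ν ^ k, ?_⟩
  field_simp
  linear_combination e

theorem mul_nonsquare [Finite F] {n : K} (hn : ¬ IsSquare n) {x : K} (hx : ¬ IsSquare x) : IsSquare (n * x) := by
  haveI : Finite K := Module.finite_of_finite F
  haveI : Fintype K := Fintype.ofFinite K
  classical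
  have h2 : ringChar K ≠ 2 := fun h => two' hE (by
    haveI := ringChar.eq_iff.1 h
    exact CharP.cast_eq_zero K 2)
  have hn0 : n ≠ 0 := fun h => hn (h ▸ IsSquare.zero)
  have hx0 : x ≠ 0 := fun h => hx (h ▸ IsSquare.zero)
  rw [← quadraticChar_one_iff_isSquare (mul_ne_zero hn0 hx0), map_mul,
    (quadraticChar_neg_one_iff_not_isSquare).2 hn, (quadraticChar_neg_one_iff_not_isSquare).2 hx]
  rfl

variable {u f b : ι → F} (hfr : Fr hE u f b) {M : Subgroup (GL ι F)} (hM : Over Q K M) [Finite F]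
include hfr hM

/-- An anisotropic vector of the square class of the frame has an isotropic orthogonal vector. -/
theorem Fr.exists_iso_perp {y : ι → F} (h : IsSquare (B hE b b * B hE y y)) :
    ∃ w, w ≠ 0 ∧ B hE w w = 0 ∧ B hE w y = 0 := by
  obtain ⟨huu, hff, huf, hfu, hbu, hbf, hub, hfb⟩ := hfr.rules hE
  have h2 := two' hE
  have hc := hfr.ne
  by_cases hγ : B hE y f = 0
  · exact ⟨f, fun h0 => one_ne_zero (α := K) (by rw [← huf, h0]; simp), hff, by rw [B_comm, hγ]⟩
  obtain ⟨d, hd⟩ := h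
  set β := B hE y u with hβ
  set γ := B hE y f with hγd
  set ν := B hE y b with hν
  set c₀ := B hE b b with hc₀
  have hyy : B hE y y = 2 * β * γ + ν * ν / c₀ := by
    conv_lhs => arg 2; rw [hfr.dec hE y]
    rw [map_add, map_add, LinearMap.map_smul, LinearMap.map_smul, LinearMap.map_smul, smul_eq_mul, smul_eq_mul,
      smul_eq_mul, ← hβ, ← hγd, ← hν, ← hc₀]
    ring
  obtain ⟨t, ht⟩ : ∃ t, t = (ν + d) / (c₀ * γ) := ⟨_, rfl⟩
  refine ⟨u + (-(c₀ * t * t / 2)) • f + t • b, fun h0 => one_ne_zero (α := K) ?_, ?_, ?_⟩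
  · have e := congrArg (fun v => B hE v f) h0
    simpa [huf, hff, hbf] using e
  · simp only [map_add, map_smul, LinearMap.add_apply, LinearMap.smul_apply, smul_eq_mul, huu, hff, huf, hfu, hbu,
      hbf, hub, hfb, ← hc₀]
    field_simp
    ring
  · simp only [map_add, map_smul, LinearMap.add_apply, LinearMap.smul_apply, smul_eq_mul, B_comm hE u y,
      B_comm hE f y, B_comm hE b y, ← hβ, ← hγd, ← hν]
    rw [hyy] at hd
    field_simp at hd
    rw [ht]
    field_simp
    linear_combination hd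

variable (hR : Rigid hE M u) (hr : (Module.finrank F K).Prime)
include hR hr

/-- The field automorphisms induced on an image of the line by elements fixing one of its vectors. -/
theorem Fr.act_hom {g : GL ι F} (hg : g ∈ M) {x : ι → F} (hxL : x ∈ img K g u) (hx0 : x ≠ 0)
    {S : Subgroup (GL ι F)} (hS : S ≤ M) (hSL : ∀ A ∈ S, (img K g u).map (mvLin A) = img K g u)
    (hSx : ∀ A ∈ S, mv A x = x) :
    ∃ ψ : S →* (K ≃ₐ[F] K), ∀ A : S, ψ A = 1 → ∀ z ∈ img K g u, mv (A : GL ι F) z = z := by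
  have hu0 := hfr.hyp.ne_left hE
  obtain ⟨t₀, ht₀⟩ := mem_img.1 hxL
  have ht0 : t₀ ≠ 0 := fun h => hx0 (by rw [← ht₀, h, zero_smul, mv_zero])
  have hdata : ∀ A : S, ∃ (σ : K ≃ₐ[F] K) (a : K), (a * σ t₀ = t₀) ∧
      ∀ t : K, mv (g⁻¹ * (A : GL ι F) * g) (t • u) = (a * σ t) • u := by
    intro A
    have hAM : g⁻¹ * (A : GL ι F) * g ∈ M := M.mul_mem (M.mul_mem (M.inv_mem hg) (hS A.2)) hg
    obtain ⟨σ, a, p, -, hat, -, -⟩ := hfr.stab_data hE hM hR hAM (fun t => by
      obtain ⟨s, hs⟩ := mem_img.1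
        ((hSL A A.2).le (mv_mem_map (A : GL ι F) (mem_img.2 ⟨t, rfl⟩ : mv g (t • u) ∈ img K g u)))
      rw [mv_mul, mv_mul, ← hs, mv_inv_mv]
      exact mem_line.2 ⟨s, rfl⟩)
    refine ⟨σ, a, smul_left_injective K hu0 ?_, hat⟩
    show (a * σ t₀) • u = t₀ • u
    rw [← hat, mv_mul, mv_mul, ht₀, hSx A A.2, ← ht₀, mv_inv_mv]
  choose σ a ha0 hact using hdata
  have huniq : ∀ (A : S) (σ' : K ≃ₐ[F] K) (a' : K),
      (∀ t, mv (g⁻¹ * (A : GL ι F) * g) (t • u) = (a' * σ' t) • u) → σ A = σ' := by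
    intro A σ' a' h
    have e : ∀ t, a A * σ A t = a' * σ' t := fun t => smul_left_injective K hu0 ((hact A t).symm.trans (h t))
    have ha : a A = a' := by simpa using e 1
    have hne : a A ≠ 0 := fun h0 => ht0 (by rw [← ha0 A, h0, zero_mul])
    exact AlgEquiv.ext fun t => mul_left_cancel₀ hne (by rw [e, ha])
  let ψ : S →* (K ≃ₐ[F] K) :=
    { toFun := σ
      map_one' := huniq 1 1 1 fun t => by simp [mv_one]
      map_mul' := fun A A' => huniq (A * A') _ (a A * σ A (a A')) fun t => by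
        rw [AlgEquiv.mul_apply, mul_assoc (a A), ← map_mul, ← hact, ← hact, ← mv_mul]
        congr 1
        simp [mul_assoc] }
  refine ⟨ψ, fun A hA z hz => ?_⟩
  obtain ⟨t, rfl⟩ := mem_img.1 hz
  have hσ : σ A = 1 := hA
  have ha1 : a A = 1 := by
    have e := ha0 A
    rw [hσ, AlgEquiv.one_apply] at e
    exact mul_right_cancel₀ ht0 (by rw [one_mul]; exact e)
  have e := hact A t
  rw [hσ, ha1, one_mul, AlgEquiv.one_apply, mv_mul, mv_mul] at e
  exact ((mv_eq_iff g⁻¹).1 e).trans (by rw [inv_inv])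

/-- Such elements form a small group when none is trivial on the image. -/
theorem Fr.act_dvd {g : GL ι F} (hg : g ∈ M) {x : ι → F} (hxL : x ∈ img K g u) (hx0 : x ≠ 0)
    {S : Subgroup (GL ι F)} (hS : S ≤ M) (hSL : ∀ A ∈ S, (img K g u).map (mvLin A) = img K g u)
    (hSx : ∀ A ∈ S, mv A x = x) (hfaith : ∀ A ∈ S, (∀ z ∈ img K g u, mv A z = z) → A = 1) :
    Nat.card S ∣ Module.finrank F K := by
  haveI : Finite K := Module.finite_of_finite F
  obtain ⟨ψ, hψ⟩ := hfr.act_hom hE hM hR hr hg hxL hx0 hS hSL hSx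
  have hinj : Function.Injective ψ := (injective_iff_map_eq_one ψ).2 fun A hA =>
    Subtype.ext (hfaith A A.2 (hψ A hA))
  rw [← IsGalois.card_aut_eq_finrank F K, Nat.card_congr (MonoidHom.ofInjective hinj).toEquiv]
  exact Subgroup.card_subgroup_dvd_card _

omit hR hr in
/-- An image of the line is not contained in an anisotropic K-line. -/
theorem Fr.img_not_le {g : GL ι F} (hg : g ∈ M) {x : ι → F} (hxL : x ∈ img K g u) (hx : B hE x x ≠ 0) :
    ¬ img K g u ≤ line K x := by
  intro hle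
  have hu0 := hfr.hyp.ne_left hE
  have hx0 : x ≠ 0 := fun h => hx (by rw [h]; simp)
  have heq := Submodule.eq_of_le_of_finrank_le hle (by rw [finrank_img g hu0, finrank_line hx0])
  obtain ⟨t, ht⟩ := exists_ell_mul hE hx
  refine ht ?_
  rw [ell_B hE, img_pol hE hM hg hfr.hyp.1 (heq.ge (mem_line.2 ⟨t, rfl⟩)) hxL]

/-- Some image carries an anisotropic vector with an isotropic orthogonal vector. -/
theorem Fr.exists_split (hr3 : Module.finrank F K = 3) {g : GL ι F} (hg : g ∈ M)
    (hx : B hE (mv g u) (mv g u) ≠ 0) {C : Subgroup (GL ι F)} (hC : Tor K M (mv g u) C) :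
    ∃ h ∈ M, ∃ y ∈ img K h u, ∃ w f', Fr hE w f' y := by
  classical
  haveI : Finite K := Module.finite_of_finite F
  haveI : Fintype F := Fintype.ofFinite F
  haveI : Fintype K := Fintype.ofFinite K
  obtain ⟨huu, hff, huf, hfu, hbu, hbf, hub, hfb⟩ := hfr.rules hE
  have hu0 := hfr.hyp.ne_left hE
  set x := mv g u with hxd
  have hxL : x ∈ img K g u := mem_img.2 ⟨1, by rw [one_smul]⟩
  have hx0 : x ≠ 0 := fun h => hx (by rw [h]; simp)
  have hCx : ∀ c ∈ C, mv c x = x := fun c hc => by simpa using hC.fix c hc 1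
  obtain ⟨c, hc, hcL⟩ : ∃ c ∈ C, (img K g u).map (mvLin c) ≠ img K g u := by
    by_contra hall
    push Not at hall
    have hd := hfr.act_dvd hE hM hR hr hg hxL hx0 hC.le hall hCx fun c hc hfix => by
      by_contra hne
      exact hfr.img_not_le hE hM hg hxL hx fun z hz => hC.exact c hc hne z (hfix z hz)
    have hKq : Nat.card K = Fintype.card F ^ 3 := by
      rw [Nat.card_eq_fintype_card, Module.card_eq_pow_finrank (K := F) (V := K), hr3]
    have hq : 3 ≤ Fintype.card F := by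
      have h1 := FiniteField.odd_card_of_char_ne_two (F := F) fun h => hE.two (by
        haveI := ringChar.eq_iff.1 h
        exact CharP.cast_eq_zero F 2)
      have := Fintype.one_lt_card (α := F)
      omega
    have h27 := Nat.pow_le_pow_left hq 3
    rw [hr3] at hd
    have := Nat.le_of_dvd (by norm_num) hd
    rcases hC.card with h | h <;> rw [hKq] at h <;> omega
  set h := g⁻¹ * c * g with hhd
  have hh : h ∈ M := M.mul_mem (M.mul_mem (M.inv_mem hg) (hC.le hc)) hg
  have himg : img K h u = ((img K g u).map (mvLin c)).map (mvLin g⁻¹) := by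
    rw [hhd, img, img, map_mv_mul, map_mv_mul]
  have hline : line K u = (img K g u).map (mvLin g⁻¹) := by
    rw [img, ← map_mv_mul, inv_mul_cancel, map_mv_one]
  have hne : img K h u ≠ line K u := fun e => hcL (by
    rw [himg, hline] at e
    exact Submodule.map_injective_of_injective (mvLin_inj g⁻¹) e)
  have hu_mem : u ∈ img K h u := by
    rw [himg]
    exact mem_map_mv.2 (by rw [inv_inv, ← hxd]; exact hCx c hc ▸ mv_mem_map c hxL)
  have hmeet := hfr.meet_le_one hE hM hR hr (by omega) hh hne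
  have hu_line : u ∈ line K u := mem_line.2 ⟨1, one_smul _ _⟩
  have hinf : line K u ⊓ img K h u = F ∙ u := (Submodule.eq_of_le_of_finrank_le
    ((Submodule.span_singleton_le_iff_mem _ _).2 (show u ∈ line K u ⊓ img K h u from ⟨hu_line, hu_mem⟩))
    (by rw [finrank_span_singleton hu0]; exact hmeet)).symm
  suffices hy : ∃ y ∈ img K h u, B hE y y ≠ 0 ∧ IsSquare (B hE b b * B hE y y) by
    obtain ⟨y, hy, hy0, hsq⟩ := hy
    obtain ⟨w, hw0, hww, hwy⟩ := hfr.exists_iso_perp hE hM hsq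
    have hproj : HasProj hE (LinearMap.ker ((B hE).flip y)) := by
      have := (hasProj_top hE).inf hE (Submodule.mem_top (x := y)) hy0
      rwa [top_inf_eq] at this
    obtain ⟨f', hf', hh'⟩ := exists_partner_in hE hproj (show w ∈ LinearMap.ker ((B hE).flip y) from hwy) hw0 hww
    exact ⟨h, hh, y, hy, w, f', hh', ⟨by rw [B_comm]; exact hwy, by rw [B_comm]; exact hf'⟩, hy0, hfr.dim⟩
  set c₀ := B hE b b with hc₀
  have hc₀0 : c₀ ≠ 0 := hfr.ne
  by_cases hloose : ∃ z ∈ img K h u, B hE z u = 0 ∧ z ∉ line K u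
  · obtain ⟨z, hz, hzu, hzl⟩ := hloose
    have e := hfr.dec_perp hE hzu
    have hμ : B hE z b ≠ 0 := fun h0 => hzl (mem_line.2 ⟨B hE z f, by
      rw [h0, zero_div, zero_smul, add_zero] at e; exact e.symm⟩)
    have hzz : c₀ * B hE z z = B hE z b * B hE z b := by
      conv_lhs => arg 2; arg 2; rw [e]
      rw [map_add, LinearMap.map_smul, LinearMap.map_smul, smul_eq_mul, smul_eq_mul, hzu, ← hc₀]
      field_simp
      ring
    exact ⟨z, hz, right_ne_zero_of_mul (hzz ▸ mul_ne_zero hμ hμ), B hE z b, hzz⟩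
  push Not at hloose
  let π : img K h u →ₗ[F] K := (((B hE).flip u).restrictScalars F).domRestrict (img K h u)
  have hπ : ∀ z : img K h u, π z = B hE z.1 u := fun z => rfl
  have hker : (LinearMap.ker π).map (img K h u).subtype ≤ F ∙ u := by
    rintro _ ⟨⟨z, hz⟩, hz0, rfl⟩
    rw [← hinf]
    exact ⟨hloose z hz hz0, hz⟩
  have hSle : LinearMap.range π ≤ LinearMap.ker ℓ := by
    rintro _ ⟨⟨z, hz⟩, rfl⟩
    show ℓ (B hE z u) = 0
    rw [ell_B_one hE, img_pol hE hM hh huu hz hu_mem]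
  have hkerd : Module.finrank F (LinearMap.ker ℓ) = 2 := by
    have := LinearMap.finrank_range_add_finrank_ker ℓ
    rw [LinearMap.range_eq_top.2 (exists_ell hE), finrank_top, Module.finrank_self, hr3] at this
    omega
  have hS : LinearMap.range π = LinearMap.ker ℓ := Submodule.eq_of_le_of_finrank_le hSle (by
    have h1 := LinearMap.finrank_range_add_finrank_ker π
    rw [finrank_img h hu0, hr3] at h1
    have h3 := Submodule.finrank_mono hker
    rw [Submodule.finrank_map_subtype_eq, finrank_span_singleton hu0] at h3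
    omega)
  let bs := (Module.finBasis F (LinearMap.ker ℓ)).reindex (finCongr hkerd)
  obtain ⟨z₁, hz₁⟩ : ∃ z, π z = (bs 0).1 := hS.ge (bs 0).2
  obtain ⟨z₂, hz₂⟩ : ∃ z, π z = (bs 1).1 := hS.ge (bs 1).2
  have hval : ∀ z : img K h u, ∀ t : F, B hE (z.1 + t • u) (z.1 + t • u) = B hE z.1 z.1 + (2 * t) • π z := by
    intro z t
    simp only [map_add, LinearMap.add_apply, LinearMap.map_smul_of_tower, LinearMap.smul_apply, hπ,
      B_comm hE u z.1, huu, smul_zero, add_zero, two_mul, add_smul]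
    abel
  have hdec : ∀ z : img K h u, ∃ p e : F, B hE z.1 z.1 = p • (bs 0).1 + e • (bs 1).1 := fun z => by
    have hk : B hE z.1 z.1 ∈ LinearMap.ker ℓ := by
      show ℓ (B hE z.1 z.1) = 0
      rw [ell_B_one hE, img_pol hE hM hh huu z.2 z.2]
    refine ⟨bs.repr ⟨_, hk⟩ 0, bs.repr ⟨_, hk⟩ 1, ?_⟩
    have := congrArg Subtype.val (bs.sum_repr ⟨_, hk⟩)
    rw [Fin.sum_univ_two] at this
    exact this.symm
  obtain ⟨p₁, e₁, h₁⟩ := hdec z₁
  obtain ⟨p₂, e₂, h₂⟩ := hdec z₂
  have h2F := hE.two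
  have hreach : ∀ (z : img K h u) (B' : K) (p e : F), B hE z.1 z.1 = p • π z + e • B' → ∀ s σ : F, s ≠ 0 →
      ∃ y ∈ img K h u, B hE y y = σ • π z + (s * s * e) • B' := by
    intro z B' p e hz s σ hs
    refine ⟨(s • z : img K h u).1 + ((σ - s * s * p) / (2 * s)) • u,
      Submodule.add_mem _ (s • z).2 (Submodule.smul_mem _ _ hu_mem), ?_⟩
    rw [hval, map_smul]
    simp only [Submodule.coe_smul, LinearMap.map_smul_of_tower, LinearMap.smul_apply, hz]
    match_scalars <;> field_simp <;> ring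
  obtain ⟨ν, hν0, hν⟩ := exists_nonsquare hE (hr.odd_of_ne_two (by omega))
  have hβ0 : (bs 0).1 ≠ 0 := fun h0 => bs.ne_zero 0 (Subtype.ext h0)
  have hpick : ∀ W : K, W ≠ 0 → IsSquare (c₀ * W) ∨ IsSquare (c₀ * (ν • W)) := fun W hW => by
    by_cases hsq : IsSquare (c₀ * W)
    · exact Or.inl hsq
    refine Or.inr ?_
    rw [Algebra.smul_def, mul_left_comm]
    exact mul_nonsquare hE hν hsq
  have hfin : ∀ W : K, W ≠ 0 → (∃ y ∈ img K h u, B hE y y = W) → (∃ y ∈ img K h u, B hE y y = ν • W) →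
      ∃ y ∈ img K h u, B hE y y ≠ 0 ∧ IsSquare (c₀ * B hE y y) := by
    intro W hW ⟨y, hy, e⟩ ⟨y', hy', e'⟩
    rcases hpick W hW with hsq | hsq
    · exact ⟨y, hy, e.symm ▸ hW, e.symm ▸ hsq⟩
    · exact ⟨y', hy', e'.symm ▸ smul_ne_zero hν0 hW, e'.symm ▸ hsq⟩
  by_cases he₁ : e₁ = 0
  · refine hfin (bs 0).1 hβ0 ?_ ?_
    · obtain ⟨y, hy, e⟩ := hreach z₁ (bs 1).1 p₁ e₁ (by rw [h₁, hz₁]) 1 1 one_ne_zero
      exact ⟨y, hy, by rw [e, he₁, hz₁]; simp⟩
    · obtain ⟨y, hy, e⟩ := hreach z₁ (bs 1).1 p₁ e₁ (by rw [h₁, hz₁]) 1 ν one_ne_zero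
      exact ⟨y, hy, by rw [e, he₁, hz₁]; simp⟩
  refine hfin ((ν * p₂) • (bs 0).1 + e₁ • (bs 1).1) (fun h0 => he₁ ?_) ?_ ?_
  · have h0' : (ν * p₂) • bs 0 + e₁ • bs 1 = 0 := Subtype.ext (by simpa using h0)
    simpa using congrArg (fun v => bs.repr v 1) h0'
  · obtain ⟨y, hy, e⟩ := hreach z₁ (bs 1).1 p₁ e₁ (by rw [h₁, hz₁]) 1 (ν * p₂) one_ne_zero
    exact ⟨y, hy, by rw [e, hz₁]; simp⟩
  · obtain ⟨y, hy, e⟩ := hreach z₂ (bs 0).1 e₂ p₂ (by rw [h₂, hz₂, add_comm]) ν (ν * e₁) hν0
    exact ⟨y, hy, by rw [e, hz₂]; module⟩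

/-- Images of the line cannot carry such a vector. -/
theorem Fr.no_split (hr3 : Module.finrank F K = 3) {g : GL ι F} (hg : g ∈ M) {x : ι → F} (hxL : x ∈ img K g u)
    {w f' : ι → F} (hfr' : Fr hE w f' x) : False := by
  classical
  haveI : Finite K := Module.finite_of_finite F
  haveI : Fintype K := Fintype.ofFinite K
  haveI : Fintype F := Fintype.ofFinite F
  have hu0 := hfr.hyp.ne_left hE
  have hodd : Odd (Module.finrank F K) := hr.odd_of_ne_two (by omega)
  obtain ⟨C, hC, hm⟩ := hfr'.exists_tor_split hE hM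
  have hx := hfr'.ne
  have hx0 : x ≠ 0 := fun h => hx (by rw [h]; simp)
  set L := img K g u with hLdef
  set q := Fintype.card F with hqdef
  set m := Nat.card C with hmdef
  have hQK : Nat.card K = q ^ 3 := by
    rw [Nat.card_eq_fintype_card, Module.card_eq_pow_finrank (K := F) (V := K), hr3]
  have hq : 3 ≤ q := by
    have h1 := FiniteField.odd_card_of_char_ne_two (F := F) fun h => hE.two (by
      haveI := ringChar.eq_iff.1 h
      exact CharP.cast_eq_zero F 2)
    have := Fintype.one_lt_card (α := F)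
    omega
  rw [hQK] at hm
  -- the group fixing the vector and its subgroups
  set G : Subgroup (GL ι F) := M ⊓ fixSub (F ∙ x) with hG
  have hGx : ∀ A : G, mv (A : GL ι F) x = x := fun A => A.2.2 x (Submodule.mem_span_singleton_self x)
  have hmemG : ∀ A ∈ M, mv A x = x → A ∈ G := fun A hA h => ⟨hA, fun z hz => by
    obtain ⟨c, rfl⟩ := Submodule.mem_span_singleton.1 hz
    rw [mv_smul, h]⟩
  have hCG : C ≤ G := fun c hc => hmemG c (hC.le hc) (by simpa using hC.fix c hc 1)
  set Cg : Subgroup G := C.subgroupOf G with hCg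
  have hCgm : Nat.card Cg = m := Nat.card_congr (Subgroup.subgroupOfEquivOfLe hCG).toEquiv
  set Sl : Subgroup G := (stabSub L).subgroupOf G with hSl
  have hxK : ∀ A : G, x ∈ img K ((A : GL ι F) * g) u := fun A => by
    rw [img, map_mv_mul]
    exact hGx A ▸ mv_mem_map (A : GL ι F) hxL
  have himgA : ∀ A : G, img K ((A : GL ι F) * g) u = L.map (mvLin (A : GL ι F)) := fun A => by
    rw [img, map_mv_mul]; rfl
  have hconjSl : ∀ (c A : G), A⁻¹ * c * A ∈ Sl →
      (img K ((A : GL ι F) * g) u).map (mvLin (c : GL ι F)) = img K ((A : GL ι F) * g) u := by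
    intro c A h
    have h1 : L.map (mvLin ((A⁻¹ * c * A : G) : GL ι F)) = L := h
    have h3 := congrArg (Submodule.map (mvLin (A : GL ι F))) h1
    rw [← map_mv_mul] at h3
    rw [himgA, ← map_mv_mul]
    convert h3 using 3
    simp [mul_assoc]
  -- stabilisers of further images are small
  have hsmall : ∀ (H : Subgroup G) (A : G), (∀ a ∈ H, a • (QuotientGroup.mk A : G ⧸ Sl) = QuotientGroup.mk A →
      (∀ z ∈ img K ((A : GL ι F) * g) u, mv (a : GL ι F) z = z) → a = 1) →
      Nat.card (MulAction.stabilizer H (QuotientGroup.mk A : G ⧸ Sl)) ∣ 3 := by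
    intro H A hfaith
    set S : Subgroup (GL ι F) := ((MulAction.stabilizer H (QuotientGroup.mk A : G ⧸ Sl)).map H.subtype).map G.subtype
    have hcard : Nat.card S = Nat.card (MulAction.stabilizer H (QuotientGroup.mk A : G ⧸ Sl)) := by
      rw [Subgroup.card_map_of_injective G.subtype_injective, Subgroup.card_map_of_injective H.subtype_injective]
    rw [← hcard, ← hr3]
    refine hfr.act_dvd hE hM hR hr (M.mul_mem A.2.1 hg) (hxK A) hx0 ?_ ?_ ?_ ?_
    · rintro _ ⟨a, -, rfl⟩
      exact a.2.1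
    · rintro _ ⟨_, ⟨a, ha, rfl⟩, rfl⟩
      exact hconjSl a.1 A ((smul_coset_eq a.1 A).1 ha)
    · rintro _ ⟨a, -, rfl⟩
      exact hGx a
    · rintro _ ⟨_, ⟨a, ha, rfl⟩, rfl⟩ hfix
      exact congrArg Subtype.val (hfaith a.1 a.2 ha hfix)
  have hCstab : ∀ A : G, Nat.card (MulAction.stabilizer Cg (QuotientGroup.mk A : G ⧸ Sl)) ∣ 3 := fun A =>
    hsmall Cg A fun c hc _ hfix => Subtype.ext (by
      by_contra hne
      exact hfr.img_not_le hE hM (M.mul_mem A.2.1 hg) (hxK A) hx fun z hz => hC.exact _ hc hne z (hfix z hz))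
  obtain ⟨N, hN⟩ : ∃ N, N = Nat.card (G ⧸ Sl) := ⟨_, rfl⟩
  have hmN : m ∣ 3 * N := by
    have h := dvd_of_orbits (H := Cg) (X := G ⧸ Sl) (m := m) (c := 3) ∅ (fun y hy => absurd hy (Set.notMem_empty _))
      (fun y _ => by
        induction y using QuotientGroup.induction_on with
        | _ A =>
          have h1 := card_orbit_mul (H := Cg) (QuotientGroup.mk A : G ⧸ Sl)
          rw [hCgm] at h1
          obtain ⟨k, hk⟩ := hCstab A
          exact ⟨k, by rw [← h1, hk]; ring⟩)
    rw [show Nat.card (∅ : Set (G ⧸ Sl)) = 0 from Nat.card_of_isEmpty, ← hN] at h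
    rw [Nat.cast_zero, mul_zero, ← Nat.cast_mul] at h
    exact (ZMod.natCast_eq_zero_iff _ _).1 h
  -- the unipotent group of the line
  obtain ⟨ρ, hρinj, hρM, hρz⟩ := hfr.exists_rhoHom hE hM
  let ρg : Multiplicative K →* GL ι F := (MulAut.conj g).toMonoidHom.comp ρ
  have hρg : ∀ ν, ρg ν = g * ρ ν * g⁻¹ := fun ν => rfl
  have hρfix : ∀ ν, ∀ z ∈ L, mv (ρg ν) z = z := fun ν z hz => by
    obtain ⟨t, rfl⟩ := mem_img.1 hz
    rw [hρg, mv_mul, mv_mul, mv_inv_mv, hfr.rho_fix_line hE hM (hρz ν)]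
  have hρG : ∀ ν, ρg ν ∈ G := fun ν => hmemG _ (M.mul_mem (M.mul_mem hg (hρM ν)) (M.inv_mem hg)) (hρfix ν x hxL)
  let ρG : Multiplicative K →* G := ρg.codRestrict G hρG
  set R := ρG.range with hRdef
  have hρGinj : Function.Injective ρG := fun a b h => hρinj ((MulAut.conj g).injective (congrArg Subtype.val h))
  have hRcard : Nat.card R = q ^ 3 := by
    rw [hRdef, ← Nat.card_congr (MonoidHom.ofInjective hρGinj).toEquiv]
    exact hQK
  have hRfix : ∀ a ∈ R, ∀ z ∈ L, mv (a : GL ι F) z = z := by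
    rintro _ ⟨ν, rfl⟩ z hz
    exact hρfix ν z hz
  have hRSl : R ≤ Sl := fun a ha => by
    show L.map (mvLin (a : GL ι F)) = L
    refine le_antisymm ?_ fun z hz => ?_
    · rintro _ ⟨z, hz, rfl⟩
      rwa [mvLin_eq, hRfix a ha z hz]
    · exact hRfix a ha z hz ▸ mv_mem_map _ hz
  have hRfixS : ∀ a ∈ R, a ≠ 1 → fixS (a : GL ι F) = L := by
    rintro _ ⟨ν, rfl⟩ hne
    refine le_antisymm (fun z hz => ?_) fun z hz => mem_fixS.2 (hρfix ν z hz)
    have hz' : mv (ρ ν) (mv g⁻¹ z) = mv g⁻¹ z := by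
      have e := mem_fixS.1 hz
      rw [show ((ρG ν : G) : GL ι F) = g * ρ ν * g⁻¹ from rfl, mv_mul, mv_mul] at e
      exact ((mv_eq_iff g).1 e)
    obtain ⟨t, ht⟩ := mem_line.1 (hfr.rho_fixed hE hM (hρz ν)
      (fun h => hne (by rw [show ν = 1 from h, map_one])) hz')
    exact mem_img.2 ⟨t, by rw [ht, mv_mv_inv]⟩
  have hRstab : ∀ A : G, A ∉ Sl → Nat.card (MulAction.stabilizer R (QuotientGroup.mk A : G ⧸ Sl)) ∣ 3 := fun A hA =>
    hsmall R A fun a ha _ hfix => by
      by_contra hne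
      refine hA ?_
      show L.map (mvLin (A : GL ι F)) = L
      rw [← himgA]
      refine Submodule.eq_of_le_of_finrank_le (fun z hz => ?_) (by rw [finrank_img _ hu0, finrank_img _ hu0])
      rw [← hRfixS a ha hne]
      exact mem_fixS.2 (hfix z hz)
  have hNQ : 3 * N % (q ^ 3) = 3 := by
    have h := dvd_of_orbits (H := R) (X := G ⧸ Sl) (m := q ^ 3) (c := 3) {QuotientGroup.mk 1}
      (fun y hy a => by
        rw [Set.mem_singleton_iff] at hy
        subst hy
        exact (smul_coset_eq a.1 1).2 (by rw [inv_one, one_mul, mul_one]; exact hRSl a.2))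
      (fun y hy => by
        induction y using QuotientGroup.induction_on with
        | _ A =>
          have hA : A ∉ Sl := fun h => hy (by
            rw [Set.mem_singleton_iff, QuotientGroup.eq, mul_one]
            exact Sl.inv_mem h)
          have h1 := card_orbit_mul (H := R) (QuotientGroup.mk A : G ⧸ Sl)
          rw [hRcard] at h1
          obtain ⟨k, hk⟩ := hRstab A hA
          exact ⟨k, by rw [← h1, hk]; ring⟩)
    rw [show Nat.card ({QuotientGroup.mk 1} : Set (G ⧸ Sl)) = 1 from Nat.card_unique, ← hN, ← Nat.cast_mul,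
      ← Nat.cast_mul, ZMod.natCast_eq_natCast_iff', mul_one] at h
    rw [h]
    refine Nat.mod_eq_of_lt ?_
    have := Nat.pow_le_pow_left hq 3
    omega
  -- few singular vectors orthogonal to the given one
  have hbound : N * (q ^ 3 - q) ≤ 2 * q ^ 7 := by
    set H := LinearMap.ker (formQ hE.quad x) with hH
    have hHd : Module.finrank F H ≤ 8 := by
      have hne : H ≠ ⊤ := fun h => by
        obtain ⟨y, hy⟩ := (hE.quad.nondegenerate x hx0).2
        have hyH : y ∈ H := h ▸ Submodule.mem_top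
        rw [hH, LinearMap.mem_ker, formQ_apply, pol_comm] at hyH
        exact hy hyH
      have h1 := Submodule.finrank_lt hne
      have h3 := Module.finrank_mul_finrank F K (ι → F)
      rw [hfr.dim, hr3] at h3
      omega
    obtain ⟨wu, ff, wf, fw, xw, xf, wx, fx⟩ := hfr'.rules hE
    obtain ⟨s, hs⟩ := exists_ell hE (1 : F)
    set v := s • w + f' with hv
    have hvQ : Q v ≠ 0 := fun h0 => by
      have e := q_eq hE v
      rw [h0, mul_zero] at e
      simp [hv, wu, ff, wf, fw, ← two_mul] at e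
      rw [two_mul, map_add, hs] at e
      exact hE.two (by linear_combination -e)
    have hvH : v ∈ H := by
      rw [hH, LinearMap.mem_ker, formQ_apply, ← ell_B_one hE]
      simp [hv, wx, fx]
    let V' := {v : L // v.1 ∉ F ∙ x}
    have hV' : Nat.card V' = q ^ 3 - q := by
      have hcL : Fintype.card L = q ^ 3 := by
        rw [Module.card_eq_pow_finrank (K := F) (V := L), hLdef, finrank_img g hu0, hr3]
      have hcx : Fintype.card {v : L // v.1 ∈ F ∙ x} = q := by
        rw [show Fintype.card {v : L // v.1 ∈ F ∙ x} = Fintype.card ↥(F ∙ x) from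
          Fintype.card_congr (Submodule.comapSubtypeEquivOfLe
          (show F ∙ x ≤ L by rw [Submodule.span_singleton_le_iff_mem]; exact hxL)).toEquiv,
          Module.card_eq_pow_finrank (K := F) (V := ↥(F ∙ x)), finrank_span_singleton hx0, pow_one]
      rw [Nat.card_eq_fintype_card, Fintype.card_subtype_compl, hcL, hcx]
    let Z := {z : H // Q z.1 = 0}
    have hmemH : ∀ (A : G) (v : L), mv (A : GL ι F) v.1 ∈ H := fun A v => by
      rw [hH, LinearMap.mem_ker, formQ_apply]
      conv_lhs => arg 3; rw [← hGx A]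
      rw [pol_mv hE.quad (M_iso hE hM A.2.1)]
      exact img_pol hE hM hg hfr.hyp.1 v.2 hxL
    have hmemZ : ∀ (A : G) (v : L), Q (mv (A : GL ι F) v.1) = 0 := fun A v => by
      rw [mem_isometry.1 (M_iso hE hM A.2.1)]
      obtain ⟨t, ht⟩ := mem_img.1 v.2
      rw [← ht, mem_isometry.1 (M_iso hE hM hg)]
      exact q_zero_of hE (by simp [hfr.hyp.1])
    let φ : (G ⧸ Sl) × V' → Z := fun p =>
      ⟨⟨mv ((Quotient.out p.1 : G) : GL ι F) p.2.1.1, hmemH _ _⟩, hmemZ _ _⟩
    have hφ : Function.Injective φ := by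
      rintro ⟨ω₁, v₁⟩ ⟨ω₂, v₂⟩ he
      have he' : mv ((Quotient.out ω₁ : G) : GL ι F) v₁.1.1 = mv ((Quotient.out ω₂ : G) : GL ι F) v₂.1.1 :=
        congrArg (fun z : Z => z.1.1) he
      set A₁ : G := Quotient.out ω₁ with hA₁
      set A₂ : G := Quotient.out ω₂ with hA₂
      set z := mv (A₁ : GL ι F) v₁.1.1 with hz
      have hzx : z ∉ F ∙ x := fun h => by
        obtain ⟨c, hc⟩ := Submodule.mem_span_singleton.1 h
        refine v₁.2 (Submodule.mem_span_singleton.2 ⟨c, mv_inj (A₁ : GL ι F) ?_⟩)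
        rw [mv_smul, hGx, hc]
      have hl1 : z ∈ img K ((A₁ : GL ι F) * g) u := himgA A₁ ▸ mv_mem_map _ v₁.1.2
      have hl2 : z ∈ img K ((A₂ : GL ι F) * g) u := himgA A₂ ▸ he' ▸ mv_mem_map _ v₂.1.2
      have heq : img K ((A₁ : GL ι F) * g) u = img K ((A₂ : GL ι F) * g) u := by
        by_contra hne
        have h1 := hfr.pair_le_one hE hM hR hr (by omega) (M.mul_mem A₁.2.1 hg) (M.mul_mem A₂.2.1 hg) hne
        have hlt : F ∙ x < F ∙ x ⊔ F ∙ z := lt_of_le_of_ne le_sup_left fun h =>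
          hzx (h ▸ Submodule.mem_sup_right (Submodule.mem_span_singleton_self z))
        have h3 := Submodule.finrank_lt_finrank_of_lt hlt
        rw [finrank_span_singleton hx0] at h3
        have h5 := Submodule.finrank_mono (show F ∙ x ⊔ F ∙ z ≤
            img K ((A₁ : GL ι F) * g) u ⊓ img K ((A₂ : GL ι F) * g) u by
          refine sup_le ?_ ?_ <;> rw [Submodule.span_singleton_le_iff_mem]
          · exact ⟨hxK A₁, hxK A₂⟩
          · exact ⟨hl1, hl2⟩)
        omega
      have hω : ω₁ = ω₂ := by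
        rw [← Quotient.out_eq ω₁, ← Quotient.out_eq ω₂]
        refine (QuotientGroup.eq (s := Sl)).2 ?_
        show L.map (mvLin ((A₁⁻¹ * A₂ : G) : GL ι F)) = L
        rw [Subgroup.coe_mul, map_mv_mul, ← himgA, ← heq, himgA, ← map_mv_mul, ← Subgroup.coe_mul, inv_mul_cancel,
          Subgroup.coe_one, map_mv_one]
      subst hω
      exact Prod.ext rfl (Subtype.ext (Subtype.ext (mv_inj _ he')))
    have h1 := Nat.card_le_card_of_injective φ hφ
    rw [Nat.card_prod, hV', ← hN] at h1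
    refine h1.trans ?_
    set P := (F ∙ v).comap H.subtype
    have hP : Module.finrank F P = 1 := by
      rw [(Submodule.comapSubtypeEquivOfLe ((Submodule.span_singleton_le_iff_mem _ _).2 hvH)).finrank_eq,
        finrank_span_singleton fun h => hvQ (by rw [h]; exact q_zero hE.quad)]
    haveI : Fintype (H ⧸ P) := Fintype.ofFinite _
    have hquot : Fintype.card (H ⧸ P) ≤ q ^ 7 := by
      rw [Module.card_eq_pow_finrank (K := F) (V := H ⧸ P)]
      refine Nat.pow_le_pow_right (by omega) ?_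
      have := P.finrank_quotient_add_finrank
      omega
    rw [Nat.card_eq_fintype_card, ← Finset.card_univ]
    refine le_trans (Finset.card_le_mul_card_image (f := fun z : Z => P.mkQ z.1) (s := Finset.univ) 2 fun y hy => ?_)
      (Nat.mul_le_mul_left _ ((Finset.card_le_univ _).trans hquot))
    obtain ⟨z₀, -, rfl⟩ := Finset.mem_image.1 hy
    have key : ∀ z : Z, P.mkQ z.1 = P.mkQ z₀.1 → ∃ c : F, z.1.1 = z₀.1.1 + c • v ∧
        (c = 0 ∨ c = -pol Q z₀.1.1 v / Q v) := by
      intro z hz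
      obtain ⟨c, hc⟩ := Submodule.mem_span_singleton.1 ((Submodule.Quotient.eq P).1 hz)
      have e : z.1.1 = z₀.1.1 + c • v := by rw [hc]; simp
      refine ⟨c, e, ?_⟩
      have h0 := z.2
      rw [e, q_add hE.quad, q_smul hE.quad, z₀.2, pol_smul_right hE.quad] at h0
      rcases mul_eq_zero.1 (show c * (pol Q z₀.1.1 v + c * Q v) = 0 by linear_combination h0) with h | h
      · exact Or.inl h
      · exact Or.inr (by rw [eq_div_iff hvQ]; linear_combination h)
    calc _ ≤ ({0, -pol Q z₀.1.1 v / Q v} : Finset F).card := by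
          refine Finset.card_le_card_of_injOn (fun z => (Classical.epsilon fun c : F => z.1.1 = z₀.1.1 + c • v))
            (fun z hz => ?_) fun z hz z' hz' he => ?_
          · obtain ⟨c, hc, hc'⟩ := key z (Finset.mem_filter.1 hz).2
            have e := Classical.epsilon_spec (p := fun c : F => z.1.1 = z₀.1.1 + c • v) ⟨c, hc⟩
            simp only
            rw [show (Classical.epsilon fun c : F => z.1.1 = z₀.1.1 + c • v) = c from
              smul_left_injective F (fun h => hvQ (by rw [h]; exact q_zero hE.quad))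
                (add_left_cancel (e.symm.trans hc))]
            rcases hc' with h | h <;> simp [h]
          · obtain ⟨c, hc, -⟩ := key z (Finset.mem_filter.1 hz).2
            obtain ⟨c', hc', -⟩ := key z' (Finset.mem_filter.1 hz').2
            have e := Classical.epsilon_spec (p := fun c : F => z.1.1 = z₀.1.1 + c • v) ⟨c, hc⟩
            have e' := Classical.epsilon_spec (p := fun c : F => z'.1.1 = z₀.1.1 + c • v) ⟨c', hc'⟩
            exact Subtype.ext (Subtype.ext (e.trans ((congrArg (fun c : F => z₀.1.1 + c • v) he).trans e'.symm)))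
      _ ≤ 2 := Finset.card_le_two
  obtain ⟨hq3, hN91⟩ := bound_cubic hq rfl hm hmN hNQ hbound
  -- the remaining group of small order
  have hSlR : ∃ ψ : Sl →* (K ≃ₐ[F] K), ψ.ker ≤ R.subgroupOf Sl := by
    have hS : ∀ A ∈ Sl.map G.subtype, A ∈ M ∧ L.map (mvLin A) = L ∧ mv A x = x := by
      rintro _ ⟨a, ha, rfl⟩
      exact ⟨a.2.1, ha, hGx a⟩
    obtain ⟨ψ, hψ⟩ := hfr.act_hom hE hM hR hr hg hxL hx0 (S := Sl.map G.subtype) (fun A hA => (hS A hA).1)
      (fun A hA => (hS A hA).2.1) (fun A hA => (hS A hA).2.2)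
    refine ⟨ψ.comp (Sl.equivMapOfInjective G.subtype G.subtype_injective).toMonoidHom, fun A hA => ?_⟩
    have hfix : ∀ z ∈ L, mv ((A : G) : GL ι F) z = z := hψ _ hA
    have hAM : g⁻¹ * ((A : G) : GL ι F) * g ∈ M := M.mul_mem (M.mul_mem (M.inv_mem hg) A.1.2.1) hg
    have hfix' : ∀ t : K, mv (g⁻¹ * ((A : G) : GL ι F) * g) (t • u) = t • u := fun t => by
      rw [mv_mul, mv_mul, hfix _ (mem_img.2 ⟨t, rfl⟩), mv_inv_mv]
    obtain ⟨ν, hν⟩ := hfr.stab_of_two hE hM hR hr hodd hAM (fun t => by rw [hfix']; exact mem_line.2 ⟨t, rfl⟩)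
      (P := line K u) (le_inf le_rfl fun z hz => by
        obtain ⟨t, rfl⟩ := mem_line.1 hz
        exact mem_fixS.2 (hfix' t))
      (by rw [finrank_line hu0]; omega)
    refine ⟨Multiplicative.ofAdd ν, Subtype.ext ?_⟩
    show g * ρ _ * g⁻¹ = ((A : G) : GL ι F)
    rw [isRho_unique hE hfr hM (hρz (Multiplicative.ofAdd ν)) hν]
    group
  obtain ⟨ψ, hψ⟩ := hSlR
  have hSl81 : Nat.card Sl ∣ 81 := by
    have h1 := ψ.ker.card_mul_index
    rw [Subgroup.index_ker] at h1
    rw [← h1, show (81 : ℕ) = 27 * 3 by norm_num]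
    refine Nat.mul_dvd_mul ((Subgroup.card_dvd_of_le hψ).trans ?_) ?_
    · rw [Nat.card_congr (Subgroup.subgroupOfEquivOfLe hRSl).toEquiv, hRcard, hq3]
      norm_num
    · exact hr3 ▸ IsGalois.card_aut_eq_finrank F K ▸ Subgroup.card_subgroup_dvd_card ψ.range
  have hGcard : Nat.card G = 91 * Nat.card Sl := by
    rw [← Sl.card_mul_index, Subgroup.index_eq_card, ← hN, hN91, mul_comm]
  have hR27 : Nat.card R = 27 := by rw [hRcard, hq3]; norm_num
  have hR9 : ∀ A : G, A ∉ Sl → ∀ K₀ : Subgroup R, 9 ≤ Nat.card K₀ →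
      ∃ a ∈ K₀, (a : G) • (QuotientGroup.mk A : G ⧸ Sl) ≠ QuotientGroup.mk A := by
    intro A hA K₀ h9
    by_contra h
    push Not at h
    have hle : K₀ ≤ MulAction.stabilizer R (QuotientGroup.mk A : G ⧸ Sl) := fun a ha => h a ha
    have := Nat.le_of_dvd (by norm_num) ((Subgroup.card_dvd_of_le hle).trans (hRstab A hA))
    omega
  exact no_group (G := G) hGcard hSl81 Cg (by rw [hCgm]; norm_num [hq3] at hm; omega)
    (haveI := hC.cyc; isCyclic_of_surjective _ (Subgroup.subgroupOfEquivOfLe hCG).symm.surjective) R hR27 hRSl hR9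
end Cfsg.Agent.OrthFieldExt
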