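/-
Three dimensions over the field: one nonzero element in the corner gives everything.
-/
import Cfsg.Agent.Lib.OrthFieldExt.ThreeFin
import Cfsg.Agent.Lib.OrthFieldExt.ThreeTools
import Mathlib.FieldTheory.ChevalleyWarning

set_option autoImplicit false
set_option linter.all false
set_option maxHeartbeats 1000000

namespace Cfsg.Agent.OrthFieldExt

open scoped Matrix
open Matrix Cfsg.Agent.Transvec Cfsg.Agent.Transvec.Orth

variable {ι : Type} [Fintype ι] [DecidableEq ι] {F : Type*} [Field F] {Q : (ι → F) → F}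
variable {K : Type*} [Field K] [Algebra F K] [Module K (ι → F)] [IsScalarTower F K (ι → F)] [FiniteDimensional F K]

variable (K) in
/-- The coefficients of the part of a subspace on a line. -/
def coef (L : Submodule F (ι → F)) (u : ι → F) : Submodule F K :=
  L.comap ((LinearMap.toSpanSingleton K (ι → F) u).restrictScalars F)

theorem mem_coef {L : Submodule F (ι → F)} {u : ι → F} {w : K} : w ∈ coef K L u ↔ w • u ∈ L := Iff.rfl

theorem coef_map (L : Submodule F (ι → F)) (u : ι → F) :
    (coef K L u).map ((LinearMap.toSpanSingleton K (ι → F) u).restrictScalars F) = line K u ⊓ L := by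
  ext z
  constructor
  · rintro ⟨w, hw, rfl⟩
    exact ⟨mem_line.2 ⟨w, rfl⟩, hw⟩
  · rintro ⟨h1, h2⟩
    obtain ⟨w, rfl⟩ := mem_line.1 h1
    exact ⟨w, h2, rfl⟩

theorem finrank_coef (L : Submodule F (ι → F)) {u : ι → F} (hu : u ≠ 0) :
    Module.finrank F (coef K L u) = Module.finrank F ↥(line K u ⊓ L) := by
  rw [← coef_map]
  exact (Submodule.equivMapOfInjective _ (smul_left_injective K hu) _).finrank_eq

variable (K) in
/-- A line meeting the first as much as possible among those different from it. -/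
structure Top (M : Subgroup (GL ι F)) (g : GL ι F) (u : ι → F) : Prop where
  mem : g ∈ M
  ne : img K g u ≠ line K u
  pos : 0 < meet K g u
  max : ∀ g' ∈ M, img K g' u ≠ line K u → meet K g' u ≤ meet K g u

variable {ℓ : Module.Dual F K} (hE : Ext Q ℓ)
include hE

variable {u f b : ι → F} (hfr : Fr hE u f b) {M : Subgroup (GL ι F)} (hM : Over Q K M) [Finite F]
include hfr hM

theorem Top.le_of_map {g X : GL ι F} (ht : Top K M g u) (hX : X ∈ M)
    (hne : (img K g u).map (mvLin X) ≠ img K g u) :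
    Module.finrank F ↥(img K g u ⊓ (img K g u).map (mvLin X)) ≤ meet K g u ∧
      g⁻¹ * X * g ∈ M ∧ img K (g⁻¹ * X * g) u ≠ line K u ∧
      meet K (g⁻¹ * X * g) u = Module.finrank F ↥(img K g u ⊓ (img K g u).map (mvLin X)) ∧
      img K (g⁻¹ * X * g) u = ((img K g u).map (mvLin X)).map (mvLin g⁻¹) := by
  have hk : g⁻¹ * X * g ∈ M := M.mul_mem (M.mul_mem (M.inv_mem ht.mem) hX) ht.mem
  have himg : img K (g⁻¹ * X * g) u = ((img K g u).map (mvLin X)).map (mvLin g⁻¹) := by
    rw [img, img, map_mv_mul, map_mv_mul]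
  have hline : line K u = (img K g u).map (mvLin g⁻¹) := by
    rw [img, ← map_mv_mul, inv_mul_cancel, map_mv_one]
  have hne' : img K (g⁻¹ * X * g) u ≠ line K u := fun h => hne (by
    rw [himg, hline] at h
    exact Submodule.map_injective_of_injective (mvLin_inj g⁻¹) h)
  have hmeet : meet K (g⁻¹ * X * g) u = Module.finrank F ↥(img K g u ⊓ (img K g u).map (mvLin X)) := by
    rw [meet, himg, hline, ← Submodule.map_inf _ (mvLin_inj g⁻¹), finrank_map_mv]
  exact ⟨hmeet ▸ ht.max _ hk hne', hk, hne', hmeet, himg⟩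

theorem Top.lt {g : GL ι F} (ht : Top K M g u) : meet K g u < Module.finrank F K := by
  have hu0 := hfr.hyp.ne_left hE
  by_contra hge
  push Not at hge
  refine ht.ne ?_
  have e1 : line K u ⊓ img K g u = line K u :=
    Submodule.eq_of_le_of_finrank_le inf_le_left (by rw [finrank_line hu0]; exact hge)
  exact (Submodule.eq_of_le_of_finrank_le (inf_eq_left.1 e1) (by rw [finrank_line hu0, finrank_img g hu0])).symm

/-- The image is totally singular and orthogonal to the perpendicular of the line only through the line. -/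
theorem Top.perp_img {g : GL ι F} (ht : Top K M g u) {z : ι → F} (hz : B hE z u = 0) {y : ι → F}
    (hy : y ∈ img K g u) : pol Q (mv g z) y = 0 := by
  obtain ⟨a, rfl⟩ := mem_img.1 hy
  rw [pol_mv hE.quad (M_iso hE hM ht.mem), ← ell_B_one hE]
  simp [hz]

/-- An element fixing part of the image and preserving it gives the final configuration. -/
theorem Top.finish (hn : 7 ≤ Fintype.card ι) (hr : (Module.finrank F K).Prime) {g X : GL ι F}
    (ht : Top K M g u) (hX : X ∈ M) (hfix : ∀ w ∈ line K u ⊓ img K g u, mv X w = w)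
    (hperp : ∀ x, (∀ y ∈ img K g u, pol Q x y = 0) → mv X x - x ∈ img K g u)
    (hpres : ∀ z ∈ img K g u, mv X z ∈ img K g u) (hmove : ∃ z ∈ img K g u, mv X z ≠ z) : M = Geo.omegaGL Q := by
  have hback : ∀ y ∈ img K g u, mv g⁻¹ y ∈ line K u := fun y hy => by
    obtain ⟨a, rfl⟩ := mem_img.1 hy
    rw [mv_inv_mv]
    exact mem_line.2 ⟨a, rfl⟩
  obtain ⟨w, hw, hw0⟩ : ∃ w ∈ line K u ⊓ img K g u, w ≠ 0 := Submodule.exists_mem_ne_zero_of_ne_bot fun h => by
    have := ht.pos
    unfold meet at this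
    rw [h, finrank_bot] at this
    omega
  obtain ⟨t₀, ht₀⟩ := mem_img.1 hw.2
  refine hfr.eq_omega_of_fin hE hM hn hr (A := g⁻¹ * X * g) (M.mul_mem (M.mul_mem (M.inv_mem ht.mem) hX) ht.mem)
    (fun t => ?_) (fun z hz => ?_) (t₀ := t₀) (fun h => hw0 (by rw [← ht₀, h, zero_smul, mv_zero])) ?_ ?_
  · rw [mv_mul, mv_mul]
    exact hback _ (hpres _ (mem_img.2 ⟨t, rfl⟩))
  · have h1 := hback _ (hperp (mv g z) fun y hy => ht.perp_img hE hfr hM hz hy)
    rw [mv_sub, mv_inv_mv] at h1
    rwa [mv_mul, mv_mul]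
  · rw [mv_mul, mv_mul, ht₀, hfix w hw, ← ht₀, mv_inv_mv]
  · obtain ⟨z, hz, hne⟩ := hmove
    obtain ⟨t, rfl⟩ := mem_img.1 hz
    refine ⟨t, fun h => hne ?_⟩
    rw [mv_mul, mv_mul] at h
    exact ((mv_eq_iff g⁻¹).1 h).trans (by rw [inv_inv])

/-- The case of an image vector orthogonal to the line outside it; in degree three some corner element must move
each vector out of a given line of coefficients. -/
theorem Top.eq_omega_of_loose (hn : 7 ≤ Fintype.card ι) (hr : (Module.finrank F K).Prime)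
    (hr5 : 3 ≤ Module.finrank F K) (hwide : Module.finrank F K = 3 → ∀ β : K, β ≠ 0 → ∀ w : K,
      ∃ Θ : K →ₗ[F] K, El hE M u Θ ∧ Θ β ∉ F ∙ w)
    {g : GL ι F} (ht : Top K M g u) {z : ι → F} (hz : z ∈ img K g u)
    (hzu : B hE z u = 0) (hzl : z ∉ line K u) : M = Geo.omegaGL Q := by
  obtain ⟨huu, hff, huf, hfu, hbu, hbf, hub, hfb⟩ := hfr.rules hE
  have h2 := two' hE
  have hc := hfr.ne
  have hu0 := hfr.hyp.ne_left hE
  set c₀ := B hE b b with hc₀
  set μ := B hE z b / c₀ with hμ
  have hμ0 : μ ≠ 0 := fun h => hzl (mem_line.2 ⟨B hE z f, by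
    have e := hfr.dec_perp hE hzu
    rw [← hμ, h, zero_smul, add_zero] at e
    exact e.symm⟩)
  set WK := coef K (img K g u) u with hWKd
  have hWd : Module.finrank F WK = meet K g u := finrank_coef _ hu0
  have hWK : WK ≠ ⊥ := fun h => by
    have := ht.pos
    rw [← hWd, h, finrank_bot] at this
    omega
  have hWK' : WK ≠ ⊤ := fun h => by
    have := ht.lt hE hfr hM
    rw [← hWd, h, finrank_top] at this
    omega
  set W := line K u ⊓ img K g u with hW
  have hlt : W < W ⊔ F ∙ z := lt_of_le_of_ne le_sup_left fun h =>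
    hzl (h ▸ Submodule.mem_sup_right (Submodule.mem_span_singleton_self z) : z ∈ W).1
  have hrank := Submodule.finrank_lt_finrank_of_lt hlt
  -- the unipotent elements attached to the coefficients
  have hrho : ∀ w ∈ WK, ∃ X ∈ M, (∀ y ∈ W, mv X y = y) ∧ IsRho hE X u ((-(w / (c₀ * μ))) • b) ∧
      (img K g u).map (mvLin X) = img K g u := by
    intro w hw
    obtain ⟨X, hX, hk, hXz, -⟩ := hfr.exists_rho hE hM (-(w / (c₀ * μ)))
    have hXW : ∀ y ∈ W, mv X y = y := fun y hy => by
      obtain ⟨a, rfl⟩ := mem_line.1 hy.1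
      rw [hXz]; simp [huu, hub]
    have hXzz : mv X z = z + w • u := by
      rw [hXz, hzu]
      simp only [zero_smul, add_zero, mul_zero, map_smul, smul_eq_mul, sub_eq_add_neg, ← neg_smul]
      congr 2
      rw [hμ] at hμ0 ⊢
      field_simp [(div_ne_zero_iff.1 hμ0).1]
    refine ⟨X, hX, hXW, hXz, by_contra fun hne => ?_⟩
    have h1 := (ht.le_of_map hE hfr hM hX hne).1
    have hle : W ⊔ F ∙ z ≤ img K g u ⊓ (img K g u).map (mvLin X) := by
      have hWle : ∀ y ∈ W, y ∈ (img K g u).map (mvLin X) := fun y hy => hXW y hy ▸ mv_mem_map X hy.2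
      refine sup_le (fun y hy => ⟨hy.2, hWle y hy⟩) ?_
      rw [Submodule.span_singleton_le_iff_mem]
      refine ⟨hz, ?_⟩
      have := Submodule.sub_mem _ (mv_mem_map X hz) (hWle (w • u) ⟨mem_line.2 ⟨w, rfl⟩, hw⟩)
      rwa [hXzz, add_sub_cancel_right] at this
    have h3 := Submodule.finrank_mono hle
    have h4 : Module.finrank F W = meet K g u := rfl
    omega
  -- vectors orthogonal to the line
  have hker : ∀ z' ∈ img K g u, B hE z' u = 0 →
      B hE z' b / c₀ ∈ F ∙ μ ∧ ∃ a : F, z' - a • z ∈ W := by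
    intro z' hz' hz'u
    set μ' := B hE z' b / c₀ with hμ'
    have hm : μ' / μ ∈ F ∙ (1 : K) := mem_ground_of_stable hr hWK hWK' fun w hw => by
      obtain ⟨X, -, -, hXz, hmap⟩ := hrho w hw
      have h1 := Submodule.sub_mem _ (hmap.le (mv_mem_map X hz')) hz'
      rw [hXz, hz'u] at h1
      simp only [zero_smul, add_zero, mul_zero, map_smul, smul_eq_mul, sub_sub_cancel_left, ← neg_smul] at h1
      rw [mem_coef]
      convert h1 using 2
      rw [hμ', hμ] at *
      field_simp [(div_ne_zero_iff.1 hμ0).1]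
    obtain ⟨a, ha⟩ := Submodule.mem_span_singleton.1 hm
    have hmu : μ' = a • μ := by
      rw [← div_mul_cancel₀ μ' hμ0, ← ha, smul_mul_assoc, one_mul]
    refine ⟨Submodule.mem_span_singleton.2 ⟨a, hmu.symm⟩, a, ?_, Submodule.sub_mem _ hz' (Submodule.smul_mem _ a hz)⟩
    have e1 := hfr.dec_perp hE hz'u
    rw [← hμ', hmu] at e1
    have e2 := hfr.dec_perp hE hzu
    rw [← hμ] at e2
    refine mem_line.2 ⟨B hE z' f - a • B hE z f, ?_⟩
    conv_rhs => rw [e1, e2]
    rw [sub_smul, smul_add, smul_assoc, smul_assoc]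
    abel
  have hall : ∀ z' ∈ img K g u, B hE z' u = 0 := by
    by_contra hne
    push Not at hne
    obtain ⟨z₁, hz₁, hz₁u⟩ := hne
    have hWle : ∀ w ∈ WK, ∀ β, β = B hE z₁ u ∨ (∃ z' ∈ img K g u, B hE z' u = β) → w * β ∈ F ∙ (c₀ * μ * μ) := by
      intro w hw β hβ
      obtain ⟨z', hz', rfl⟩ : ∃ z' ∈ img K g u, B hE z' u = β := hβ.elim (fun h => ⟨z₁, hz₁, h.symm⟩) id
      obtain ⟨X, -, -, hXz, hmap⟩ := hrho w hw
      have h1 := Submodule.sub_mem _ (hmap.le (mv_mem_map X hz')) hz'
      have h3 : B hE (mv X z' - z') u = 0 := by rw [hXz]; simp [huu, hbu]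
      obtain ⟨h4, -⟩ := hker _ h1 h3
      obtain ⟨a, ha⟩ := Submodule.mem_span_singleton.1 h4
      refine Submodule.mem_span_singleton.2 ⟨-a, ?_⟩
      rw [hXz] at ha
      simp [hub, ← hc₀] at ha
      rw [neg_smul, mul_assoc, ← mul_smul_comm, ← mul_smul_comm, ha]
      field_simp
    obtain ⟨w₁, hw₁, hw₁0⟩ := WK.ne_bot_iff.1 hWK
    have hj1 : meet K g u = 1 := by
      have hle : WK ≤ F ∙ (c₀ * μ * μ / B hE z₁ u) := fun w hw => by
        obtain ⟨a, ha⟩ := Submodule.mem_span_singleton.1 (hWle w hw _ (Or.inl rfl))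
        exact Submodule.mem_span_singleton.2 ⟨a, by rw [← mul_div_cancel_right₀ w hz₁u, ← ha, smul_div_assoc]⟩
      have h1 := Submodule.finrank_mono hle
      have h3 : Module.finrank F ↥(F ∙ (c₀ * μ * μ / B hE z₁ u)) ≤ 1 := (finrank_span_le_card _).trans (by simp)
      have := ht.pos
      omega
    let π : img K g u →ₗ[F] K := (((B hE).flip u).restrictScalars F).domRestrict (img K g u)
    have hkle : (LinearMap.ker π).map (img K g u).subtype ≤ W ⊔ F ∙ z := by
      rintro _ ⟨⟨y, hy⟩, hy0, rfl⟩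
      obtain ⟨a, ha⟩ := (hker y hy hy0).2
      exact Submodule.mem_sup.2 ⟨_, ha, a • z, Submodule.smul_mem _ a (Submodule.mem_span_singleton_self z),
        sub_add_cancel _ _⟩
    have hrange : LinearMap.range π ≤ F ∙ (c₀ * μ * μ / w₁) := by
      rintro _ ⟨⟨y, hy⟩, rfl⟩
      obtain ⟨a, ha⟩ := Submodule.mem_span_singleton.1 (hWle w₁ hw₁ _ (Or.inr ⟨y, hy, rfl⟩))
      refine Submodule.mem_span_singleton.2 ⟨a, ?_⟩
      show _ = B hE y u
      rw [← mul_div_cancel_left₀ (B hE y u) hw₁0, ← ha, smul_div_assoc]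
    have h1 := Submodule.finrank_mono hkle
    rw [Submodule.finrank_map_subtype_eq] at h1
    have h3 := Submodule.finrank_mono hrange
    have h4 : Module.finrank F ↥(F ∙ (c₀ * μ * μ / w₁)) ≤ 1 := (finrank_span_le_card _).trans (by simp)
    have h5 := LinearMap.finrank_range_add_finrank_ker π
    rw [finrank_img g hu0] at h5
    have h6 := Submodule.finrank_add_le_finrank_add_finrank W (F ∙ z)
    have h7 : Module.finrank F ↥(F ∙ z) ≤ 1 := (finrank_span_le_card _).trans (by simp)
    have h8 : Module.finrank F W = meet K g u := rfl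
    have hWKle : WK ≤ F ∙ w₁ := le_of_eq (Submodule.eq_of_le_of_finrank_le
      ((Submodule.span_singleton_le_iff_mem _ _).2 hw₁) (by rw [finrank_span_singleton hw₁0]; omega)).symm
    obtain ⟨Θ, ⟨E, hEM, hEz⟩, hΘ⟩ := hwide (by omega) _ hz₁u w₁
    have hEW : ∀ y ∈ W, mv E y = y := fun y hy => by
      obtain ⟨a, rfl⟩ := mem_line.1 hy.1
      rw [hEz]; simp [huu]
    have hEze : mv E z = z := by rw [hEz, hzu]; simp
    have hmap : (img K g u).map (mvLin E) = img K g u := by
      by_contra hne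
      have h9 := (ht.le_of_map hE hfr hM hEM hne).1
      have hle : W ⊔ F ∙ z ≤ img K g u ⊓ (img K g u).map (mvLin E) := by
        refine sup_le (fun y hy => ⟨hy.2, hEW y hy ▸ mv_mem_map E hy.2⟩) ?_
        rw [Submodule.span_singleton_le_iff_mem]
        exact ⟨hz, hEze ▸ mv_mem_map E hz⟩
      have := Submodule.finrank_mono hle
      omega
    have h10 := Submodule.sub_mem _ (hmap.le (mv_mem_map E hz₁)) hz₁
    rw [hEz, add_sub_cancel_left] at h10
    exact hΘ (hWKle (mem_coef.2 h10))
  have hspan : ∀ z' ∈ img K g u, ∃ a : F, z' - a • z ∈ W := fun z' hz' => (hker z' hz' (hall z' hz')).2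
  -- the annihilator of the coefficients is a line
  have hannd : Module.finrank F (ann ℓ WK) = 1 := by
    have h1 := finrank_ann hE WK
    have hle : img K g u ≤ W ⊔ F ∙ z := fun y hy => by
      obtain ⟨a, ha⟩ := hspan y hy
      exact Submodule.mem_sup.2 ⟨_, ha, a • z, Submodule.smul_mem _ a (Submodule.mem_span_singleton_self z),
        sub_add_cancel _ _⟩
    have h3 := Submodule.finrank_mono hle
    rw [finrank_img g hu0] at h3
    have h6 := Submodule.finrank_add_le_finrank_add_finrank W (F ∙ z)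
    have h7 : Module.finrank F ↥(F ∙ z) ≤ 1 := (finrank_span_le_card _).trans (by simp)
    have h8 : Module.finrank F W = meet K g u := rfl
    have h9 := ht.lt hE hfr hM
    omega
  obtain ⟨⟨d, hd⟩, hd0, hdgen⟩ := finrank_eq_one_iff'.1 hannd
  have hd0' : d ≠ 0 := fun h => hd0 (Subtype.ext h)
  have hannWK : ∀ e : K, ℓ (e * d) = 0 → e ∈ WK := by
    intro e he
    have hle : WK ≤ ann ℓ (F ∙ d) := fun w hw v hv => by
      obtain ⟨a, rfl⟩ := Submodule.mem_span_singleton.1 hv
      rw [smul_mul_assoc, map_smul, mul_comm, hd w hw, smul_zero]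
    have h1 := finrank_ann hE (F ∙ d)
    rw [finrank_span_singleton hd0'] at h1
    have h3 := finrank_ann hE WK
    rw [Submodule.eq_of_le_of_finrank_le hle (by omega)]
    intro v hv
    obtain ⟨a, rfl⟩ := Submodule.mem_span_singleton.1 hv
    rw [smul_mul_assoc, map_smul, mul_comm, he, smul_zero]
  obtain ⟨X, hX, hk, hXz, -⟩ := hfr.exists_rho hE hM (μ / d)
  have hXW : ∀ y ∈ W, mv X y = y := fun y hy => by
    obtain ⟨a, rfl⟩ := mem_line.1 hy.1
    rw [hXz]; simp [huu, hub]
  have hsing : ℓ (c₀ * μ * μ) = 0 := by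
    have e := img_pol hE hM ht.mem huu hz hz
    rw [← ell_B_one hE, hfr.dec_perp hE hzu, ← hμ] at e
    simpa [huu, hub, hbu, ← hc₀, mul_comm, mul_assoc, mul_left_comm] using e
  have hXzv : mv X z - z = (-(μ / d * (B hE z b))) • u := by
    rw [hXz, hzu]
    simp only [zero_smul, add_zero, mul_zero, map_smul, smul_eq_mul, sub_sub_cancel_left, ← neg_smul]
  have hXzW : mv X z - z ∈ W := by
    rw [hXzv]
    refine ⟨mem_line.2 ⟨_, rfl⟩, mem_coef.1 (hannWK _ ?_)⟩
    rw [← neg_eq_zero, ← map_neg, ← hsing]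
    congr 1
    rw [hμ]
    field_simp
  refine ht.finish hE hfr hM hn hr hX hXW (fun x hx => ?_) (fun y hy => ?_) ⟨z, hz, fun h => ?_⟩
  · have hxd : B hE x u ∈ ann ℓ WK := fun w hw => by
      have e := hx _ hw
      rw [← ell_B_one hE] at e
      simpa using e
    obtain ⟨τ, hτ⟩ := hdgen ⟨_, hxd⟩
    have hτ' : τ • d = B hE x u := congrArg Subtype.val hτ
    set s := -(μ / d * B hE x b + μ / d * (μ / d) * c₀ / 2 * B hE x u) - τ • B hE z f with hs
    have hmem : s • u ∈ img K g u := by
      refine mem_coef.1 (hannWK _ ?_)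
      have e1 : ℓ (B hE z f * B hE x u) + ℓ (μ * B hE x b) = 0 := by
        have e := hx z hz
        rw [← ell_B_one hE] at e
        conv_lhs at e => rw [hfr.dec_perp hE hzu, ← hμ]
        rw [← map_add]
        convert e using 2
        simp [smul_eq_mul]
      have e2 : (2 : F) • (s * d) =
          (-2 : F) • (μ * B hE x b) + (-τ) • (c₀ * μ * μ) + (-2 * τ : F) • (B hE z f * d) := by
        rw [hs, ← hτ']
        simp only [Algebra.smul_def, map_neg, map_mul, map_ofNat]
        field_simp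
        ring
      have e3 := congrArg ℓ e2
      rw [map_smul, map_add, map_add, map_smul, map_smul, map_smul, hsing, smul_eq_mul, smul_eq_mul, smul_eq_mul,
        smul_eq_mul] at e3
      have e4 : ℓ (B hE z f * B hE x u) = τ * ℓ (B hE z f * d) := by
        rw [← hτ', mul_smul_comm, map_smul, smul_eq_mul]
      exact (mul_eq_zero.1 (show (2 : F) * ℓ (s * d) = 0 by linear_combination e3 + (-2 : F) * e1 + 2 * e4)).resolve_left
        hE.two
    have := Submodule.add_mem _ hmem (Submodule.smul_mem _ τ hz)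
    convert this using 1
    rw [hXz, hfr.dec_perp hE hzu, ← hμ, hs]
    simp only [map_smul, LinearMap.smul_apply, smul_eq_mul, smul_smul, ← hc₀, ← hτ']
    rw [show τ • d * (μ / d) = τ • μ by rw [smul_mul_assoc, mul_div_cancel₀ _ hd0'], smul_add]
    simp only [← algebraMap_smul K τ, smul_smul, smul_eq_mul]
    module
  · obtain ⟨a, ha⟩ := hspan y hy
    have : mv X y = (y - a • z) + a • mv X z := by
      conv_lhs => rw [← sub_add_cancel y (a • z), mv_add, hXW _ ha, mv_smul]
    rw [this]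
    have hXzimg : mv X z ∈ img K g u := by
      have := Submodule.add_mem _ hXzW.2 hz
      rwa [sub_add_cancel] at this
    exact Submodule.add_mem _ ha.2 (Submodule.smul_mem _ a hXzimg)
  · rw [← sub_eq_zero, hXzv, smul_eq_zero, neg_eq_zero, mul_eq_zero] at h
    refine h.elim (fun h => h.elim (div_ne_zero hμ0 hd0') fun h => hμ0 ?_) hu0
    rw [hμ, h, zero_div]

end Cfsg.Agent.OrthFieldExt
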