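/-
Three dimensions over the field: the case of tight maximal lines.
-/
import Cfsg.Agent.Lib.OrthFieldExt.ThreeMax

set_option autoImplicit false
set_option linter.all false
set_option maxHeartbeats 1000000

namespace Cfsg.Agent.OrthFieldExt

open scoped Matrix
open Matrix Cfsg.Agent.Transvec Cfsg.Agent.Transvec.Orth

variable {ι : Type} [Fintype ι] [DecidableEq ι] {F : Type*} [Field F] {Q : (ι → F) → F}
variable {K : Type*} [Field K] [Algebra F K] [Module K (ι → F)] [IsScalarTower F K (ι → F)] [FiniteDimensional F K]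
variable {ℓ : Module.Dual F K} (hE : Ext Q ℓ)
include hE

theorem exists_quad_zero [Finite F] {s : ℕ} (hs : 2 * s < Module.finrank F K) (A C : Fin s → K) :
    ∃ ν : K, ν ≠ 0 ∧ ∀ i, ℓ (ν * A i - ν * ν * C i) = 0 := by
  classical
  haveI : Fintype F := Fintype.ofFinite F
  haveI : CharP F (ringChar F) := ringChar.charP F
  set bs := Module.finBasis F K
  let P : Fin s → MvPolynomial (Fin (Module.finrank F K)) F := fun i =>
    ∑ k, MvPolynomial.C (ℓ (bs k * A i)) * MvPolynomial.X k +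
      ∑ k, ∑ l, MvPolynomial.C (-ℓ (bs k * bs l * C i)) * (MvPolynomial.X k * MvPolynomial.X l)
  have hdeg : ∀ i, (P i).totalDegree ≤ 2 := by
    intro i
    refine (MvPolynomial.totalDegree_add _ _).trans (max_le ?_ ?_)
    · refine MvPolynomial.totalDegree_finsetSum_le fun k _ => (MvPolynomial.totalDegree_mul _ _).trans ?_
      rw [MvPolynomial.totalDegree_C, MvPolynomial.totalDegree_X]
      norm_num
    · refine MvPolynomial.totalDegree_finsetSum_le fun k _ => MvPolynomial.totalDegree_finsetSum_le fun l _ => ?_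
      refine (MvPolynomial.totalDegree_mul _ _).trans ?_
      rw [MvPolynomial.totalDegree_C, zero_add]
      refine (MvPolynomial.totalDegree_mul _ _).trans ?_
      rw [MvPolynomial.totalDegree_X, MvPolynomial.totalDegree_X]
  have hlt : ∑ i, (P i).totalDegree < Fintype.card (Fin (Module.finrank F K)) := by
    refine lt_of_le_of_lt (Finset.sum_le_card_nsmul _ _ 2 fun i _ => hdeg i) ?_
    simp only [Finset.card_univ, Fintype.card_fin, smul_eq_mul]
    omega
  have hdvd := char_dvd_card_solutions_of_fintype_sum_lt (ringChar F) hlt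
  have hev : ∀ (x : Fin (Module.finrank F K) → F) i,
      MvPolynomial.eval x (P i) = ℓ ((∑ k, x k • bs k) * A i - (∑ k, x k • bs k) * (∑ k, x k • bs k) * C i) := by
    intro x i
    simp only [P, map_add, map_sub, map_sum, map_mul, MvPolynomial.eval_C, MvPolynomial.eval_X, Finset.sum_mul,
      Finset.mul_sum, smul_mul_assoc, mul_smul_comm, map_smul, smul_eq_mul, neg_mul, Finset.sum_neg_distrib,
      ← sub_eq_add_neg]
    congr 1
    · exact Finset.sum_congr rfl fun k _ => mul_comm _ _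
    · rw [Finset.sum_comm]
      exact Finset.sum_congr rfl fun k _ => Finset.sum_congr rfl fun l _ => by rw [mul_comm (bs l) (bs k)]; ring
  have hzero : ∀ i, MvPolynomial.eval (0 : Fin (Module.finrank F K) → F) (P i) = 0 := fun i => by rw [hev]; simp
  obtain ⟨⟨x, hx⟩, hx0⟩ : ∃ y : { x // ∀ i, MvPolynomial.eval x (P i) = 0 }, y ≠ ⟨0, hzero⟩ := by
    refine Fintype.exists_ne_of_one_lt_card (lt_of_lt_of_le (CharP.char_is_prime F (ringChar F)).one_lt ?_) _
    exact Nat.le_of_dvd (Fintype.card_pos_iff.2 ⟨⟨0, hzero⟩⟩) (by convert hdvd)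
  refine ⟨∑ k, x k • bs k, fun h => hx0 (Subtype.ext (funext fun k => ?_)), fun i => (hev x i).symm.trans (hx i)⟩
  exact Fintype.linearIndependent_iff.1 bs.linearIndependent x h k

variable {u f b : ι → F} (hfr : Fr hE u f b) {M : Subgroup (GL ι F)} (hM : Over Q K M) [Finite F]
include hfr hM

theorem Fr.meet_of_el {Θ : K →ₗ[F] K} (h : El hE M u Θ) (h0 : Θ ≠ 0) :
    ∃ k ∈ M, img K k u ≠ line K u ∧ Module.finrank F (LinearMap.ker Θ) ≤ meet K k u := by
  obtain ⟨huu, hff, huf, hfu, hbu, hbf, hub, hfb⟩ := hfr.rules hE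
  obtain ⟨E, hE', hEz⟩ := h
  obtain ⟨w, hw, hwk, hwu, -, -⟩ := hfr.exists_swap hE hM
  set c₁ := -B hE b b / 2 with hc₁
  have hc₁0 : c₁ ≠ 0 := div_ne_zero (neg_ne_zero.2 hfr.ne) (two' hE)
  have hwt : ∀ t : K, mv w ((t / c₁) • u) = t • f := fun t => by
    rw [hwk, hwu, smul_smul, div_mul_cancel₀ _ hc₁0]
  have hwinv : ∀ t : K, mv w⁻¹ (t • f) = (t / c₁) • u := fun t => by rw [← hwt, mv_inv_mv]
  refine ⟨w⁻¹ * E * w, M.mul_mem (M.mul_mem (M.inv_mem hw) hE') hw, fun h => ?_, ?_⟩
  · obtain ⟨t, ht⟩ : ∃ t, Θ t ≠ 0 := by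
      by_contra hc
      push Not at hc
      exact h0 (LinearMap.ext hc)
    obtain ⟨a, ha⟩ := mem_line.1 (h.le (mem_img.2 ⟨t / c₁, rfl⟩))
    rw [mv_mul, mv_mul, hwt, hEz] at ha
    have e := congrArg (mv w) ha
    rw [mv_mv_inv, hwk, hwu] at e
    have e2 := congrArg (fun v => B hE v f) e
    simp [hff, hfu, huf] at e2
    exact ht e2.symm
  · let L : K →ₗ[F] (ι → F) :=
      ((LinearMap.toSpanSingleton K (ι → F) u).restrictScalars F).comp (LinearMap.mulRight F c₁⁻¹)
    have hLinj : Function.Injective L := fun s t hst =>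
      mul_right_cancel₀ (inv_ne_zero hc₁0) (smul_left_injective K (hfr.hyp.ne_left hE) hst)
    have hLv : ∀ t, L t = (t / c₁) • u := fun t => by
      show (t * c₁⁻¹) • u = _
      rw [div_eq_mul_inv]
    rw [(Submodule.equivMapOfInjective L hLinj (LinearMap.ker Θ)).finrank_eq, meet]
    refine Submodule.finrank_mono ?_
    rintro _ ⟨t, ht, rfl⟩
    rw [hLv]
    refine ⟨mem_line.2 ⟨_, rfl⟩, mem_img.2 ⟨t / c₁, ?_⟩⟩
    rw [mv_mul, mv_mul, hwt, hEz, show B hE (t • f) u = t by simp [hfu], LinearMap.mem_ker.1 ht, zero_smul, add_zero,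
      hwinv]

/-- In degree three the corner elements move every vector out of every line. -/
theorem Fr.el_wide (hr : (Module.finrank F K).Prime) (hr3 : Module.finrank F K = 3) {Θ₀ : K →ₗ[F] K}
    (hΘ : El hE M u Θ₀) (h0 : Θ₀ ≠ 0) {β : K} (hβ : β ≠ 0) (w : K) : ∃ Θ : K →ₗ[F] K, El hE M u Θ ∧ Θ β ∉ F ∙ w := by
  classical
  by_contra hcon
  push Not at hcon
  haveI : Finite K := Module.finite_of_finite F
  haveI : Fintype K := Fintype.ofFinite K
  haveI : Fintype F := Fintype.ofFinite F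
  haveI : Finite (K →ₗ[F] K) := Module.finite_of_finite F
  haveI : Fintype (K →ₗ[F] K) := Fintype.ofFinite _
  let T : Finset (K →ₗ[F] K) := Finset.univ.filter fun Θ => El hE M u Θ
  set bs := (Module.finBasis F K).reindex (finCongr hr3)
  obtain ⟨i, hi⟩ : ∃ i, bs.repr β i ≠ 0 := by
    by_contra h
    push Not at h
    exact hβ (bs.repr.injective (Finsupp.ext fun i => by simp [h i]))
  have hsmall : T.card ≤ Fintype.card F * Fintype.card F := by
    have hcW : Fintype.card ↥(F ∙ w) ≤ Fintype.card F :=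
      (Fintype.card_le_of_surjective (fun c : F => (⟨c • w, Submodule.smul_mem _ c
        (Submodule.mem_span_singleton_self w)⟩ : ↥(F ∙ w))) fun ⟨v, hv⟩ => by
        obtain ⟨c, hc⟩ := Submodule.mem_span_singleton.1 hv
        exact ⟨c, Subtype.ext hc⟩)
    refine le_trans ?_ (Nat.mul_le_mul_right _ hcW)
    rw [← Fintype.card_prod, ← Finset.card_univ (α := ↥(F ∙ w) × F)]
    refine Finset.card_le_card_of_injOn (fun Θ => (if h : Θ β ∈ F ∙ w then (⟨Θ β, h⟩ : ↥(F ∙ w)) else 0,
      ℓ (Θ (bs (i + 1)) * bs (i + 2)))) (fun _ _ => Finset.mem_univ _) fun Θ₁ h₁ Θ₂ h₂ he => ?_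
    have hm₁ := (Finset.mem_filter.1 (Finset.mem_coe.1 h₁)).2
    have hm₂ := (Finset.mem_filter.1 (Finset.mem_coe.1 h₂)).2
    simp only [Prod.mk.injEq, dif_pos (hcon _ hm₁), dif_pos (hcon _ hm₂), Subtype.mk.injEq] at he
    obtain ⟨m, hm⟩ : ∃ m : Fin 3 → Fin 3 → F, ∀ j k, m j k = ℓ (Θ₁ (bs j) * bs k) - ℓ (Θ₂ (bs j) * bs k) :=
      ⟨_, fun _ _ => rfl⟩
    have hsk : ∀ j k, m j k = -m k j := fun j k => by
      rw [hm, hm, hfr.el_skew hE hM hm₁ (bs j), hfr.el_skew hE hM hm₂ (bs j)]; ring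
    have hd : ∀ j, m j j = 0 := fun j =>
      (mul_eq_zero.1 (show (2 : F) * m j j = 0 by linear_combination hsk j j)).resolve_left hE.two
    have hβ' : ∀ k, bs.repr β 0 * m 0 k + bs.repr β 1 * m 1 k + bs.repr β 2 * m 2 k = 0 := fun k => by
      have e : ∀ Θ : K →ₗ[F] K, ℓ (Θ β * bs k) = bs.repr β 0 * ℓ (Θ (bs 0) * bs k) +
          bs.repr β 1 * ℓ (Θ (bs 1) * bs k) + bs.repr β 2 * ℓ (Θ (bs 2) * bs k) := fun Θ => by
        conv_lhs => rw [← bs.sum_repr β]
        simp only [Fin.sum_univ_three, map_add, map_smul, add_mul, smul_mul_assoc, smul_eq_mul]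
      rw [hm, hm, hm]
      linear_combination -e Θ₁ + e Θ₂ + congrArg (fun v => ℓ (v * bs k)) he.1
    have hp : m (i + 1) (i + 2) = 0 := by rw [hm, he.2, sub_self]
    have hall : ∀ j k, m j k = 0 := by
      have e0 := hβ' 0
      have e1 := hβ' 1
      have e2 := hβ' 2
      rw [hsk 1 0, hsk 2 0, hd 0] at e0
      rw [hsk 2 1, hd 1] at e1
      rw [hd 2] at e2
      have hz : m 0 1 = 0 ∧ m 0 2 = 0 ∧ m 1 2 = 0 := by
        fin_cases i
        · have hp' : m 1 2 = 0 := hp
          simp [hp'] at e1 e2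
          exact ⟨e1.resolve_left hi, e2.resolve_left hi, hp'⟩
        · have hp' : m 0 2 = 0 := neg_eq_zero.1 ((hsk 2 0).symm.trans hp)
          simp [hp'] at e0 e2
          exact ⟨e0.resolve_left hi, hp', e2.resolve_left hi⟩
        · have hp' : m 0 1 = 0 := hp
          simp [hp'] at e0 e1
          exact ⟨hp', e0.resolve_left hi, e1.resolve_left hi⟩
      intro j k
      obtain ⟨z01, z02, z12⟩ := hz
      fin_cases j <;> fin_cases k <;>
        first
        | exact hd _
        | exact z01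
        | exact z02
        | exact z12
        | (rw [hsk]; simp [z01, z02, z12])
    refine bs.ext fun j => eq_of_ell hE fun a => ?_
    rw [← bs.sum_repr a]
    simp only [Finset.sum_mul, map_sum, smul_mul_assoc, map_smul, smul_eq_mul]
    refine Finset.sum_congr rfl fun k _ => congrArg _ ?_
    rw [mul_comm, mul_comm (bs k), ← sub_eq_zero, ← hm, hall]
  set dom : Finset K := Finset.univ.erase 0
  let tw : K → (K →ₗ[F] K) := fun ζ => (LinearMap.mulLeft F (ζ * ζ)).comp (Θ₀.comp (LinearMap.mulLeft F (ζ * ζ)))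
  have htw0 : ∀ ζ ∈ dom, tw ζ ≠ 0 := fun ζ hζ e => h0 (LinearMap.ext fun t => by
    have hz := Finset.ne_of_mem_erase hζ
    have e' := LinearMap.congr_fun e (t / (ζ * ζ))
    simp only [tw, LinearMap.comp_apply, LinearMap.mulLeft_apply, LinearMap.zero_apply,
      mul_div_cancel₀ _ (mul_ne_zero hz hz), mul_eq_zero] at e'
    simpa [hz] using e')
  have hfib : ∀ c : ℕ, (∀ ζ₀ ∈ dom, ({a ∈ dom | tw a = tw ζ₀}).card ≤ c) →
      Fintype.card K - 1 ≤ c * (T.card - 1) := fun c hc => by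
    have hd : dom.card = Fintype.card K - 1 := by
      rw [Finset.card_erase_of_mem (Finset.mem_univ _), Finset.card_univ]
    have hT0 : (0 : K →ₗ[F] K) ∈ T := Finset.mem_filter.2
      ⟨Finset.mem_univ _, 1, M.one_mem, fun z => by simp [mv_one]⟩
    rw [← hd, ← Finset.card_erase_of_mem hT0]
    refine Finset.card_le_mul_card_image_of_maps_to (f := tw) (fun ζ hζ => Finset.mem_erase.2 ⟨htw0 ζ hζ,
      Finset.mem_filter.2 ⟨Finset.mem_univ _, hfr.el_torus hE hM hΘ (Finset.ne_of_mem_erase hζ)⟩⟩) c fun Θ _ => ?_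
    by_cases hem : {a ∈ dom | tw a = Θ} = ∅
    · rw [hem]; simp
    obtain ⟨ζ₀, hζ₀⟩ := Finset.nonempty_iff_ne_empty.2 hem
    rw [Finset.mem_filter] at hζ₀
    rw [← hζ₀.2]
    exact hc ζ₀ hζ₀.1
  have hsq : ∀ ζ₀ ∈ dom, ∀ ζ ∈ dom, tw ζ = tw ζ₀ → ζ * ζ = ζ₀ * ζ₀ ∨ ζ * ζ = -(ζ₀ * ζ₀) := by
    intro ζ₀ hζ₀ ζ hζ he
    have hs0 : ζ₀ * ζ₀ ≠ 0 := mul_ne_zero (Finset.ne_of_mem_erase hζ₀) (Finset.ne_of_mem_erase hζ₀)
    have hsgn := sign_of_twist hr (hr3 ▸ by decide) h0 (s := ζ * ζ / (ζ₀ * ζ₀)) fun t => by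
      have e := LinearMap.congr_fun he (t / (ζ₀ * ζ₀))
      simp only [tw, LinearMap.comp_apply, LinearMap.mulLeft_apply] at e
      rw [show ζ₀ * ζ₀ * (t / (ζ₀ * ζ₀)) = t from mul_div_cancel₀ _ hs0] at e
      rw [show ζ * ζ / (ζ₀ * ζ₀) * t = ζ * ζ * (t / (ζ₀ * ζ₀)) by ring, div_mul_eq_mul_div,
        div_eq_iff hs0, e, mul_comm]
    rcases hsgn with h | h <;> rw [div_eq_iff hs0] at h
    · exact Or.inl (by rw [h, one_mul])
    · exact Or.inr (by rw [h, neg_one_mul])
  have h4 := hfib 4 fun ζ₀ hζ₀ => by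
    refine le_trans (Finset.card_le_card (t := (Polynomial.nthRoots 2 (ζ₀ * ζ₀)).toFinset ∪
      (Polynomial.nthRoots 2 (-(ζ₀ * ζ₀))).toFinset) fun ζ hζ => ?_) ?_
    · rw [Finset.mem_filter] at hζ
      rw [Finset.mem_union, Multiset.mem_toFinset, Multiset.mem_toFinset, Polynomial.mem_nthRoots two_pos,
        Polynomial.mem_nthRoots two_pos, pow_two]
      exact hsq ζ₀ hζ₀ ζ hζ.1 hζ.2
    · refine (Finset.card_union_le _ _).trans ?_
      have := (Multiset.toFinset_card_le _).trans (Polynomial.card_nthRoots 2 (ζ₀ * ζ₀))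
      have := (Multiset.toFinset_card_le _).trans (Polynomial.card_nthRoots 2 (-(ζ₀ * ζ₀)))
      omega
  have hK : Fintype.card K = Fintype.card F ^ 3 := by rw [Module.card_eq_pow_finrank (K := F) (V := K), hr3]
  have hq : 3 ≤ Fintype.card F := by
    have h1 := FiniteField.odd_card_of_char_ne_two (F := F) fun h => hE.two (by
      haveI := ringChar.eq_iff.1 h
      exact CharP.cast_eq_zero F 2)
    have := Fintype.one_lt_card (α := F)
    omega
  rcases eq_or_lt_of_le hq with hq3 | hq4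
  · have h2 := hfib 2 fun ζ₀ hζ₀ => by
      refine le_trans (Finset.card_le_card (t := (Polynomial.nthRoots 2 (ζ₀ * ζ₀)).toFinset) fun ζ hζ => ?_)
        ((Multiset.toFinset_card_le _).trans (Polynomial.card_nthRoots 2 (ζ₀ * ζ₀)))
      rw [Finset.mem_filter] at hζ
      rw [Multiset.mem_toFinset, Polynomial.mem_nthRoots two_pos, pow_two]
      refine (hsq ζ₀ hζ₀ ζ hζ.1 hζ.2).resolve_right fun he => ?_
      have hsq1 : IsSquare (-1 : K) := ⟨ζ / ζ₀, by
        rw [div_mul_div_comm, he, neg_div, div_self (mul_ne_zero (Finset.ne_of_mem_erase hζ₀)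
          (Finset.ne_of_mem_erase hζ₀))]⟩
      rw [FiniteField.isSquare_neg_one_iff, hK, ← hq3] at hsq1
      exact hsq1 (by norm_num)
    rw [hK, ← hq3] at h2
    rw [← hq3] at hsmall
    norm_num at h2 hsmall
    omega
  · obtain ⟨q, hq'⟩ : ∃ q, Fintype.card F = q := ⟨_, rfl⟩
    rw [hK, hq'] at h4
    rw [hq'] at hsmall hq4
    have hA : 4 * (q * q) ≤ q ^ 3 := by nlinarith
    have hB : 0 < q * q := by positivity
    omega

/-- One nonzero element in the corner gives everything. -/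
theorem Fr.eq_omega_of_el (hn : 7 ≤ Fintype.card ι) (hr : (Module.finrank F K).Prime)
    (hr5 : 3 ≤ Module.finrank F K) {Θ₀ : K →ₗ[F] K} (hΘ : El hE M u Θ₀) (h0 : Θ₀ ≠ 0) : M = Geo.omegaGL Q := by
  classical
  obtain ⟨huu, hff, huf, hfu, hbu, hbf, hub, hfb⟩ := hfr.rules hE
  have h2 := two' hE
  have hc := hfr.ne
  have hu0 := hfr.hyp.ne_left hE
  have hodd : Odd (Module.finrank F K) := hr.odd_of_ne_two (by omega)
  obtain ⟨t₀, ht₀, hΘt₀⟩ := hfr.el_singular hE hM hodd hΘ
  obtain ⟨k₀, hk₀, hk₀ne, hk₀m⟩ := hfr.meet_of_el hE hM hΘ h0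
  obtain ⟨g, ⟨hgM, hgne⟩, hbest⟩ := Set.exists_max_image {g | g ∈ M ∧ img K g u ≠ line K u}
    (fun g => meet K g u) (Set.toFinite _) ⟨k₀, hk₀, hk₀ne⟩
  have hker0 : 0 < Module.finrank F (LinearMap.ker Θ₀) :=
    Nat.pos_of_ne_zero fun h => ht₀ (by
      have hm : t₀ ∈ LinearMap.ker Θ₀ := hΘt₀
      rwa [Submodule.finrank_eq_zero.1 h, Submodule.mem_bot] at hm)
  set j := meet K g u with hj
  have hmax : ∀ g' ∈ M, img K g' u ≠ line K u → meet K g' u ≤ j := fun g' h1 h3 => hbest g' ⟨h1, h3⟩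
  have hjpos : 0 < j := lt_of_lt_of_le hker0 (hk₀m.trans (hmax k₀ hk₀ hk₀ne))
  have ht : Top K M g u := ⟨hgM, hgne, hjpos, hmax⟩
  by_cases hT : ∃ g', Top K M g' u ∧ ∃ z ∈ img K g' u, B hE z u = 0 ∧ z ∉ line K u
  · obtain ⟨g', ht', z, hz, hzu, hzl⟩ := hT
    exact ht'.eq_omega_of_loose hE hfr hM hn hr hr5
      (fun h3 β hβ w => hfr.el_wide hE hM hr h3 hΘ h0 hβ w) hz hzu hzl
  push Not at hT
  set WK := coef K (img K g u) u with hWKd
  have hWd : Module.finrank F WK = j := finrank_coef _ hu0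
  set W := line K u ⊓ img K g u with hW
  have hWj : Module.finrank F W = j := rfl
  let π : img K g u →ₗ[F] K := (((B hE).flip u).restrictScalars F).domRestrict (img K g u)
  set S := LinearMap.range π with hS
  have hkerπ : (LinearMap.ker π).map (img K g u).subtype = W := by
    refine le_antisymm ?_ fun y hy => ⟨⟨y, hy.2⟩, ?_, rfl⟩
    · rintro _ ⟨⟨y, hy⟩, hy0, rfl⟩
      exact ⟨hT g ht y hy hy0, hy⟩
    · obtain ⟨a, ha⟩ := mem_line.1 hy.1
      show B hE y u = 0
      rw [← ha]; simp [huu]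
  have hSd : Module.finrank F S + j = Module.finrank F K := by
    have e := LinearMap.finrank_range_add_finrank_ker π
    rw [finrank_img g hu0] at e
    have e2 := congrArg (fun P : Submodule F (ι → F) => Module.finrank F P) hkerπ
    rw [Submodule.finrank_map_subtype_eq] at e2
    rw [← hWj, ← e2]; exact e
  have hSann : S = ann ℓ WK := by
    refine Submodule.eq_of_le_of_finrank_le ?_ ?_
    · rintro _ ⟨⟨y, hy⟩, rfl⟩ w hw
      show ℓ (w * B hE y u) = 0
      have e := img_pol hE hM ht.mem huu hy (mem_coef.1 hw)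
      rw [← ell_B_one hE] at e
      simpa using e
    · have := finrank_ann hE WK
      omega
  -- an element fixing the common part keeps the image as soon as one image vector stays orthogonal
  have hstab : ∀ X ∈ M, (∀ w ∈ W, mv X w = w) → ∀ z ∈ img K g u, z ∉ W →
      (∀ y ∈ img K g u, pol Q (mv X z) y = 0) → (img K g u).map (mvLin X) = img K g u := by
    intro X hX hfix z hz hzW hpol
    by_contra hne
    obtain ⟨h1, hk, hkne, hkm, hkimg⟩ := ht.le_of_map hE hfr hM hX hne
    have hWle : W ≤ img K g u ⊓ (img K g u).map (mvLin X) := fun w hw =>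
      ⟨hw.2, hfix w hw ▸ mv_mem_map X hw.2⟩
    have h3 := Submodule.finrank_mono hWle
    have htk : Top K M (g⁻¹ * X * g) u := ⟨hk, hkne, by omega, fun g' a c => le_trans (hmax g' a c) (by omega)⟩
    have hy : mv g⁻¹ (mv X z) ∈ img K (g⁻¹ * X * g) u := by
      rw [hkimg]; exact mv_mem_map _ (mv_mem_map X hz)
    have hyu : B hE (mv g⁻¹ (mv X z)) u = 0 := eq_of_ell hE fun a => by
      rw [mul_zero, map_zero, ell_B, hE.sa, ← pol_mv hE.quad (M_iso hE hM ht.mem), mv_mv_inv]
      exact hpol _ (mem_img.2 ⟨a, rfl⟩)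
    obtain ⟨a, ha⟩ := mem_line.1 (hT _ htk _ hy hyu)
    have hXz : mv X z ∈ img K g u := mem_img.2 ⟨a, by rw [ha, mv_mv_inv]⟩
    have hmem : mv X z ∈ W := by
      rw [Submodule.eq_of_le_of_finrank_le hWle (by omega)]
      exact ⟨hXz, mv_mem_map X hz⟩
    exact hzW (mv_inj X (hfix _ hmem) ▸ hmem)
  obtain ⟨z₁, hz₁, hz₁u⟩ : ∃ z₁ ∈ img K g u, B hE z₁ u ≠ 0 := by
    by_contra hall
    push Not at hall
    have hle : img K g u ≤ line K u := fun y hy => hT g ht y hy (hall y hy)
    exact ht.ne (Submodule.eq_of_le_of_finrank_le hle (by rw [finrank_img g hu0, finrank_line hu0]))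
  have hz₁W : z₁ ∉ W := fun h => hz₁u (by obtain ⟨a, rfl⟩ := mem_line.1 h.1; simp [huu])
  rcases Nat.lt_or_ge (Module.finrank F K) (2 * j) with hbig | hsmall
  · exfalso
    set s := Module.finrank F S with hs
    set bsS := Module.finBasis F S
    choose zi hzi using fun i => (bsS i).2
    obtain ⟨ν, hν, hνz⟩ := exists_quad_zero hE (s := s) (by omega)
      (fun i => B hE z₁ u * B hE (zi i).1 b - B hE z₁ b * (bsS i : K))
      (fun i => B hE b b / 2 * B hE z₁ u * (bsS i : K))
    obtain ⟨X, hX, hk, hXz, -⟩ := hfr.exists_rho hE hM ν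
    have hXW : ∀ y ∈ W, mv X y = y := fun y hy => by
      obtain ⟨a, rfl⟩ := mem_line.1 hy.1
      rw [hXz]; simp [huu, hub]
    have hzero : ∀ y ∈ img K g u, pol Q (mv X z₁) y = 0 := by
      intro y hy
      have hWz : ∀ w ∈ W, pol Q (mv X z₁) w = 0 := fun w hw => by
        rw [← hXW w hw, pol_mv hE.quad (M_iso hE hM hX)]
        exact img_pol hE hM ht.mem huu hz₁ hw.2
      set c := bsS.repr ⟨π ⟨y, hy⟩, LinearMap.mem_range_self π _⟩ with hc'
      have hrest : (⟨y, hy⟩ : img K g u) - ∑ i, c i • zi i ∈ LinearMap.ker π := by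
        rw [LinearMap.mem_ker, map_sub, map_sum, sub_eq_zero]
        have e := congrArg Subtype.val (bsS.sum_repr ⟨π ⟨y, hy⟩, LinearMap.mem_range_self π _⟩)
        rw [Submodule.coe_sum] at e
        refine e.symm.trans ?_
        exact Finset.sum_congr rfl fun i _ => by rw [map_smul, hzi, Submodule.coe_smul]
      have hmem : y - ∑ i, c i • (zi i).1 ∈ W := by
        rw [← hkerπ]
        exact ⟨_, hrest, by simp⟩
      rw [← sub_add_cancel y (∑ i, c i • (zi i).1), pol_add_right hE.quad, hWz _ hmem, zero_add,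
        ← ell_B_one hE, map_sum, map_sum]
      refine Finset.sum_eq_zero fun i _ => ?_
      rw [LinearMap.map_smul_of_tower, map_smul]
      have e1 : ℓ (B hE (mv X z₁) (zi i).1) = 0 := by
        rw [hXz]
        simp only [map_add, map_sub, map_smul, LinearMap.add_apply, LinearMap.sub_apply, LinearMap.smul_apply,
          smul_eq_mul]
        rw [ell_B_one hE z₁, img_pol hE hM ht.mem huu hz₁ (zi i).2, zero_add, ← map_sub,
          ← hνz i]
        congr 1
        have e2 : B hE (zi i).1 u = (bsS i : K) := hzi i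
        rw [B_comm hE b (zi i).1, B_comm hE u (zi i).1, e2]
        ring
      rw [e1, smul_zero]
    have hmap := hstab X hX hXW z₁ hz₁ hz₁W hzero
    have h1 := Submodule.sub_mem _ (hmap.le (mv_mem_map X hz₁)) hz₁
    have h3 : mv X z₁ - z₁ ∈ line K u := hT g ht _ h1 (by rw [hXz]; simp [huu, hbu])
    obtain ⟨a, ha⟩ := mem_line.1 h3
    have e := congrArg (fun v => B hE v b) ha
    rw [hXz] at e
    simp [hub, hbu, hz₁u, hν, hc] at e
  -- few functionals, many elements in the corner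
  haveI : Finite K := Module.finite_of_finite F
  haveI : Fintype K := Fintype.ofFinite K
  haveI : Fintype F := Fintype.ofFinite F
  haveI : Finite (K →ₗ[F] K) := Module.finite_of_finite F
  haveI : Fintype (K →ₗ[F] K) := Fintype.ofFinite _
  set β₁ : S := ⟨π ⟨z₁, hz₁⟩, LinearMap.mem_range_self π _⟩ with hβ₁
  have hβ₁0 : β₁ ≠ 0 := fun h => hz₁u (congrArg Subtype.val h)
  let T : Finset (K →ₗ[F] K) := Finset.univ.filter fun Θ => El hE M u Θ
  let ev : (K →ₗ[F] K) → Module.Dual F S := fun Θ =>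
    ℓ.comp ((LinearMap.mulLeft F (Θ β₁.1)).comp S.subtype)
  obtain ⟨Θ, hΘ', hΘ0, hev⟩ : ∃ Θ : K →ₗ[F] K, El hE M u Θ ∧ Θ ≠ 0 ∧ ev Θ = 0 := by
    have hcardT : Fintype.card K - 1 ≤ 4 * T.card := by
      set dom : Finset K := Finset.univ.erase 0
      let tw : K → (K →ₗ[F] K) := fun ζ =>
        (LinearMap.mulLeft F (ζ * ζ)).comp (Θ₀.comp (LinearMap.mulLeft F (ζ * ζ)))
      have hd : dom.card = Fintype.card K - 1 := by
        rw [Finset.card_erase_of_mem (Finset.mem_univ _), Finset.card_univ]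
      rw [← hd]
      refine Finset.card_le_mul_card_image_of_maps_to (f := tw) (fun ζ hζ => ?_) 4 fun Θ _ => ?_
      · exact Finset.mem_filter.2 ⟨Finset.mem_univ _, hfr.el_torus hE hM hΘ (Finset.ne_of_mem_erase hζ)⟩
      by_cases hem : {a ∈ dom | tw a = Θ} = ∅
      · rw [hem]; simp
      obtain ⟨ζ₀, hζ₀⟩ := Finset.nonempty_iff_ne_empty.2 hem
      rw [Finset.mem_filter] at hζ₀
      have hsub : {a ∈ dom | tw a = Θ} ⊆
          (Polynomial.nthRoots 2 (ζ₀ * ζ₀)).toFinset ∪ (Polynomial.nthRoots 2 (-(ζ₀ * ζ₀))).toFinset := by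
        intro ζ hζ
        rw [Finset.mem_filter] at hζ
        have hs0 : ζ₀ * ζ₀ ≠ 0 := mul_ne_zero (Finset.ne_of_mem_erase hζ₀.1) (Finset.ne_of_mem_erase hζ₀.1)
        have hz0 : ζ * ζ ≠ 0 := mul_ne_zero (Finset.ne_of_mem_erase hζ.1) (Finset.ne_of_mem_erase hζ.1)
        have hsgn := sign_of_twist hr hodd h0 (s := ζ * ζ / (ζ₀ * ζ₀)) fun t => by
          have e := LinearMap.congr_fun (hζ.2.trans hζ₀.2.symm) (t / (ζ₀ * ζ₀))
          simp only [tw, LinearMap.comp_apply, LinearMap.mulLeft_apply] at e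
          rw [show ζ₀ * ζ₀ * (t / (ζ₀ * ζ₀)) = t from mul_div_cancel₀ _ hs0] at e
          rw [show ζ * ζ / (ζ₀ * ζ₀) * t = ζ * ζ * (t / (ζ₀ * ζ₀)) by ring, div_mul_eq_mul_div,
            div_eq_iff hs0, e, mul_comm]
        rw [Finset.mem_union, Multiset.mem_toFinset, Multiset.mem_toFinset, Polynomial.mem_nthRoots two_pos,
          Polynomial.mem_nthRoots two_pos, pow_two]
        rcases hsgn with h | h <;> rw [div_eq_iff hs0] at h
        · exact Or.inl (by rw [h, one_mul])
        · exact Or.inr (by rw [h, neg_one_mul])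
      refine (Finset.card_le_card hsub).trans ((Finset.card_union_le _ _).trans ?_)
      have := (Multiset.toFinset_card_le _).trans (Polynomial.card_nthRoots 2 (ζ₀ * ζ₀))
      have := (Multiset.toFinset_card_le _).trans (Polynomial.card_nthRoots 2 (-(ζ₀ * ζ₀)))
      omega
    haveI : Finite (Module.Dual F S) := Module.finite_of_finite F
    haveI : Fintype (Module.Dual F S) := Fintype.ofFinite _
    set A := (F ∙ β₁).dualAnnihilator with hA
    let tgt : Finset (Module.Dual F S) := Finset.univ.filter fun φ => φ ∈ A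
    have hmaps : ∀ Θ ∈ T, ev Θ ∈ tgt := by
      intro Θ hΘT
      refine Finset.mem_filter.2 ⟨Finset.mem_univ _, (Submodule.mem_dualAnnihilator _).2 fun x hx => ?_⟩
      obtain ⟨c, rfl⟩ := Submodule.mem_span_singleton.1 hx
      have hskew := hfr.el_skew hE hM (Finset.mem_filter.1 hΘT).2 β₁.1 β₁.1
      have h0' : ℓ (Θ β₁.1 * β₁.1) = 0 := by
        rw [eq_neg_iff_add_eq_zero, ← two_mul] at hskew
        exact (mul_eq_zero.1 hskew).resolve_left hE.two
      show ℓ (Θ β₁.1 * ((c • β₁ : S) : K)) = 0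
      rw [Submodule.coe_smul, mul_smul_comm, map_smul, h0', smul_zero]
    have hlt : tgt.card < T.card := by
      have htg : tgt.card = Fintype.card F ^ Module.finrank F A := by
        rw [← Module.card_eq_pow_finrank (K := F) (V := A), Fintype.card_subtype]
      have hAd := Subspace.finrank_add_finrank_dualAnnihilator_eq (F ∙ β₁)
      rw [finrank_span_singleton hβ₁0, ← hA] at hAd
      rw [Module.card_eq_pow_finrank (K := F) (V := K)] at hcardT
      have hq : 3 ≤ Fintype.card F := by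
        have h1 := FiniteField.odd_card_of_char_ne_two (F := F) fun h => hE.two (by
          haveI := ringChar.eq_iff.1 h
          exact CharP.cast_eq_zero F 2)
        have := Fintype.one_lt_card (α := F)
        omega
      have hle : Fintype.card F ^ Module.finrank F A ≤ Fintype.card F ^ (Module.finrank F K - 2) :=
        Nat.pow_le_pow_right (by omega) (by omega)
      have hsplit : Fintype.card F ^ Module.finrank F K =
          Fintype.card F ^ (Module.finrank F K - 2) * Fintype.card F ^ 2 := by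
        rw [← pow_add]; congr 1; omega
      have h9 : 9 ≤ Fintype.card F ^ 2 := by
        calc 9 = 3 ^ 2 := by norm_num
          _ ≤ _ := Nat.pow_le_pow_left hq 2
      have hpos : 0 < Fintype.card F ^ (Module.finrank F K - 2) := pow_pos (by omega) _
      have := Nat.mul_le_mul_left (Fintype.card F ^ (Module.finrank F K - 2)) h9
      omega
    obtain ⟨Θ₁, h₁, Θ₂, h₂', hne, heq⟩ := Finset.exists_ne_map_eq_of_card_lt_of_maps_to hlt hmaps
    refine ⟨Θ₁ + -Θ₂, hfr.el_add hE hM (Finset.mem_filter.1 h₁).2 (hfr.el_neg hE hM (Finset.mem_filter.1 h₂').2),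
      fun h => hne (by rwa [← sub_eq_add_neg, sub_eq_zero] at h), LinearMap.ext fun x => ?_⟩
    have e := LinearMap.congr_fun heq x
    simp only [ev, LinearMap.comp_apply, LinearMap.mulLeft_apply, LinearMap.add_apply, LinearMap.neg_apply,
      LinearMap.zero_apply, add_mul, map_add, neg_mul, map_neg] at e ⊢
    rw [e, add_neg_cancel]
  obtain ⟨E, hE', hEz⟩ := id hΘ'
  have hEW : ∀ y ∈ W, mv E y = y := fun y hy => by
    obtain ⟨a, rfl⟩ := mem_line.1 hy.1
    rw [hEz]; simp [huu]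
  have hzero : ∀ y ∈ img K g u, pol Q (mv E z₁) y = 0 := by
    intro y hy
    have e := LinearMap.congr_fun hev ⟨π ⟨y, hy⟩, LinearMap.mem_range_self π _⟩
    rw [← ell_B_one hE, hEz, map_add, map_smul, LinearMap.add_apply, LinearMap.smul_apply, map_add,
      ell_B_one hE, img_pol hE hM ht.mem huu hz₁ hy, zero_add, smul_eq_mul, B_comm hE u y]
    exact e
  have hmap := hstab E hE' hEW z₁ hz₁ hz₁W hzero
  have hpres : ∀ z ∈ img K g u, mv E z ∈ img K g u := fun z hz => hmap.le (mv_mem_map E hz)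
  have hΘS : ∀ z ∈ img K g u, Θ (B hE z u) ∈ WK := fun z hz => by
    have := Submodule.sub_mem _ (hpres z hz) hz
    rwa [hEz, add_sub_cancel_left] at this
  refine ht.finish hE hfr hM hn hr hE' hEW (fun x hx => ?_) hpres ?_
  · have hxS : B hE x u ∈ S := by
      rw [hSann]
      intro w hw
      have e := hx _ (mem_coef.1 hw)
      rw [← ell_B_one hE] at e
      simpa using e
    obtain ⟨⟨y, hy⟩, hy'⟩ := hxS
    rw [hEz, add_sub_cancel_left, ← hy']
    exact mem_coef.1 (hΘS y hy)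
  · by_contra hall
    push Not at hall
    obtain ⟨k, hk, hkne, hkm⟩ := hfr.meet_of_el hE hM hΘ' hΘ0
    have hle : S ≤ LinearMap.ker Θ := by
      rintro _ ⟨⟨y, hy⟩, rfl⟩
      have e := hall y hy
      rw [hEz, add_eq_left, smul_eq_zero] at e
      exact e.resolve_right hu0
    have h1 := (Submodule.finrank_mono hle).trans (hkm.trans (hmax k hk hkne))
    obtain ⟨i, hi⟩ := hodd
    omega

end Cfsg.Agent.OrthFieldExt
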