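/-
Three dimensions over the field: a group with an element not semilinear is everything.
-/
import Cfsg.Agent.Lib.OrthFieldExt.ThreeTight
import Cfsg.Agent.Lib.OrthFieldExt.ThreeCount
import Cfsg.Agent.Lib.OrthFieldExt.ThreeCubic

set_option autoImplicit false
set_option linter.all false
set_option maxHeartbeats 1000000

namespace Cfsg.Agent.OrthFieldExt

open scoped Matrix
open Matrix Cfsg.Agent.Transvec Cfsg.Agent.Transvec.Orth

variable {ι : Type} [Fintype ι] [DecidableEq ι] {F : Type*} [Field F] {Q : (ι → F) → F}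
variable {K : Type*} [Field K] [Algebra F K] [Module K (ι → F)] [IsScalarTower F K (ι → F)] [FiniteDimensional F K]
variable {ℓ : Module.Dual F K} (hE : Ext Q ℓ)
include hE

theorem eq_omega_three [Finite F] (hn : 7 ≤ Fintype.card ι) (hr : (Module.finrank F K).Prime)
    (hr3 : 3 ≤ Module.finrank F K) (hd : Module.finrank K (ι → F) = 3) {M : Subgroup (GL ι F)} (hM : Over Q K M)
    {g₀ : GL ι F} (hg₀ : g₀ ∈ M) (hg₀N : ¬ Semi K g₀) : M = Geo.omegaGL Q := by
  by_cases hp : ∀ g ∈ M, ∀ v, B hE v v = 0 → B hE (mv g v) (mv g v) = 0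
  · exact absurd (semi_of_preserves hE hM hd.ge hp hg₀) hg₀N
  push Not at hp
  obtain ⟨g, hg, v, hv, hx⟩ := hp
  have hv0 : v ≠ 0 := fun h => hx (by rw [h, mv_zero]; simp)
  obtain ⟨f, b, hfr⟩ := exists_fr hE hd hv0 hv
  by_cases hR : Rigid hE M v
  swap
  · simp only [Rigid, not_forall] at hR
    obtain ⟨Θ, hΘ, hΘ0⟩ := hR
    exact hfr.eq_omega_of_el hE hM hn hr hr3 hΘ hΘ0
  exfalso
  set x := mv g v
  obtain ⟨C, hC⟩ : ∃ C, Tor K M x C := by
    by_cases hno : ∀ w, B hE w x = 0 → B hE w w = 0 → w = 0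
    · exact exists_tor_aniso hE hM hd hx hno
    push Not at hno
    obtain ⟨w, hwx, hww, hw0⟩ := hno
    have hproj : HasProj hE (LinearMap.ker ((B hE).flip x)) := by
      have := (hasProj_top hE).inf hE (Submodule.mem_top (x := x)) hx
      rwa [top_inf_eq] at this
    obtain ⟨f', hf', hh⟩ := exists_partner_in hE hproj (show w ∈ LinearMap.ker ((B hE).flip x) from hwx) hw0 hww
    have hfr' : Fr hE w f' x := ⟨hh, ⟨by rw [B_comm]; exact hwx, by rw [B_comm]; exact hf'⟩, hx, hd⟩
    exact hfr'.exists_tor hE hM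
  by_cases hr5 : 5 ≤ Module.finrank F K
  · exact hfr.no_tor hE hM hR hr hr3 hr5 hg hx hC
  have h3 : Module.finrank F K = 3 := by
    have : Module.finrank F K ≠ 4 := fun h => by rw [h] at hr; norm_num at hr
    omega
  obtain ⟨h, hh, y, hy, w, f', hfr'⟩ := hfr.exists_split hE hM hR hr h3 hg hx hC
  exact hfr.no_split hE hM hR hr h3 hh hy hfr'

end Cfsg.Agent.OrthFieldExt
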