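/-
The normaliser of a self-adjoint extension field of prime degree is maximal in the orthogonal group.
-/
import Cfsg.Agent.Lib.OrthFieldExt.Siegel
import Cfsg.Agent.Lib.OrthFieldExt.Plane
import Cfsg.Agent.Lib.OrthFieldExt.ThreeGroup
import Cfsg.Agent.Lib.Aschbacher.FormField

set_option autoImplicit false
set_option linter.all false
set_option maxHeartbeats 1000000

namespace Cfsg.Agent.OrthFieldExt

open scoped Matrix
open Matrix Cfsg.Agent.Transvec Cfsg.Agent.Transvec.Orth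

variable {ι : Type} [Fintype ι] [DecidableEq ι] {F : Type*} [Field F] {Q : (ι → F) → F}

section Abstract

variable {K : Type*} [Field K] [Algebra F K] [Module K (ι → F)] [IsScalarTower F K (ι → F)] [FiniteDimensional F K]
variable {ℓ : Module.Dual F K} (hE : Ext Q ℓ)
include hE

theorem eq_omega_of_not_semi [Finite F] (hn : 7 ≤ Fintype.card ι) (hr : (Module.finrank F K).Prime)
    (hd : 4 ≤ Module.finrank K (ι → F)) (hd4 : Module.finrank K (ι → F) = 4 → 3 ≤ Module.finrank F K ∨ Aniso hE)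
    {M : Subgroup (GL ι F)} (hM : Over Q K M) {g₀ : GL ι F} (hg₀ : g₀ ∈ M) (hg₀N : ¬ Semi K g₀) :
    M = Geo.omegaGL Q := by
  classical
  obtain ⟨u, hu0, hu, g₁, hg₁, hgu, a₁, ha₁⟩ := exists_nonorth hE hM hd hg₀ hg₀N
  let good : GL ι F → Prop := fun g => g ∈ M ∧ 0 < meet K g u ∧ ∃ z ∈ img K g u, B hE z u ≠ 0
  have hgood : good g₁ := by
    refine ⟨hg₁, Nat.pos_of_ne_zero fun h => hu0 ?_, _, mem_img.2 ⟨a₁, rfl⟩, ha₁⟩
    have hmem : u ∈ line K u ⊓ img K g₁ u :=
      ⟨mem_line.2 ⟨1, one_smul _ _⟩, mem_img.2 ⟨1, by rw [one_smul, hgu]⟩⟩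
    rwa [Submodule.finrank_eq_zero.1 h, Submodule.mem_bot] at hmem
  obtain ⟨g, hgg, hbest⟩ := Set.exists_max_image {g | good g} (fun g => meet K g u) (Set.toFinite _) ⟨g₁, hgood⟩
  have hmax : IsMax hE M g u := ⟨hgg.1, hgg.2.1, hgg.2.2, fun g' h1 h3 h4 => hbest g' ⟨h1, h3, h4⟩⟩
  by_cases hT : ∀ g, IsMax hE M g u → Tight hE g u
  swap
  · push Not at hT
    obtain ⟨g', hmax', hT'⟩ := hT
    exact eq_omega_of_not_tight hE hM hn hr hd hd4 hu hmax' hT'
  obtain ⟨z₀, hz₀, hz₀u⟩ := hmax.nonorth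
  obtain ⟨hmeet, hcoef⟩ := hyperplane hE hM hr hd hd4 hu hu0 hT hmax hz₀ hz₀u
  obtain ⟨c, hc⟩ := exists_ell_mul hE hz₀u
  set e := (ℓ (c * B hE z₀ u))⁻¹ • (c • u) with he
  have heL : e ∈ line K u := Submodule.smul_mem _ _ (mem_line.2 ⟨c, rfl⟩)
  have hone : pol Q e z₀ = 1 := by
    rw [he, pol_smul_left hE.quad, ← ell_B hE, B_comm hE u z₀, inv_mul_cancel₀ hc]
  have hW0 : line K u ⊓ img K g u ≠ ⊥ := fun h => by
    have := hmax.pos
    unfold meet at this
    rw [h, finrank_bot] at this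
    omega
  have hWz : ∀ w ∈ line K u ⊓ img K g u, pol Q w z₀ = 0 := fun w hw =>
    img_pol hE hM hmax.mem hu hw.2 hz₀
  refine eq_omega_of_hyperplane hE hM hn hd hr.two_le hW0 (e := e) (z₀ := z₀)
    ⟨hmax.mem, hu, heL, hz₀, hone, hz₀u, fun l hl => ?_, fun l hl => ?_⟩
  · have hlt : line K u ⊓ img K g u < (line K u ⊓ img K g u) ⊔ F ∙ e := lt_of_le_of_ne le_sup_left fun h => by
      have := hWz e (h ▸ Submodule.mem_sup_right (Submodule.mem_span_singleton_self e))
      rw [hone] at this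
      exact one_ne_zero this
    have hle : (line K u ⊓ img K g u) ⊔ F ∙ e ≤ line K u := sup_le inf_le_left (by simpa using heL)
    have heq := Submodule.eq_of_le_of_finrank_le hle (by
      rw [finrank_line hu0, ← hmeet]
      exact Submodule.finrank_lt_finrank_of_lt hlt)
    rw [← heq] at hl
    obtain ⟨w, hw, t, ht, rfl⟩ := Submodule.mem_sup.1 hl
    obtain ⟨s, rfl⟩ := Submodule.mem_span_singleton.1 ht
    rw [pol_add_left hE.quad, pol_smul_left hE.quad, hWz w hw, hone, zero_add, mul_one, add_sub_cancel_right]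
    exact hw
  · obtain ⟨s, hs⟩ := hcoef l hl
    have h1 : pol Q (l - s • z₀) e = 0 := pol_line hE hM hu hs.1 heL
    rw [pol_sub_left hE.quad, pol_smul_left hE.quad, pol_comm z₀ e, hone, mul_one, sub_eq_zero] at h1
    rwa [h1]

theorem exists_outside [Finite F] (hn : 7 ≤ Fintype.card ι) (hr : (Module.finrank F K).Prime)
    (hd : 3 ≤ Module.finrank K (ι → F)) : ∃ g ∈ Geo.omegaGL Q, ¬ Semi K g := by
  haveI : Module.Finite K (ι → F) := Module.Finite.of_restrictScalars_finite F K _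
  obtain ⟨u, hu0, hu⟩ := exists_singular hE (by omega)
  obtain ⟨f, hff, huf⟩ := exists_partner hE hu0 hu
  have hh : IsHyp hE u f := ⟨hu, hff, huf⟩
  have hr2 := hr.two_le
  obtain ⟨c₂, hc₂, hc₂0⟩ : ∃ c ∈ LinearMap.ker ℓ, c ≠ 0 := Submodule.exists_mem_ne_zero_of_ne_bot fun h => by
    have h1 := LinearMap.finrank_range_add_finrank_ker ℓ
    have h3 := Submodule.finrank_le (LinearMap.range ℓ)
    rw [Module.finrank_self] at h3
    rw [h, finrank_bot] at h1
    omega
  have hQu : Q u = 0 := q_zero_of hE hu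
  have hQb : Q (c₂ • f) = 0 := q_zero_of hE (by simp [hff])
  have hpub : pol Q u (c₂ • f) = 0 := by rw [← ell_B_one hE]; simpa [huf] using hc₂
  obtain ⟨g, -, hgz⟩ := exists_siegel hE.quad hQu hpub
  refine ⟨g, siegel_mem_omega hE.quad hn hQu hpub hgz, ?_⟩
  rintro ⟨σ, hσ⟩
  obtain ⟨y, hy, hyy⟩ := exists_perp_aniso hE hh hd
  have hy0 : y ≠ 0 := fun h => hyy (by rw [h]; simp)
  have hfix : ∀ c : K, mv g (c • y) = c • y := fun c => isSiegel_fix hE.quad hgz
    (by rw [← ell_B_one hE]; simp [hy.1]) (by rw [← ell_B_one hE]; simp [hy.2])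
  have hσid : ∀ c, σ c = c := fun c => smul_left_injective K hy0 (by
    have := hσ c y
    rw [hfix c, show mv g y = y by simpa using hfix 1] at this
    exact this.symm)
  obtain ⟨c, hc⟩ := exists_ell hE (1 : F)
  have hx : ∀ d : K, mv g (d • c • f) = d • c • f + ℓ (d * c) • (c₂ • f) := fun d => by
    rw [hgz, hQb, ← ell_B_one hE, ← ell_B_one hE (d • c • f) (c₂ • f)]
    simp [hff, B_comm hE f u, huf]
  have hall : ∀ d : K, d ∈ F ∙ (1 : K) := fun d => by
    have h1 := hσ d (c • f)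
    have h3 := hx 1
    rw [one_smul, one_mul, hc, one_smul] at h3
    rw [hx d, hσid, h3, smul_add, add_right_inj, ← smul_assoc, smul_smul] at h1
    have h4 := smul_left_injective K (show f ≠ 0 from hh.symm.ne_left) h1
    refine Submodule.mem_span_singleton.2 ⟨ℓ (d * c), mul_right_cancel₀ hc₂0 ?_⟩
    rw [smul_mul_assoc, one_mul]
    exact h4
  have h1 := Submodule.eq_top_iff'.2 hall
  have h3 : Module.finrank F ↥(F ∙ (1 : K)) ≤ 1 := (finrank_span_le_card _).trans (by simp)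
  rw [h1, finrank_top] at h3
  omega

end Abstract

/-- Maximality. -/
theorem normalizer_maximal' [Fintype F] (hQ : Geo.IsNondegenerateQuadraticForm Q)
    (h2 : (2 : F) ≠ 0) {r : ℕ} (hr : r.Prime) {K : Subalgebra F (Matrix ι ι F)}
    (hK : Geo.IsFieldSubalgebra r K) (hsa : Geo.IsSelfAdjointFor (QuadraticMap.polar Q) K)
    (hn : 7 ≤ Fintype.card ι) (hd : ∀ d, d * r = Fintype.card ι →
      3 ≤ d ∧ (d = 3 → 3 ≤ r) ∧ (d = 4 → 3 ≤ r ∨ ¬ Geo.IsPlusTypeOn Q ⊤)) :
    Geo.IsMaximalIn (Geo.omegaGL Q) (Geo.subalgebraNormalizer K ⊓ Geo.omegaGL Q) := by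
  classical
  haveI : Nonempty ι := Fintype.card_pos_iff.1 (by omega)
  letI := Aschbacher.fieldOf hK
  letI : Module K (ι → F) :=
    { smul := fun a v => (a : Matrix ι ι F) *ᵥ v
      one_smul := fun v => Matrix.one_mulVec v
      mul_smul := fun a b v => (Matrix.mulVec_mulVec _ _ _).symm
      smul_zero := fun a => Matrix.mulVec_zero _
      smul_add := fun a v w => Matrix.mulVec_add _ _ _
      add_smul := fun a b v => Matrix.add_mulVec _ _ _
      zero_smul := fun v => Matrix.zero_mulVec v }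
  have hsmul : ∀ (a : K) (v : ι → F), a • v = (a : Matrix ι ι F) *ᵥ v := fun a v => rfl
  haveI : IsScalarTower F K (ι → F) := ⟨fun c a v => by
    rw [hsmul, hsmul]
    exact Matrix.smul_mulVec c _ v⟩
  haveI : FiniteDimensional F K := Module.finite_of_finrank_pos (by rw [hK.finrank_eq]; exact hr.pos)
  obtain ⟨ℓ, hℓ⟩ : ∃ ℓ : Module.Dual F K, ℓ ≠ 0 := by
    obtain ⟨φ, hφ, -⟩ := Submodule.exists_dual_map_eq_bot_of_notMem (p := (⊥ : Submodule F K)) (x := (1 : K))
      (by simpa using one_ne_zero (α := K)) inferInstance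
    exact ⟨φ, fun h => hφ (by rw [h]; rfl)⟩
  have hE : Ext Q ℓ := ⟨hQ, h2, fun a x y => hsa _ a.2 x y, hℓ⟩
  have hrK : (Module.finrank F K).Prime := by rw [hK.finrank_eq]; exact hr
  have hmul := Module.finrank_mul_finrank F K (ι → F)
  rw [hK.finrank_eq, Module.finrank_pi] at hmul
  obtain ⟨hd1, hd3, hd4⟩ := hd (Module.finrank K (ι → F)) (by rw [mul_comm]; exact hmul)
  have hd4' : Module.finrank K (ι → F) = 4 → 3 ≤ Module.finrank F K ∨ Aniso hE := by
    intro h4
    by_cases h3 : 3 ≤ Module.finrank F K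
    · exact Or.inl h3
    refine Or.inr fun u f v hh hv hvv => ?_
    have hr2 : Module.finrank F K = 2 := by have := hrK.two_le; omega
    have hnp := (hd4 h4).resolve_left (by rw [← hK.finrank_eq]; omega)
    by_contra hv0
    refine hnp ⟨line K u ⊔ line K v, le_top, fun x hx => ?_, ?_⟩
    · obtain ⟨p, hp, q, hq, rfl⟩ := Submodule.mem_sup.1 hx
      obtain ⟨s, rfl⟩ := mem_line.1 hp
      obtain ⟨t, rfl⟩ := mem_line.1 hq
      exact q_zero_of hE (by simp [hh.1, hvv, hv.1, B_comm hE u v])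
    · have hinf : line K u ⊓ line K v = ⊥ := eq_bot_iff.2 fun x hx => by
        obtain ⟨s, rfl⟩ := mem_line.1 hx.1
        obtain ⟨t, ht⟩ := mem_line.1 hx.2
        have := congrArg (fun x => B hE x f) ht
        simp [hv.2, hh.2.2] at this
        rw [Submodule.mem_bot, ← this, zero_smul]
      have h1 := Submodule.finrank_sup_add_finrank_inf_eq (line K u) (line K v)
      rw [hinf, finrank_bot, add_zero, finrank_line hh.ne_left, finrank_line hv0, hr2] at h1
      rw [finrank_top, Module.finrank_pi, h1, ← hmul, h4, ← hK.finrank_eq, hr2]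
  have semi_iff : ∀ g : GL ι F, g ∈ Geo.subalgebraNormalizer K ↔ Semi K g := by
    intro g
    constructor
    · intro hg
      refine ⟨fun a => ⟨_, (hg a.1).1 a.2⟩, fun a x => ?_⟩
      show (g : Matrix ι ι F) *ᵥ ((a : Matrix ι ι F) *ᵥ x) = _ *ᵥ ((g : Matrix ι ι F) *ᵥ x)
      rw [Matrix.mulVec_mulVec, Matrix.mulVec_mulVec, mul_assoc, Units.inv_mul, mul_one]
    · rintro ⟨σ, hσ⟩ k
      have hconj : ∀ a : K, (g : Matrix ι ι F) * a.1 * ((g⁻¹ : GL ι F) : Matrix ι ι F) = (σ a).1 := fun a =>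
        Matrix.ext_of_mulVec_single fun i => by
          rw [← Matrix.mulVec_mulVec, ← Matrix.mulVec_mulVec]
          exact (hσ a (mv g⁻¹ _)).trans (by rw [mv_mv_inv]; rfl)
      refine ⟨fun hk => hconj ⟨k, hk⟩ ▸ (σ ⟨k, hk⟩).2, fun hk => ?_⟩
      haveI : Finite K := Module.finite_of_finite F
      have hinj : Function.Injective σ := fun a b h => Subtype.ext (by
        have h' := (hconj a).trans ((congrArg Subtype.val h).trans (hconj b).symm)
        exact (Units.mul_right_inj g).1 ((Units.mul_left_inj g⁻¹).1 h'))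
      obtain ⟨a, ha⟩ := Finite.injective_iff_surjective.1 hinj ⟨_, hk⟩
      have h' := hconj a
      rw [ha] at h'
      rw [← (Units.mul_right_inj g).1 ((Units.mul_left_inj g⁻¹).1 h')]
      exact a.2
  obtain ⟨t, ht, htN⟩ := exists_outside hE hn hrK (by omega)
  refine ⟨lt_of_le_of_ne inf_le_right fun he => htN ((semi_iff t).1 (he.ge ht).1), fun M hHM hMS => ?_⟩
  by_cases hall : ∀ g ∈ M, g ∈ Geo.subalgebraNormalizer K
  · exact Or.inl (le_antisymm (fun g hg => ⟨hall g hg, hMS hg⟩) hHM)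
  push Not at hall
  obtain ⟨g₀, hg₀, hg₀N⟩ := hall
  have hM : Over Q K M := ⟨hMS, fun g hg hk => hHM ⟨(semi_iff g).2 ⟨id, hk⟩, hg⟩⟩
  have hN : ¬ Semi K g₀ := fun h => hg₀N ((semi_iff g₀).2 h)
  refine Or.inr ?_
  by_cases h3 : Module.finrank K (ι → F) = 3
  · exact eq_omega_three hE hn hrK (hK.finrank_eq ▸ hd3 h3) h3 hM hg₀ hN
  · exact eq_omega_of_not_semi hE hn hrK (by omega) hd4' hM hg₀ hN

/-- Maximality, in large dimension or of large degree. -/
theorem normalizer_maximal [Fintype F] (hQ : Geo.IsNondegenerateQuadraticForm Q)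
    (h2 : (2 : F) ≠ 0) {r : ℕ} (hr : r.Prime) {K : Subalgebra F (Matrix ι ι F)}
    (hK : Geo.IsFieldSubalgebra r K) (hsa : Geo.IsSelfAdjointFor (QuadraticMap.polar Q) K)
    (hn : 7 ≤ Fintype.card ι) (hd : ∀ d, d * r = Fintype.card ι → 3 ≤ d ∧ (d ≤ 4 → 5 ≤ r)) :
    Geo.IsMaximalIn (Geo.omegaGL Q) (Geo.subalgebraNormalizer K ⊓ Geo.omegaGL Q) := by
  refine normalizer_maximal' hQ h2 hr hK hsa hn fun d hd' => ?_
  obtain ⟨h3, h4⟩ := hd d hd'
  exact ⟨h3, fun h => (by have := h4 (by omega); omega), fun h => Or.inl (by have := h4 h.le; omega)⟩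

end Cfsg.Agent.OrthFieldExt
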